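import Mathlib

/-!
# Signed degrees with two prescribed sums of reciprocals

A branch and bound over intervals: the unknowns are nonzero integers with given residues modulo
nine, satisfying linear equations and two equations `n * (1 + ∑ K / f) = 648`.
-/

set_option autoImplicit false

namespace Cfsg.Agent.SelfNine

/-- An interval, possibly unbounded. -/
structure Iv where
  lo : Option ℤ
  hi : Option ℤ

def Iv.Mem (x : ℤ) (v : Iv) : Prop :=
  (∀ l, v.lo = some l → l ≤ x) ∧ (∀ h, v.hi = some h → x ≤ h)

def Iv.pt (a : ℤ) : Iv := ⟨some a, some a⟩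

def oadd : Option ℤ → Option ℤ → Option ℤ
  | some a, some b => some (a + b)
  | _, _ => none

def Iv.add (u v : Iv) : Iv := ⟨oadd u.lo v.lo, oadd u.hi v.hi⟩

def Iv.mul (k : ℤ) (v : Iv) : Iv :=
  if k = 0 then .pt 0
  else if 0 < k then ⟨v.lo.map (k * ·), v.hi.map (k * ·)⟩
  else ⟨v.hi.map (k * ·), v.lo.map (k * ·)⟩

def omax : Option ℤ → Option ℤ → Option ℤ
  | some a, some b => some (max a b)
  | some a, none => some a
  | none, b => b

def omin : Option ℤ → Option ℤ → Option ℤ
  | some a, some b => some (min a b)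
  | some a, none => some a
  | none, b => b

def Iv.inter (u v : Iv) : Iv := ⟨omax u.lo v.lo, omin u.hi v.hi⟩

/-- The `x` with `k * x` in the interval. -/
def Iv.div (k : ℤ) (v : Iv) : Iv :=
  if 0 < k then ⟨v.lo.map fun l => -((-l) / k), v.hi.map fun h => h / k⟩
  else if k < 0 then ⟨v.hi.map fun h => -(h / (-k)), v.lo.map fun l => (-l) / (-k)⟩
  else ⟨none, none⟩

/-- Shrink to nonzero numbers congruent to `R` modulo nine. -/
def Iv.norm (R : ℤ) (v : Iv) : Iv :=
  ⟨v.lo.map fun l => if l = 0 then 1 + (R - 1) % 9 else l + (R - l) % 9,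
    v.hi.map fun h => if h = 0 then -1 - (-1 - R) % 9 else h - (h - R) % 9⟩

def Iv.empty (v : Iv) : Bool :=
  match v.lo, v.hi with
  | some l, some h => decide (h < l)
  | _, _ => false

/-- A residue and an interval. -/
abbrev Slot := ℤ × Iv

def dot : List ℤ → List ℤ → ℤ
  | k :: co, x :: f => k * x + dot co f
  | _, _ => 0

def sumIv : List ℤ → List Slot → Iv
  | k :: co, b :: B => (Iv.mul k b.2).add (sumIv co B)
  | _, _ => .pt 0

/-- Tighten by one equation, from left to right. -/
def tight (r : ℤ) : Iv → List ℤ → List Slot → List Slot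
  | acc, k :: co, (R, v) :: B =>
    let v' := if k = 0 then v else
      (v.inter (Iv.div k ((Iv.pt r).add (Iv.mul (-1) (acc.add (sumIv co B)))))).norm R
    (R, v') :: tight r (acc.add (Iv.mul k v')) co B
  | _, _, B => B

/-- Fixed-point bounds of `t / x` for positive `x` between `l` and `h`. -/
def posBnd (t l : ℤ) : Option ℤ → ℤ × ℤ
  | some h => (min (t / l) (t / h), max (-((-t) / l)) (-((-t) / h)))
  | none => (min (t / l) 0, max (-((-t) / l)) 0)

def bnd (t : ℤ) (v : Iv) : ℤ × ℤ :=
  if t = 0 then (0, 0)
  else match v.lo, v.hi with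
    | some l, h =>
      if 0 < l then posBnd t l h
      else match h with
        | some h => if h < 0 then posBnd (-t) (-h) (some (-l)) else (-|t|, |t|)
        | none => (-|t|, |t|)
    | none, some h => if h < 0 then posBnd (-t) (-h) none else (-|t|, |t|)
    | none, none => (-|t|, |t|)

def sumBnd : List ℤ → List Slot → ℤ × ℤ
  | k :: K, b :: B =>
    ((bnd (1000000 * k) b.2).1 + (sumBnd K B).1, (bnd (1000000 * k) b.2).2 + (sumBnd K B).2)
  | _, _ => (0, 0)

def sqLow (v : Iv) : ℤ :=
  match v.lo, v.hi with
  | some l, h =>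
    if 0 < l then l * l
    else match h with
      | some h => if h < 0 then h * h else 1
      | none => 1
  | none, some h => if h < 0 then h * h else 1
  | none, none => 1

def sumSqLow : List Slot → ℤ
  | [] => 0
  | b :: B => sqLow b.2 + sumSqLow B

def points : List Slot → Option (List ℤ)
  | [] => some []
  | (_, v) :: B =>
    match v.lo, v.hi, points B with
    | some l, some h, some f => if l = h then some (l :: f) else none
    | _, _, _ => none

def prodL : List ℤ → ℤ
  | [] => 1
  | x :: f => x * prodL f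

/-- The product times the sum of `K / f`. -/
def numer : List ℤ → List ℤ → ℤ
  | k :: K, x :: f => k * prodL f + x * numer K f
  | _, _ => 0

def sumSq : List ℤ → ℤ
  | [] => 0
  | x :: f => x * x + sumSq f

def leafOK (K1 K2 : List ℤ) (allowed : List (ℤ × List ℤ)) (f : List ℤ) : Bool :=
  let d := prodL f + numer K1 f
  let n := 648 * prodL f / d
  decide (numer K1 f ≠ numer K2 f) || decide (d = 0) || decide ((648 * prodL f) % d ≠ 0) ||
    decide (n ≤ 0) || decide (n % 72 ≠ 0) || decide (n / 72 % 9 ≠ 1) || decide (n < 1 + sumSq f) ||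
    f.any (fun x => n % x != 0) || decide ((n, f) ∈ allowed)

def restrict : ℕ → Iv → List Slot → List Slot
  | 0, w, (R, v) :: B => (R, (v.inter w).norm R) :: B
  | i + 1, w, b :: B => b :: restrict i w B
  | _, _, B => B

/-- A search tree: split an interval, tighten by an equation, or close a branch by an empty
interval, a single point, or the bounds of the weighted sums. -/
inductive Cert where
  | split (i : ℕ) (q : ℤ) (l r : Cert)
  | tighten (e : ℕ) (c : Cert)
  | empty
  | point
  | upper (a : ℕ)
  | large (a : ℕ)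
  | cross (a b : ℕ)

/-- Lower bound of a weighted sum, scaled. -/
def lowSum (W : List (ℤ × List ℤ)) (a : ℕ) (B : List Slot) : ℤ :=
  1000000 * (W.getD a (0, [])).1 + (sumBnd (W.getD a (0, [])).2 B).1

/-- Upper bound of a weighted sum, scaled. -/
def highSum (W : List (ℤ × List ℤ)) (a : ℕ) (B : List Slot) : ℤ :=
  1000000 * (W.getD a (0, [])).1 + (sumBnd (W.getD a (0, [])).2 B).2

/-- The statement of the problem: equations, weighted sums, and the allowed answers. -/
structure Task where
  eqs : List (List ℤ × ℤ)
  K1 : List ℤ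
  K2 : List ℤ
  weights : List (ℤ × List ℤ)
  allowed : List (ℤ × List ℤ)

def check (T : Task) : Cert → List Slot → Bool
  | .split i q l r, B =>
    check T l (restrict i ⟨none, some q⟩ B) && check T r (restrict i ⟨some (q + 1), none⟩ B)
  | .tighten e c, B =>
    check T c (tight (T.eqs.getD e ([], 0)).2 (.pt 0) (T.eqs.getD e ([], 0)).1 B)
  | .empty, B => B.any fun b => b.2.empty
  | .point, B =>
    match points B with
    | some f => leafOK T.K1 T.K2 T.allowed f
    | none => false
  | .upper a, B =>
    decide (0 < (T.weights.getD a (0, [])).1) && decide (highSum T.weights a B ≤ 0)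
  | .large a, B =>
    decide (0 < lowSum T.weights a B) &&
      decide ((T.weights.getD a (0, [])).1 * 648000000 < lowSum T.weights a B * (1 + sumSqLow B))
  | .cross a b, B =>
    decide (0 ≤ (T.weights.getD a (0, [])).1 ∧ 0 ≤ (T.weights.getD b (0, [])).1) &&
      decide (highSum T.weights b B * (T.weights.getD a (0, [])).1 <
        lowSum T.weights a B * (T.weights.getD b (0, [])).1)

/-! Soundness -/

/-- The values fit the slots. -/
def Fits (f : List ℤ) (B : List Slot) : Prop :=
  List.Forall₂ (fun x b => x ≠ 0 ∧ (x - b.1) % 9 = 0 ∧ b.2.Mem x) f B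

theorem mem_pt (a : ℤ) : (Iv.pt a).Mem a :=
  ⟨fun l h => by cases h; exact le_rfl, fun l h => by cases h; exact le_rfl⟩

theorem mem_add {u v : Iv} {x y : ℤ} (hx : u.Mem x) (hy : v.Mem y) : (u.add v).Mem (x + y) := by
  obtain ⟨a, b⟩ := u; obtain ⟨c, d⟩ := v
  refine ⟨fun l h => ?_, fun l h => ?_⟩
  · cases a <;> cases c <;> simp [Iv.add, oadd] at h
    subst h; exact add_le_add (hx.1 _ rfl) (hy.1 _ rfl)
  · cases b <;> cases d <;> simp [Iv.add, oadd] at h
    subst h; exact add_le_add (hx.2 _ rfl) (hy.2 _ rfl)

theorem mem_mul {v : Iv} {x : ℤ} (k : ℤ) (hx : v.Mem x) : (Iv.mul k v).Mem (k * x) := by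
  obtain ⟨a, b⟩ := v
  unfold Iv.mul
  split_ifs with h0 hp
  · subst h0; rw [zero_mul]; exact mem_pt 0
  · refine ⟨fun l h => ?_, fun l h => ?_⟩
    · cases a <;> simp at h
      subst h; exact mul_le_mul_of_nonneg_left (hx.1 _ rfl) hp.le
    · cases b <;> simp at h
      subst h; exact mul_le_mul_of_nonneg_left (hx.2 _ rfl) hp.le
  · refine ⟨fun l h => ?_, fun l h => ?_⟩
    · cases b <;> simp at h
      subst h; exact mul_le_mul_of_nonpos_left (hx.2 _ rfl) (not_lt.1 hp)
    · cases a <;> simp at h
      subst h; exact mul_le_mul_of_nonpos_left (hx.1 _ rfl) (not_lt.1 hp)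

theorem mem_inter {u v : Iv} {x : ℤ} (hx : u.Mem x) (hy : v.Mem x) : (u.inter v).Mem x := by
  obtain ⟨a, b⟩ := u; obtain ⟨c, d⟩ := v
  refine ⟨fun l h => ?_, fun l h => ?_⟩
  · cases a <;> cases c <;> simp [Iv.inter, omax] at h <;> subst h
    · exact hy.1 _ rfl
    · exact hx.1 _ rfl
    · exact max_le (hx.1 _ rfl) (hy.1 _ rfl)
  · cases b <;> cases d <;> simp [Iv.inter, omin] at h <;> subst h
    · exact hy.2 _ rfl
    · exact hx.2 _ rfl
    · exact le_min (hx.2 _ rfl) (hy.2 _ rfl)

theorem mem_div {v : Iv} {x : ℤ} (k : ℤ) (hx : v.Mem (k * x)) : (Iv.div k v).Mem x := by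
  obtain ⟨a, b⟩ := v
  unfold Iv.div
  split_ifs with hp hn
  · refine ⟨fun l h => ?_, fun l h => ?_⟩
    · cases a with
      | none => simp at h
      | some a =>
        simp at h; subst h
        rw [neg_le, Int.le_ediv_iff_mul_le hp]
        linarith [hx.1 _ rfl]
    · cases b with
      | none => simp at h
      | some b =>
        simp at h; subst h
        rw [Int.le_ediv_iff_mul_le hp]
        linarith [hx.2 _ rfl]
  · refine ⟨fun l h => ?_, fun l h => ?_⟩
    · cases b with
      | none => simp at h
      | some b =>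
        simp only [Option.map_some, Option.some.injEq] at h
        subst h
        rw [neg_le, Int.le_ediv_iff_mul_le (neg_pos.2 hn)]
        linarith [hx.2 _ rfl]
    · cases a with
      | none => simp at h
      | some a =>
        simp only [Option.map_some, Option.some.injEq] at h
        subst h
        rw [Int.le_ediv_iff_mul_le (neg_pos.2 hn)]
        linarith [hx.1 _ rfl]
  · exact ⟨fun l h => by simp at h, fun l h => by simp at h⟩

theorem mem_norm {v : Iv} {x R : ℤ} (h0 : x ≠ 0) (hR : (x - R) % 9 = 0) (hx : v.Mem x) :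
    (v.norm R).Mem x := by
  obtain ⟨a, b⟩ := v
  refine ⟨fun l h => ?_, fun l h => ?_⟩
  · cases a with
    | none => simp [Iv.norm] at h
    | some a =>
      have := hx.1 _ rfl
      simp only [Iv.norm, Option.map_some, Option.some.injEq] at h
      subst h
      split_ifs <;> omega
  · cases b with
    | none => simp [Iv.norm] at h
    | some b =>
      have := hx.2 _ rfl
      simp only [Iv.norm, Option.map_some, Option.some.injEq] at h
      subst h
      split_ifs <;> omega

theorem not_empty {v : Iv} {x : ℤ} (hx : v.Mem x) : v.empty = false := by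
  obtain ⟨a, b⟩ := v
  cases a <;> cases b <;> simp only [Iv.empty, decide_eq_false_iff_not, not_lt]
  exact (hx.1 _ rfl).trans (hx.2 _ rfl)

theorem mem_sumIv : ∀ (co f : List ℤ) (B : List Slot), Fits f B → (sumIv co B).Mem (dot co f) := by
  intro co
  induction co with
  | nil => intro f B _; simp [sumIv, dot, mem_pt]
  | cons k co ih =>
    intro f B h
    cases h with
    | nil => simp [sumIv, dot, mem_pt]
    | cons hb ht => exact mem_add (mem_mul k hb.2.2) (ih _ _ ht)

theorem fits_tight (r : ℤ) : ∀ (co f : List ℤ) (B : List Slot) (acc : Iv) (s : ℤ),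
    Fits f B → acc.Mem s → s + dot co f = r → Fits f (tight r acc co B) := by
  intro co
  induction co with
  | nil => intro f B acc s h _ _; simpa [tight] using h
  | cons k co ih =>
    intro f B acc s h hs he
    cases h with
    | nil => exact List.Forall₂.nil
    | @cons x b f B hb ht =>
      obtain ⟨R, v⟩ := b
      simp only [tight]
      simp only [dot] at he
      have hv : (if k = 0 then v else
          (v.inter (Iv.div k ((Iv.pt r).add (Iv.mul (-1) (acc.add (sumIv co B)))))).norm R).Mem x := by
        split_ifs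
        · exact hb.2.2
        · refine mem_norm hb.1 hb.2.1 (mem_inter hb.2.2 (mem_div k ?_))
          rw [show k * x = r + (-1) * (s + dot co f) by linarith]
          exact mem_add (mem_pt r) (mem_mul _ (mem_add hs (mem_sumIv _ _ _ ht)))
      exact List.Forall₂.cons ⟨hb.1, hb.2.1, hv⟩
        (ih f B _ (s + k * x) ht (mem_add hs (mem_mul k hv)) (by linarith))

theorem fits_restrict : ∀ (i : ℕ) (w : Iv) (f : List ℤ) (B : List Slot), Fits f B →
    (∀ x, f[i]? = some x → w.Mem x) → Fits f (restrict i w B) := by
  intro i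
  induction i with
  | zero =>
    intro w f B h hw
    cases h with
    | nil => exact List.Forall₂.nil
    | @cons x b f B hb ht =>
      exact List.Forall₂.cons ⟨hb.1, hb.2.1, mem_norm hb.1 hb.2.1 (mem_inter hb.2.2 (hw x rfl))⟩ ht
  | succ i ih =>
    intro w f B h hw
    cases h with
    | nil => exact List.Forall₂.nil
    | cons hb ht => exact List.Forall₂.cons hb (ih w _ _ ht fun x hx => hw x (by simpa using hx))

theorem posBnd_spec {t l x : ℤ} {h : Option ℤ} (hl : 0 < l) (hlx : l ≤ x)
    (hh : ∀ b, h = some b → x ≤ b) :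
    ((posBnd t l h).1 : ℚ) ≤ (t : ℚ) / x ∧ (t : ℚ) / x ≤ ((posBnd t l h).2 : ℚ) := by
  have hlq : (0 : ℚ) < l := by exact_mod_cast hl
  have hxq : (0 : ℚ) < x := by exact_mod_cast hl.trans_le hlx
  have hlx' : (l : ℚ) ≤ x := by exact_mod_cast hlx
  have fl : ∀ (s m : ℤ), 0 < m → ((s / m : ℤ) : ℚ) ≤ (s : ℚ) / m := fun s m hm => by
    rw [le_div_iff₀ (by exact_mod_cast hm)]
    exact_mod_cast Int.ediv_mul_le s hm.ne'
  have ce : ∀ (s m : ℤ), 0 < m → (s : ℚ) / m ≤ ((-((-s) / m) : ℤ) : ℚ) := fun s m hm => by
    have := fl (-s) m hm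
    push_cast at this ⊢
    rw [neg_div] at this
    linarith
  rcases le_total 0 t with ht | ht
  · have htq : (0 : ℚ) ≤ t := by exact_mod_cast ht
    have h1 : (t : ℚ) / x ≤ (t : ℚ) / l := div_le_div_of_nonneg_left htq hlq hlx'
    cases h with
    | none =>
      simp only [posBnd, Int.cast_min, Int.cast_max, Int.cast_zero]
      exact ⟨(min_le_right _ _).trans (div_nonneg htq hxq.le),
        (h1.trans (ce t l hl)).trans (le_max_left _ _)⟩
    | some b =>
      have hb := hh b rfl
      have hbq : (x : ℚ) ≤ b := by exact_mod_cast hb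
      simp only [posBnd, Int.cast_min, Int.cast_max]
      exact ⟨(min_le_right _ _).trans ((fl t b (by omega)).trans (div_le_div_of_nonneg_left htq hxq hbq)),
        (h1.trans (ce t l hl)).trans (le_max_left _ _)⟩
  · have htq : (t : ℚ) ≤ 0 := by exact_mod_cast ht
    have h1 : (t : ℚ) / l ≤ (t : ℚ) / x := by
      have := div_le_div_of_nonneg_left (neg_nonneg.2 htq) hlq hlx'
      rw [neg_div, neg_div] at this; linarith
    cases h with
    | none =>
      simp only [posBnd, Int.cast_min, Int.cast_max, Int.cast_zero]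
      exact ⟨(min_le_left _ _).trans ((fl t l hl).trans h1),
        (div_nonpos_of_nonpos_of_nonneg htq hxq.le).trans (le_max_right _ _)⟩
    | some b =>
      have hb := hh b rfl
      have hbq : (x : ℚ) ≤ b := by exact_mod_cast hb
      have h2 : (t : ℚ) / x ≤ (t : ℚ) / b := by
        have := div_le_div_of_nonneg_left (neg_nonneg.2 htq) hxq hbq
        rw [neg_div, neg_div] at this; linarith
      simp only [posBnd, Int.cast_min, Int.cast_max]
      exact ⟨(min_le_left _ _).trans ((fl t l hl).trans h1),
        (h2.trans (ce t b (by omega))).trans (le_max_right _ _)⟩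

theorem bnd_spec {t x : ℤ} {v : Iv} (h0 : x ≠ 0) (hx : v.Mem x) :
    ((bnd t v).1 : ℚ) ≤ (t : ℚ) / x ∧ (t : ℚ) / x ≤ ((bnd t v).2 : ℚ) := by
  obtain ⟨a, b⟩ := v
  have habs : (((-|t| : ℤ) : ℚ) ≤ (t : ℚ) / x ∧ (t : ℚ) / x ≤ ((|t| : ℤ) : ℚ)) := by
    have h1 : (1 : ℚ) ≤ |(x : ℚ)| := by exact_mod_cast Int.one_le_abs h0
    have h2 : |(t : ℚ) / x| ≤ |(t : ℚ)| := by
      rw [abs_div]; exact div_le_self (abs_nonneg _) h1
    push_cast
    exact abs_le.1 h2
  have hneg : ∀ (h : ℤ) (l : Option ℤ), x ≤ h → h < 0 → (∀ c, l = some c → -x ≤ c) →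
      ((posBnd (-t) (-h) l).1 : ℚ) ≤ (t : ℚ) / x ∧ (t : ℚ) / x ≤ ((posBnd (-t) (-h) l).2 : ℚ) := by
    intro h l hxh hneg hl
    have := posBnd_spec (t := -t) (h := l) (show 0 < -h by omega) (show -h ≤ -x by omega) hl
    push_cast at this
    rwa [neg_div_neg_eq] at this
  unfold bnd
  split_ifs with ht
  · subst ht; simp
  · cases a with
    | none =>
      cases b with
      | none => exact habs
      | some h =>
        simp only
        split_ifs with hh
        · exact hneg h none (hx.2 _ rfl) hh (fun c hc => by simp at hc)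
        · exact habs
    | some l =>
      simp only
      split_ifs with hl
      · exact posBnd_spec hl (hx.1 _ rfl) (fun c hc => hx.2 c hc)
      · cases b with
        | none => exact habs
        | some h =>
          simp only
          split_ifs with hh
          · exact hneg h _ (hx.2 _ rfl) hh (fun c hc => by
              cases hc; exact neg_le_neg (hx.1 _ rfl))
          · exact habs

/-- The sum of `K / f`. -/
def qsum : List ℤ → List ℤ → ℚ
  | k :: K, x :: f => (k : ℚ) / x + qsum K f
  | _, _ => 0

theorem sumBnd_spec : ∀ (K f : List ℤ) (B : List Slot), Fits f B →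
    ((sumBnd K B).1 : ℚ) ≤ 1000000 * qsum K f ∧ 1000000 * qsum K f ≤ ((sumBnd K B).2 : ℚ) := by
  intro K
  induction K with
  | nil => intro f B _; simp [sumBnd, qsum]
  | cons k K ih =>
    intro f B h
    cases h with
    | nil => simp [sumBnd, qsum]
    | @cons x b f B hb ht =>
      have h1 := bnd_spec (t := 1000000 * k) hb.1 hb.2.2
      have h2 := ih f B ht
      simp only [sumBnd, qsum]
      push_cast at h1 ⊢
      rw [mul_div_assoc] at h1
      constructor <;> linarith [h1.1, h1.2, h2.1, h2.2]

theorem sumSqLow_le : ∀ (f : List ℤ) (B : List Slot), Fits f B → sumSqLow B ≤ sumSq f := by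
  intro f B h
  induction h with
  | nil => simp [sumSqLow, sumSq]
  | @cons x b f B hb _ ih =>
    simp only [sumSqLow, sumSq]
    refine add_le_add ?_ ih
    obtain ⟨R, ⟨a, c⟩⟩ := b
    have h1 : 1 ≤ x * x := by
      have := hb.1
      rcases lt_or_gt_of_ne this with hlt | hgt <;> nlinarith
    unfold sqLow
    cases a <;> cases c <;> simp only <;> try exact h1
    all_goals split_ifs <;> try exact h1
    all_goals
      first
      | (have := hb.2.2.1 _ rfl; nlinarith)
      | (have := hb.2.2.2 _ rfl; nlinarith)

theorem numer_eq : ∀ (K f : List ℤ), (∀ x ∈ f, x ≠ 0) → (numer K f : ℚ) = (prodL f : ℚ) * qsum K f := by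
  intro K
  induction K with
  | nil => intro f _; simp [numer, qsum]
  | cons k K ih =>
    intro f hf
    cases f with
    | nil => simp [numer, qsum]
    | cons x f =>
      have hx : (x : ℚ) ≠ 0 := by exact_mod_cast hf x List.mem_cons_self
      simp only [numer, qsum, prodL]
      push_cast
      rw [ih f fun y hy => hf y (List.mem_cons_of_mem _ hy)]
      field_simp

theorem prodL_ne_zero : ∀ f : List ℤ, (∀ x ∈ f, x ≠ 0) → prodL f ≠ 0
  | [], _ => by simp [prodL]
  | x :: f, h => mul_ne_zero (h x List.mem_cons_self)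
      (prodL_ne_zero f fun y hy => h y (List.mem_cons_of_mem _ hy))

theorem fits_points : ∀ (f : List ℤ) (B : List Slot), Fits f B → ∀ g, points B = some g → g = f := by
  intro f B h
  induction h with
  | nil => intro g hg; simp [points] at hg; exact hg ▸ rfl
  | @cons x b f B hb _ ih =>
    intro g hg
    obtain ⟨R, ⟨a, c⟩⟩ := b
    simp only [points] at hg
    cases a with
    | none => simp at hg
    | some a =>
      cases c with
      | none => simp at hg
      | some c =>
        cases hp : points B with
        | none => simp [hp] at hg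
        | some p =>
          simp only [hp] at hg
          split_ifs at hg with hac
          cases hg
          rw [ih p hp]
          have h1 := hb.2.2.1 _ rfl
          have h2 := hb.2.2.2 _ rfl
          rw [show a = x by omega]

theorem fits_ne {f : List ℤ} {B : List Slot} (h : Fits f B) : ∀ x ∈ f, x ≠ 0 := by
  induction h with
  | nil => simp
  | cons hb _ ih => exact List.forall_mem_cons.2 ⟨hb.1, ih⟩

theorem fits_mem {f : List ℤ} {B : List Slot} (h : Fits f B) : ∀ b ∈ B, ∃ x, b.2.Mem x := by
  induction h with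
  | nil => simp
  | @cons x c f C hc _ ih => exact List.forall_mem_cons.2 ⟨⟨x, hc.2.2⟩, ih⟩

theorem sumSq_nonneg : ∀ f : List ℤ, 0 ≤ sumSq f
  | [] => by simp [sumSq]
  | x :: f => by simp only [sumSq]; nlinarith [mul_self_nonneg x, sumSq_nonneg f]

/-- The conditions on a solution. -/
structure Sol (T : Task) (n : ℤ) (f : List ℤ) : Prop where
  lin : ∀ e ∈ T.eqs, dot e.1 f = e.2
  wsum : ∀ w ∈ T.weights, (n : ℚ) * (w.1 + qsum w.2 f) = 648 * w.1
  one : (n : ℚ) * (1 + qsum T.K1 f) = 648
  two : (n : ℚ) * (1 + qsum T.K2 f) = 648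
  div72 : n % 72 = 0
  mod9 : n / 72 % 9 = 1
  sq : 1 + sumSq f ≤ n
  dvd : ∀ x ∈ f, n % x = 0

/-- A weighted sum is determined by the order. -/
theorem sum_pair (T : Task) {n : ℤ} {f : List ℤ} (hs : Sol T n f) (a : ℕ) :
    (0 : ℚ) < n ∧ ((T.weights.getD a (0, [])).1 : ℚ) + qsum (T.weights.getD a (0, [])).2 f =
      648 * ((T.weights.getD a (0, [])).1 : ℚ) / n := by
  have hn : (0 : ℚ) < n := by
    have := sumSq_nonneg f
    have : 0 < n := by linarith [hs.sq]
    exact_mod_cast this
  refine ⟨hn, ?_⟩
  rcases Nat.lt_or_ge a T.weights.length with hlt | hge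
  · rw [List.getD_eq_getElem _ _ hlt, eq_div_iff hn.ne', mul_comm]
    exact hs.wsum _ (List.getElem_mem hlt)
  · rw [List.getD_eq_default _ _ hge]; simp [qsum]

theorem low_spec (T : Task) {f : List ℤ} {B : List Slot} (hf : Fits f B) (a : ℕ) :
    ((lowSum T.weights a B : ℤ) : ℚ) ≤
      1000000 * (((T.weights.getD a (0, [])).1 : ℚ) + qsum (T.weights.getD a (0, [])).2 f) := by
  have h := (sumBnd_spec (T.weights.getD a (0, [])).2 f B hf).1
  simp only [lowSum]; push_cast; linarith

theorem high_spec (T : Task) {f : List ℤ} {B : List Slot} (hf : Fits f B) (a : ℕ) :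
    1000000 * (((T.weights.getD a (0, [])).1 : ℚ) + qsum (T.weights.getD a (0, [])).2 f) ≤
      ((highSum T.weights a B : ℤ) : ℚ) := by
  have h := (sumBnd_spec (T.weights.getD a (0, [])).2 f B hf).2
  simp only [highSum]; push_cast; linarith

theorem check_sound (T : Task) : ∀ (C : Cert) (B : List Slot) (n : ℤ) (f : List ℤ), Fits f B →
    Sol T n f → check T C B = true → (n, f) ∈ T.allowed := by
  intro C
  induction C with
  | split i q l r ihl ihr =>
    intro B n f hf hs h
    simp only [check, Bool.and_eq_true] at h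
    by_cases hle : ∀ x, f[i]? = some x → x ≤ q
    · exact ihl _ n f (fits_restrict i _ f B hf fun x hx =>
        ⟨fun l hl => by simp at hl, fun l hl => by cases hl; exact hle x hx⟩) hs h.1
    · push Not at hle
      obtain ⟨y, hy, hlt⟩ := hle
      exact ihr _ n f (fits_restrict i _ f B hf fun x hx =>
        ⟨fun l hl => by
          cases hl
          rw [hy] at hx; cases hx
          omega, fun l hl => by simp at hl⟩) hs h.2
  | tighten e c ih =>
    intro B n f hf hs h
    simp only [check] at h
    refine ih _ n f (fits_tight _ _ f B _ 0 hf (mem_pt 0) ?_) hs h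
    rw [zero_add]
    rcases Nat.lt_or_ge e T.eqs.length with hlt | hge
    · rw [List.getD_eq_getElem _ _ hlt]; exact hs.lin _ (List.getElem_mem hlt)
    · rw [List.getD_eq_default _ _ hge]; rfl
  | empty =>
    intro B n f hf _ h
    obtain ⟨b, hb, hbe⟩ := List.any_eq_true.1 h
    obtain ⟨x, hxb⟩ := fits_mem hf b hb
    rw [not_empty hxb] at hbe
    exact absurd hbe (by simp)
  | point =>
    intro B n f hf hs h
    have hne := fits_ne hf
    simp only [check] at h
    split at h
    · rename_i g hg
      obtain rfl := fits_points f B hf g hg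
      have hn : (0 : ℚ) < n := by
        have := sumSq_nonneg g
        have : 0 < n := by linarith [hs.sq]
        exact_mod_cast this
      simp only [leafOK, Bool.or_eq_true, decide_eq_true_eq, List.any_eq_true, bne_iff_ne] at h
      have hP : (prodL g : ℚ) ≠ 0 := by exact_mod_cast prodL_ne_zero g hne
      have q1 : n * (prodL g + numer T.K1 g) = 648 * prodL g := by
        have : (n : ℚ) * ((prodL g : ℚ) + numer T.K1 g) = 648 * (prodL g : ℚ) := by
          rw [numer_eq T.K1 g hne]; linear_combination (prodL g : ℚ) * hs.one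
        exact_mod_cast this
      have q2 : numer T.K1 g = numer T.K2 g := by
        have : (numer T.K1 g : ℚ) = numer T.K2 g := by
          rw [numer_eq T.K1 g hne, numer_eq T.K2 g hne]
          have hq : qsum T.K1 g = qsum T.K2 g := by
            have := mul_left_cancel₀ hn.ne' (hs.one.trans hs.two.symm)
            linarith
          rw [hq]
        exact_mod_cast this
      have hd : prodL g + numer T.K1 g ≠ 0 := fun e => by
        rw [e, mul_zero] at q1
        exact prodL_ne_zero g hne (by linarith)
      have hquot : 648 * prodL g / (prodL g + numer T.K1 g) = n := by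
        rw [← q1, Int.mul_ediv_cancel _ hd]
      rw [hquot] at h
      have hmod : 648 * prodL g % (prodL g + numer T.K1 g) = 0 := by rw [← q1, Int.mul_emod_left]
      rcases h with (((((((h | h) | h) | h) | h) | h) | h) | ⟨x, hx, h⟩) | h
      · exact absurd q2 h
      · exact absurd h hd
      · exact absurd hmod h
      · exact absurd h (by linarith [hs.sq, sumSq_nonneg g])
      · exact absurd hs.div72 h
      · exact absurd hs.mod9 h
      · exact absurd hs.sq (not_le.2 h)
      · exact absurd (hs.dvd x hx) h
      · exact h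
    · simp at h
  | upper a =>
    intro B n f hf hs h
    simp only [check, Bool.and_eq_true, decide_eq_true_eq] at h
    obtain ⟨hn, hw⟩ := sum_pair T hs a
    have hb := high_spec T hf a
    have h1 : ((highSum T.weights a B : ℤ) : ℚ) ≤ 0 := by exact_mod_cast h.2
    have h2 : (0 : ℚ) < ((T.weights.getD a (0, [])).1 : ℚ) := by exact_mod_cast h.1
    rw [hw] at hb
    have : (0 : ℚ) < 1000000 * (648 * ((T.weights.getD a (0, [])).1 : ℚ) / n) := by positivity
    linarith
  | large a =>
    intro B n f hf hs h
    simp only [check, Bool.and_eq_true, decide_eq_true_eq] at h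
    obtain ⟨hn, hw⟩ := sum_pair T hs a
    have hb := low_spec T hf a
    rw [hw] at hb
    have hsqle : ((1 + sumSqLow B : ℤ) : ℚ) ≤ n := by
      have := sumSqLow_le f B hf
      exact_mod_cast show 1 + sumSqLow B ≤ n by linarith [hs.sq]
    have hlo' : (0 : ℚ) < ((lowSum T.weights a B : ℤ) : ℚ) := by exact_mod_cast h.1
    have hbig := (Int.cast_lt (R := ℚ)).2 h.2
    have h1 := mul_le_mul_of_nonneg_left hsqle hlo'.le
    have h2 := mul_le_mul_of_nonneg_right hb hn.le
    rw [mul_assoc, div_mul_cancel₀ _ hn.ne'] at h2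
    push_cast at hbig h1 h2
    linarith
  | cross a b =>
    intro B n f hf hs h
    simp only [check, Bool.and_eq_true, decide_eq_true_eq] at h
    obtain ⟨hn, hwa⟩ := sum_pair T hs a
    obtain ⟨-, hwb⟩ := sum_pair T hs b
    have ha := low_spec T hf a
    have hb := high_spec T hf b
    rw [hwa] at ha
    rw [hwb] at hb
    have h1 : (0 : ℚ) ≤ ((T.weights.getD a (0, [])).1 : ℚ) := by exact_mod_cast h.1.1
    have h2 : (0 : ℚ) ≤ ((T.weights.getD b (0, [])).1 : ℚ) := by exact_mod_cast h.1.2
    have h3 := (Int.cast_lt (R := ℚ)).2 h.2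
    have h4 := mul_le_mul_of_nonneg_right ha h2
    have h5 := mul_le_mul_of_nonneg_right hb h1
    push_cast at h3
    have h6 : 1000000 * (648 * ((T.weights.getD a (0, [])).1 : ℚ) / n) * ((T.weights.getD b (0, [])).1 : ℚ) =
        1000000 * (648 * ((T.weights.getD b (0, [])).1 : ℚ) / n) * ((T.weights.getD a (0, [])).1 : ℚ) := by ring
    linarith

end Cfsg.Agent.SelfNine
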