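import Cfsg.Agent.Lib.SelfNine.OctSearch
import Cfsg.Agent.Lib.SelfNine.OctBound

/-!
# The possible signed degrees for automizer dihedral of order eight

The search trees are checked by `SelfNine.check`.
-/

set_option autoImplicit false

namespace Cfsg.Agent.SelfNine

/-- Six times the coefficient of a row, as a linear form in `(x, y, w, u)`. -/
def octForms : List (ℤ × ℤ × ℤ × ℤ) :=
  [(-1, -2, -3, 0), (-1, -2, 3, 0), (-2, -1, 0, -3), (-2, -1, 0, 3), (0, 0, -6, 0), (1, -1, -3, 3),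
   (1, -1, -3, -3), (1, -1, 3, 3), (1, -1, 3, -3), (0, 0, 0, -6), (2, -2, 0, 0), (0, 0, -6, -6),
   (0, 0, -6, 6)]

def octCoef (c : ℤ × ℤ × ℤ × ℤ) (v : V5) : ℤ :=
  (c.1 * v.x + c.2.1 * v.y + c.2.2.1 * v.w + c.2.2.2 * v.u) / 6

def octRhs (c : ℤ × ℤ × ℤ × ℤ) : ℤ := -(c.1 + c.2.1 + c.2.2.1 + c.2.2.2) / 6

def octEqs (rows : List V5) : List (List ℤ × ℤ) :=
  octForms.map fun c => (rows.map (octCoef c), octRhs c)

def octK1 (v : V5) : ℤ := v.x * v.x * v.y

def octK2 (v : V5) : ℤ := v.x * v.y * v.y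

def octStart (rows : List V5) : List Slot :=
  rows.map fun v => ((-4 * (v.x + v.y)) % 9, ⟨none, none⟩)

/-- The weighted sums of reciprocals. -/
def octWeights (rows : List V5) : List (ℤ × List ℤ) :=
  [(1, rows.map octK1), (1, rows.map octK2), (0, rows.map fun v => octK1 v - octK2 v),
   (2, rows.map fun v => octK1 v + octK2 v)]

def octTask (rows : List V5) (allowed : List (ℤ × List ℤ)) : Task :=
  ⟨octEqs rows, rows.map octK1, rows.map octK2, octWeights rows, allowed⟩

/-- The solutions, all for the fourth family. -/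
def octSols : List (ℤ × List ℤ) :=
  [(72, [-2, 4, 4, 4, 4, -1, -1, -1]), (720, [16, -5, -5, -5, -5, -1, -10, -10]),
   (2016, [7, -14, -14, -14, -14, -1, 8, 8]), (201600, [25, -5, -32, -5, -32, -28, 8, 8]),
   (20160, [16, -14, -5, -14, -5, 8, -10, -10]), (20160, [7, -5, 4, -5, 4, 8, -10, -10]),
   (720, [16, 4, -5, 4, -5, -10, -10, -10]), (38304, [7, 4, -14, 4, -14, -19, 8, 8])]

def octCert0_1 : Cert :=
  (.split 0 (-1) (.split 2 (-1) (.split 3 (-1) (.tighten 3 (.tighten 6 (.tighten 7 (.tighten 8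
    (.large 1))))) (.split 4 (-1) (.tighten 2 (.tighten 4 (.tighten 6 (.split 0 (-3) (.tighten 2
    (.split 0 (-12) (.tighten 2 (.tighten 4 (.tighten 6 (.large 1)))) (.tighten 0 (.large 1))))
    (.tighten 0 (.tighten 1 (.tighten 2 (.large 0)))))))) (.split 0 (-3) (.split 5 (-1) (.tighten
    2 (.tighten 4 (.tighten 6 (.split 5 (-2) (.tighten 0 (.tighten 2 (.tighten 4 (.tighten 7
    (.large 0))))) (.tighten 0 (.tighten 1 (.tighten 2 (.tighten 4 .empty)))))))) (.tighten 4
    (.tighten 6 (.tighten 7 (.split 4 5 (.tighten 0 (.tighten 2 (.large 0))) (.tighten 0 (.tighten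
    4 (.tighten 7 (.large 1))))))))) (.tighten 2 (.tighten 4 (.tighten 6 (.large 0))))))) (.split
    3 (-1) (.split 4 (-1) (.tighten 2 (.tighten 4 (.tighten 6 (.split 0 (-3) (.tighten 2 (.split 0
    (-12) (.tighten 2 (.tighten 4 (.tighten 6 (.large 1)))) (.tighten 0 (.large 1)))) (.tighten 0
    (.tighten 1 (.tighten 2 (.large 0)))))))) (.split 0 (-3) (.split 5 (-1) (.tighten 2 (.tighten
    4 (.tighten 6 (.split 5 (-2) (.tighten 0 (.tighten 2 (.tighten 4 (.tighten 7 (.large 0)))))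
    (.tighten 0 (.tighten 1 (.tighten 2 (.tighten 4 .empty)))))))) (.tighten 4 (.tighten 6
    (.tighten 7 (.split 4 5 (.tighten 0 (.tighten 2 (.large 0))) (.tighten 0 (.tighten 4 (.tighten
    7 (.large 1))))))))) (.tighten 2 (.tighten 4 (.tighten 6 (.large 0)))))) (.tighten 6 (.tighten
    8 (.split 4 (-1) (.split 0 (-3) (.split 2 5 (.cross 2 0) (.tighten 6 (.tighten 8 (.large 3))))
    (.tighten 0 (.tighten 2 (.large 0)))) (.tighten 2 (.tighten 7 (.large 0)))))))) (.split 2 (-1)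
    (.split 3 (-1) (.tighten 6 (.tighten 8 (.split 4 (-1) (.tighten 2 (.tighten 7 (.large 1)))
    (.split 0 8 (.tighten 0 (.tighten 2 (.upper 3))) (.split 4 5 (.tighten 7 (.split 2 (-6)
    (.tighten 3 (.tighten 6 (.tighten 7 (.tighten 8 (.large 0))))) (.split 3 (-6) (.tighten 3
    (.tighten 6 (.tighten 7 (.tighten 8 (.large 0))))) (.tighten 6 (.tighten 7 (.tighten 8 (.large
    1))))))) (.tighten 2 (.tighten 4 (.split 2 (-6) (.tighten 4 (.large 1)) (.tighten 4 (.tighten
    6 (.large 1))))))))))) (.split 4 (-1) (.split 5 (-1) (.tighten 4 (.tighten 6 (.tighten 7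
    (.split 0 8 (.tighten 0 .empty) (.tighten 0 (.tighten 4 (.split 3 5 (.large 0) (.tighten 6
    (.large 1))))))))) (.tighten 2 (.tighten 4 (.tighten 6 (.split 0 8 (.tighten 0 (.tighten 1
    (.tighten 2 (.upper 3)))) (.tighten 0 (.tighten 2 (.tighten 4 (.tighten 7 (.large 1))))))))))
    (.tighten 2 (.tighten 4 (.tighten 6 (.split 0 8 (.tighten 0 (.tighten 1 (.tighten 2 (.split 3
    5 (.upper 1) (.tighten 3 (.upper 1)))))) (.tighten 2 (.split 3 5 (.large 0) (.tighten 6
    (.split 4 5 (.tighten 7 (.large 0)) (.tighten 2 (.tighten 4 (.tighten 6 (.large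
    0)))))))))))))) (.split 3 (-1) (.split 4 (-1) (.split 5 (-1) (.tighten 4 (.tighten 6 (.tighten
    7 (.split 0 8 (.tighten 0 .empty) (.tighten 0 (.tighten 4 (.split 2 5 (.large 0) (.tighten 6
    (.large 1))))))))) (.tighten 2 (.tighten 4 (.tighten 6 (.split 0 8 (.tighten 0 (.tighten 1
    (.tighten 2 (.upper 3)))) (.tighten 0 (.tighten 2 (.tighten 4 (.tighten 7 (.large 1))))))))))
    (.tighten 2 (.tighten 4 (.tighten 6 (.split 0 8 (.tighten 0 (.tighten 1 (.tighten 2 (.split 2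
    5 (.upper 1) (.tighten 3 (.upper 1)))))) (.tighten 2 (.split 2 5 (.large 0) (.tighten 6
    (.split 4 5 (.tighten 7 (.large 0)) (.tighten 2 (.tighten 4 (.tighten 6 (.large 0)))))))))))))
    (.tighten 3 (.tighten 6 (.tighten 7 (.tighten 8 (.split 0 8 (.upper 1) (.tighten 0 (.tighten 2
    (.large 0)))))))))))

/-- The search tree of family 0. -/
def octCert0 : Cert :=
  octCert0_1

def octCert1_1 : Cert :=
  (.split 2 (-1) (.split 4 (-1) (.split 5 (-1) (.split 6 (-1) (.tighten 0 (.tighten 2 (.split 4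
    (-2) (.tighten 2 (.tighten 6 (.split 5 (-2) (.tighten 0 (.tighten 7 (.large 3))) (.large 0))))
    (.split 5 (-2) (.tighten 0 (.tighten 1 (.large 1))) (.split 6 (-2) (.tighten 0 (.tighten 1
    (.tighten 2 (.tighten 3 (.tighten 4 (.large 0)))))) (.tighten 0 (.tighten 2 (.tighten 3
    (.tighten 4 .point))))))))) (.tighten 6 (.tighten 7 (.split 4 (-2) (.tighten 0 (.tighten 2
    (.split 1 (-6) (.tighten 6 (.large 0)) (.split 2 (-6) (.tighten 7 (.tighten 8 (.large 1)))
    (.split 6 9 (.tighten 6 (.tighten 7 (.split 4 (-20) (.tighten 0 (.tighten 1 .empty)) (.tighten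
    0 (.large 0))))) (.tighten 0 (.tighten 2 (.tighten 6 (.tighten 7 (.large 0)))))))))) (.tighten
    0 (.tighten 1 (.tighten 2 .empty))))))) (.tighten 8 (.split 6 (-1) (.tighten 2 (.split 4 (-2)
    (.tighten 2 (.tighten 8 (.split 6 (-2) (.tighten 2 (.tighten 6 (.large 0))) (.tighten 0
    (.tighten 1 (.tighten 2 (.tighten 4 (.tighten 6 (.tighten 7 .empty))))))))) (.split 6 (-2)
    (.tighten 2 (.tighten 6 (.large 0))) (.tighten 0 (.tighten 1 (.tighten 2 .empty))))))
    (.tighten 0 (.tighten 1 (.tighten 2 (.tighten 4 (.tighten 7 .empty)))))))) (.split 5 (-1)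
    (.tighten 8 (.split 6 (-1) (.tighten 0 (.split 5 (-2) (.tighten 0 (.tighten 8 (.split 6 (-2)
    (.tighten 0 (.tighten 7 (.large 1))) (.tighten 2 (.tighten 3 (.tighten 6 .empty)))))) (.split
    6 (-2) (.tighten 0 (.tighten 7 (.large 0))) (.tighten 0 (.tighten 2 (.tighten 3 .empty))))))
    (.tighten 2 (.tighten 3 (.tighten 6 .empty))))) (.split 6 (-1) (.split 6 (-2) (.split 1 (-6)
    (.split 2 (-6) (.split 1 (-15) (.split 2 (-15) (.large 0) (.tighten 7 (.tighten 8 (.large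
    0)))) (.tighten 6 (.split 2 (-15) (.tighten 8 (.large 1)) (.tighten 7 (.split 4 9 (.tighten 1
    (.tighten 2 (.tighten 3 .point))) (.tighten 8 (.large 0))))))) (.tighten 7 (.tighten 8 (.large
    0)))) (.tighten 6 (.split 2 (-6) (.tighten 2 (.large 1)) (.tighten 2 (.tighten 7 (.tighten 8
    (.split 6 (-11) (.tighten 0 (.tighten 2 (.tighten 6 (.tighten 7 (.large 0))))) (.tighten 6
    (.tighten 7 (.split 4 18 (.tighten 0 .point) (.tighten 0 (.tighten 1 .empty))))))))))))
    (.tighten 0 (.tighten 2 (.tighten 3 (.tighten 4 (.tighten 6 .empty)))))) (.tighten 0 (.tighten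
    2 (.tighten 3 (.tighten 4 (.tighten 6 .empty)))))))) (.split 4 (-1) (.split 5 (-1) (.tighten 8
    (.split 6 (-1) (.tighten 0 (.tighten 2 (.tighten 4 (.tighten 6 (.tighten 7 .empty)))))
    (.tighten 6 (.split 5 (-2) (.tighten 2 (.split 2 5 (.tighten 7 (.large 1)) (.tighten 8 (.large
    1)))) (.tighten 0 (.tighten 2 (.tighten 7 (.large 0)))))))) (.split 6 (-1) (.tighten 2
    (.tighten 7 (.split 4 (-2) (.tighten 2 (.tighten 6 (.split 6 (-2) (.tighten 0 (.tighten 2
    (.tighten 6 (.tighten 7 (.large 0))))) (.large 1)))) (.split 6 (-2) (.tighten 0 (.tighten 2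
    (.tighten 4 (.tighten 6 (.tighten 7 (.large 0)))))) (.tighten 2 (.tighten 6 (.cross 0 2)))))))
    (.tighten 0 (.tighten 6 (.tighten 7 (.large 1)))))) (.tighten 8 (.split 6 (-1) (.tighten 7
    (.split 6 (-2) (.tighten 7 (.split 2 5 (.tighten 0 (.large 1)) (.tighten 0 (.tighten 7 (.large
    1))))) (.tighten 0 (.tighten 2 (.tighten 3 (.tighten 6 .empty)))))) (.tighten 0 (.tighten 2
    (.tighten 3 (.tighten 6 .empty))))))))

/-- The search tree of family 1. -/
def octCert1 : Cert :=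
  (.split 1 (-1) octCert1_1 (.split 2 (-1) (.split 4 (-1) (.tighten 8 (.split 6 (-1) (.tighten 0
    (.tighten 2 (.tighten 3 (.tighten 6 .empty)))) (.tighten 7 (.split 4 (-2) (.tighten 0 (.split
    1 5 (.tighten 6 (.large 0)) (.tighten 8 (.large 0)))) (.tighten 0 (.tighten 2 (.tighten 6
    (.large 0)))))))) (.split 5 (-1) (.split 6 (-1) (.tighten 0 (.tighten 6 (.split 5 (-2)
    (.tighten 0 (.tighten 7 (.split 6 (-2) (.tighten 0 (.tighten 2 (.tighten 6 (.tighten 7 (.large
    0))))) (.large 0)))) (.split 6 (-2) (.tighten 0 (.tighten 2 (.tighten 3 (.tighten 5 (.tighten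
    7 (.large 0)))))) (.tighten 0 (.tighten 7 (.cross 0 1))))))) (.tighten 2 (.tighten 6 (.tighten
    7 (.large 0))))) (.tighten 8 (.split 6 (-1) (.tighten 6 (.split 6 (-2) (.tighten 6 (.split 1 5
    (.tighten 2 (.large 0)) (.tighten 2 (.tighten 6 (.large 0))))) (.tighten 0 (.tighten 2
    (.tighten 4 (.tighten 6 (.tighten 7 .empty))))))) (.tighten 0 (.tighten 2 (.tighten 4
    (.tighten 6 (.tighten 7 .empty))))))))) (.split 4 (-1) (.split 5 (-1) (.split 6 (-1) (.tighten
    0 (.tighten 2 (.tighten 3 (.tighten 4 (.tighten 6 .empty))))) (.split 4 (-2) (.split 5 (-2)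
    (.split 1 5 (.tighten 6 (.split 2 5 (.tighten 7 (.split 6 9 (.tighten 6 (.tighten 7 (.split 4
    (-11) (.tighten 0 (.tighten 1 .empty)) (.tighten 0 .point)))) (.tighten 0 (.tighten 2
    (.tighten 6 (.tighten 7 (.large 0))))))) (.tighten 8 (.large 0)))) (.split 2 5 (.tighten 7
    (.tighten 8 (.large 1))) (.split 1 14 (.tighten 6 (.split 2 14 (.tighten 7 (.split 6 9
    (.tighten 0 (.tighten 2 (.tighten 3 (.tighten 4 (.tighten 6 .empty))))) (.tighten 6 (.tighten
    7 (.large 0))))) (.tighten 8 (.large 0)))) (.large 0)))) (.tighten 0 (.tighten 7 (.large 0))))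
    (.tighten 2 (.tighten 6 (.split 5 (-2) (.large 1) (.tighten 0 (.tighten 1 (.large 0))))))))
    (.tighten 8 (.split 6 (-1) (.tighten 2 (.tighten 3 (.tighten 6 .empty))) (.tighten 0 (.tighten
    7 (.split 4 (-2) (.large 3) (.tighten 2 (.tighten 6 (.large 0))))))))) (.split 5 (-1)
    (.tighten 8 (.split 6 (-1) (.tighten 0 (.tighten 1 (.tighten 2 (.tighten 4 (.tighten 7
    .empty))))) (.tighten 2 (.tighten 6 (.split 5 (-2) (.large 3) (.tighten 0 (.tighten 7 (.large
    0)))))))) (.split 6 (-1) (.tighten 6 (.tighten 7 (.split 6 (-2) (.tighten 0 (.tighten 2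
    (.tighten 6 (.tighten 7 (.large 3))))) (.split 1 5 (.tighten 6 (.split 2 5 (.tighten 2
    (.tighten 4 (.tighten 5 .point))) (.tighten 1 (.tighten 2 (.tighten 3 (.large 0))))))
    (.tighten 6 (.large 0)))))) (.tighten 0 (.tighten 2 (.tighten 6 (.tighten 7 (.large
    0))))))))))

def octCert2_1 : Cert :=
  (.split 2 (-1) (.split 4 (-1) (.split 5 (-1) (.split 6 (-1) (.tighten 0 (.tighten 3 (.split 4
    (-2) (.tighten 3 (.tighten 5 (.split 5 (-2) (.tighten 0 (.tighten 2 (.tighten 3 (.tighten 5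
    (.tighten 8 (.large 0)))))) (.large 0)))) (.split 5 (-2) (.tighten 0 (.tighten 1 (.tighten 2
    (.tighten 3 (.tighten 4 (.tighten 5 (.large 0))))))) (.split 6 (-2) (.tighten 0 (.tighten 1
    (.tighten 2 (.tighten 3 (.tighten 4 (.tighten 5 (.large 0))))))) (.tighten 0 (.tighten 3
    (.tighten 4 (.tighten 5 .point))))))))) (.split 4 (-2) (.tighten 7 (.split 5 (-2) (.split 2
    (-6) (.tighten 7 (.large 0)) (.cross 0 1)) (.tighten 0 (.tighten 1 (.tighten 3 (.tighten 4
    (.tighten 6 (.tighten 7 (.tighten 8 .empty))))))))) (.split 5 (-2) (.split 1 (-6) (.tighten 7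
    (.large 0)) (.tighten 7 (.split 6 9 (.tighten 0 (.tighten 1 (.tighten 3 (.tighten 6 .point))))
    (.large 0)))) (.tighten 0 (.tighten 1 (.tighten 3 .empty)))))) (.split 6 (-1) (.split 4 (-2)
    (.tighten 7 (.split 6 (-2) (.split 2 (-6) (.tighten 7 (.large 0)) (.cross 0 1)) (.tighten 0
    (.tighten 1 (.tighten 3 (.tighten 4 (.tighten 6 (.tighten 7 (.tighten 8 .empty)))))))))
    (.split 6 (-2) (.split 1 (-6) (.tighten 7 (.large 0)) (.tighten 7 (.split 5 9 (.tighten 0
    (.tighten 1 (.tighten 3 (.tighten 6 .point)))) (.large 0)))) (.tighten 0 (.tighten 1 (.tighten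
    3 .empty))))) (.tighten 0 (.tighten 1 (.tighten 3 (.tighten 4 (.tighten 6 (.tighten 7
    (.tighten 8 .empty))))))))) (.tighten 7 (.split 5 (-1) (.split 6 (-1) (.tighten 0 (.split 5
    (-2) (.tighten 0 (.tighten 8 (.split 6 (-2) (.tighten 0 (.tighten 8 (.large 1))) (.large 0))))
    (.split 6 (-2) (.tighten 0 (.tighten 8 (.large 0))) (.tighten 0 (.tighten 2 (.tighten 3
    .empty)))))) (.split 5 (-2) (.split 1 (-6) (.tighten 7 (.split 1 (-15) (.tighten 7 (.large 0))
    (.large 1))) (.cross 0 2)) (.tighten 0 (.tighten 2 (.tighten 3 .empty))))) (.split 6 (-1)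
    (.split 6 (-2) (.split 1 (-6) (.tighten 7 (.split 1 (-15) (.tighten 7 (.large 0)) (.large 1)))
    (.cross 0 2)) (.tighten 0 (.tighten 2 (.tighten 3 .empty)))) (.tighten 0 (.tighten 2 (.tighten
    3 .empty))))))) (.tighten 7 (.split 5 (-1) (.split 6 (-1) (.tighten 0 (.tighten 3 (.tighten 4
    (.tighten 5 (.tighten 6 (.tighten 8 .empty)))))) (.split 5 (-2) (.split 2 5 (.cross 0 2)
    (.tighten 7 (.split 1 (-6) (.tighten 7 (.large 1)) (.large 1)))) (.tighten 0 (.tighten 2
    (.tighten 3 (.tighten 8 (.large 0))))))) (.split 6 (-1) (.split 6 (-2) (.split 2 5 (.cross 0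
    2) (.tighten 7 (.split 1 (-6) (.tighten 7 (.large 1)) (.large 1)))) (.tighten 0 (.tighten 2
    (.tighten 3 (.tighten 8 (.large 0)))))) (.tighten 0 (.tighten 2 (.tighten 3 (.tighten 8
    (.large 1)))))))))

/-- The search tree of family 2. -/
def octCert2 : Cert :=
  (.split 1 (-1) octCert2_1 (.split 2 (-1) (.tighten 7 (.split 5 (-1) (.split 6 (-1) (.tighten 0
    (.tighten 2 (.split 5 (-2) (.tighten 0 (.tighten 2 (.tighten 3 (.tighten 8 (.large 0)))))
    (.split 6 (-2) (.tighten 0 (.tighten 2 (.tighten 3 (.tighten 8 (.large 0))))) (.tighten 0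
    (.tighten 8 (.cross 0 1))))))) (.split 5 (-2) (.split 1 5 (.cross 0 1) (.tighten 7 (.split 2
    (-6) (.tighten 7 (.large 0)) (.large 0)))) (.tighten 0 (.tighten 3 (.tighten 4 (.tighten 5
    (.tighten 6 (.tighten 8 .empty)))))))) (.split 6 (-1) (.split 6 (-2) (.split 1 5 (.cross 0 1)
    (.tighten 7 (.split 2 (-6) (.tighten 7 (.large 0)) (.large 0)))) (.tighten 0 (.tighten 3
    (.tighten 4 (.tighten 5 (.tighten 6 (.tighten 8 .empty))))))) (.tighten 0 (.tighten 3
    (.tighten 4 (.tighten 5 (.tighten 6 (.tighten 8 .empty))))))))) (.split 4 (-1) (.split 5 (-1)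
    (.split 6 (-1) (.tighten 0 (.tighten 2 (.tighten 3 .empty))) (.split 4 (-2) (.tighten 7
    (.split 5 (-2) (.split 1 5 (.large 0) (.tighten 7 (.large 0))) (.tighten 0 (.large 0))))
    (.split 5 (-2) (.split 1 5 (.tighten 7 (.split 6 9 (.tighten 0 (.tighten 1 (.tighten 3
    .empty))) (.large 0))) (.tighten 7 (.large 0))) (.tighten 0 (.tighten 3 (.tighten 4 (.tighten
    5 (.large 0)))))))) (.split 6 (-1) (.split 4 (-2) (.tighten 7 (.split 6 (-2) (.split 1 5
    (.large 0) (.tighten 7 (.large 0))) (.tighten 0 (.large 0)))) (.split 6 (-2) (.split 1 5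
    (.tighten 7 (.split 5 9 (.tighten 0 (.tighten 1 (.tighten 3 .empty))) (.large 0))) (.tighten 7
    (.large 0))) (.tighten 0 (.tighten 3 (.tighten 4 (.tighten 5 (.large 0))))))) (.tighten 0
    (.tighten 8 (.large 0))))) (.tighten 7 (.split 5 (-1) (.split 6 (-1) (.tighten 0 (.tighten 1
    (.tighten 3 (.tighten 4 (.tighten 6 (.tighten 7 (.tighten 8 .empty))))))) (.split 5 (-2)
    (.split 2 5 (.large 1) (.tighten 7 (.large 3))) (.tighten 0 (.tighten 3 (.tighten 5 (.tighten
    8 (.large 0))))))) (.split 6 (-1) (.split 6 (-2) (.split 2 5 (.large 1) (.tighten 7 (.large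
    3))) (.tighten 0 (.tighten 3 (.tighten 5 (.tighten 8 (.large 0)))))) (.tighten 0 (.tighten 3
    (.tighten 5 (.tighten 8 (.large 0)))))))))))

def octCert3_1 : Cert :=
  (.split 2 (-1) (.tighten 2 (.split 3 (-1) (.split 4 (-1) (.tighten 0 (.split 0 (-3) (.tighten 0
    (.tighten 2 (.split 5 (-1) (.split 5 (-2) (.tighten 1 (.tighten 3 (.tighten 6 (.tighten 7
    (.large 3))))) (.large 3)) (.tighten 6 (.tighten 7 (.split 0 (-12) (.tighten 0 (.tighten 2
    (.split 2 (-6) (.tighten 2 (.tighten 7 (.large 0))) (.split 4 (-6) (.tighten 0 (.tighten 6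
    (.large 1))) (.split 0 (-21) (.tighten 0 (.tighten 2 (.large 3))) (.tighten 0 (.tighten 2
    (.large 0)))))))) (.large 3))))))) (.large 3))) (.tighten 6 (.tighten 7 (.split 0 (-3)
    (.tighten 2 (.split 7 (-1) (.tighten 0 (.tighten 3 (.tighten 7 (.large 1)))) (.split 4 5
    (.large 1) (.tighten 0 (.tighten 2 (.tighten 6 (.tighten 7 (.large 1)))))))) (.tighten 0
    (.large 0)))))) (.tighten 7 (.tighten 8 (.tighten 10 (.split 0 (-3) (.tighten 0 (.tighten 2
    (.large 1))) (.large 0))))))) (.split 3 (-1) (.tighten 7 (.split 4 (-1) (.tighten 0 (.tighten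
    6 (.split 0 (-3) (.tighten 0 (.split 6 (-1) (.tighten 1 (.tighten 2 (.tighten 6 (.large 0))))
    (.split 2 5 (.large 0) (.tighten 2 (.tighten 5 (.tighten 7 (.tighten 10 (.large 0))))))))
    (.tighten 2 (.large 0))))) (.split 0 (-3) (.split 6 (-1) (.tighten 1 (.tighten 2 (.split 7
    (-1) (.tighten 0 (.split 6 (-2) (.tighten 1 (.tighten 2 (.large 3))) (.large 0))) (.tighten 8
    (.split 6 (-2) (.tighten 1 (.tighten 2 (.tighten 8 (.large 3)))) (.large 0)))))) (.split 7
    (-1) (.tighten 0 (.tighten 3 (.tighten 8 (.split 7 (-2) (.tighten 0 (.tighten 3 (.tighten 8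
    (.large 3)))) (.large 0))))) (.split 2 5 (.split 4 5 (.split 0 (-12) (.tighten 0 (.tighten 2
    (.large 3))) (.tighten 0 (.tighten 2 (.split 1 (-6) (.tighten 3 (.tighten 4 (.large 0)))
    (.tighten 3 (.tighten 4 .point)))))) (.tighten 0 (.tighten 2 (.tighten 6 (.tighten 7 (.large
    0)))))) (.tighten 2 (.tighten 7 (.split 4 5 (.tighten 0 (.tighten 6 (.large 1))) (.split 1
    (-6) (.tighten 6 (.large 3)) (.split 3 (-6) (.tighten 7 (.tighten 8 (.tighten 10 (.large 1))))
    (.split 0 (-21) (.split 0 (-30) (.large 3) (.tighten 0 (.tighten 1 (.tighten 2 (.large 0)))))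
    (.tighten 0 (.tighten 1 (.tighten 2 (.large 0))))))))))))) (.tighten 0 (.tighten 2 (.large
    3)))))) (.split 4 (-1) (.tighten 0 (.split 0 (-3) (.tighten 0 (.split 5 (-1) (.split 6 (-1)
    (.tighten 1 (.tighten 2 (.split 5 (-2) (.tighten 1 (.tighten 3 (.tighten 6 (.large 1))))
    (.large 0)))) (.split 5 (-2) (.tighten 3 (.tighten 6 (.tighten 7 (.large 3)))) (.large 3)))
    (.tighten 6 (.tighten 7 (.split 6 (-1) (.split 6 (-2) (.tighten 2 (.large 3)) (.large 0))
    (.tighten 1 (.tighten 4 (.large 3)))))))) (.tighten 2 (.split 5 (-1) (.large 3) (.tighten 1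
    (.tighten 2 (.tighten 3 (.large 0)))))))) (.tighten 6 (.tighten 7 (.split 0 (-3) (.split 6
    (-1) (.split 7 (-1) (.tighten 0 (.tighten 3 (.tighten 7 (.tighten 8 (.large 1))))) (.split 6
    (-2) (.tighten 2 (.split 3 5 (.tighten 1 (.tighten 8 (.large 1))) (.large 1))) (.large 1)))
    (.tighten 1 (.tighten 8 (.split 3 5 (.large 1) (.tighten 1 (.tighten 7 (.tighten 8 (.large
    1)))))))) (.tighten 0 (.tighten 1 (.large 0)))))))))

def octCert3_2 : Cert :=
  (.split 2 (-1) (.tighten 2 (.split 3 (-1) (.split 4 (-1) (.tighten 0 (.tighten 6 (.tighten 7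
    (.tighten 8 (.split 0 (-3) (.tighten 0 (.tighten 1 (.large 0))) (.large 0)))))) (.split 0 (-3)
    (.tighten 2 (.split 5 (-1) (.split 7 (-1) (.tighten 0 (.tighten 3 (.split 5 (-2) (.tighten 1
    (.tighten 3 (.tighten 7 (.large 0)))) (.large 0)))) (.split 5 (-2) (.tighten 1 (.tighten 6
    (.tighten 7 (.large 3)))) (.large 3))) (.tighten 6 (.tighten 7 (.split 7 (-1) (.split 7 (-2)
    (.tighten 0 (.large 3)) (.large 0)) (.tighten 0 (.tighten 2 (.large 3)))))))) (.tighten 0
    (.split 5 (-1) (.large 3) (.tighten 1 (.tighten 3 (.tighten 6 (.large 0)))))))) (.tighten 7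
    (.split 4 (-1) (.tighten 0 (.split 0 (-3) (.tighten 0 (.tighten 2 (.split 1 5 (.split 3 5
    (.large 3) (.tighten 7 (.tighten 8 (.tighten 10 (.large 0))))) (.tighten 6 (.split 3 5
    (.tighten 1 (.tighten 7 (.large 1))) (.large 3)))))) (.large 0))) (.tighten 6 (.split 0 (-3)
    (.tighten 2 (.split 7 (-1) (.tighten 0 (.tighten 3 (.large 1))) (.split 3 5 (.large 1)
    (.tighten 7 (.tighten 10 (.large 1)))))) (.tighten 0 (.large 0)))))))) (.split 3 (-1)
    (.tighten 7 (.tighten 10 (.split 0 (-3) (.split 6 (-1) (.tighten 1 (.tighten 2 (.tighten 6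
    (.tighten 8 (.large 0))))) (.split 7 (-1) (.split 7 (-2) (.tighten 0 (.split 1 5 (.tighten 3
    (.tighten 8 (.large 0))) (.large 0))) (.large 0)) (.tighten 0 (.tighten 8 (.split 1 5 (.large
    0) (.tighten 3 (.tighten 6 (.tighten 8 (.large 0))))))))) (.tighten 0 (.tighten 2 (.large
    0)))))) (.split 4 (-1) (.tighten 0 (.tighten 6 (.tighten 7 (.split 0 (-3) (.tighten 0 (.split
    6 (-1) (.tighten 1 (.tighten 2 (.large 0))) (.split 1 5 (.large 0) (.tighten 6 (.tighten 7
    (.large 0)))))) (.tighten 2 (.large 0)))))) (.split 0 (-3) (.split 5 (-1) (.split 6 (-1)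
    (.tighten 1 (.tighten 2 (.split 7 (-1) (.tighten 0 (.tighten 3 (.large 3))) (.split 5 (-2)
    (.tighten 1 (.tighten 6 (.large 3))) (.large 0))))) (.split 7 (-1) (.tighten 0 (.tighten 3
    (.split 5 (-2) (.tighten 3 (.tighten 7 (.large 3))) (.large 0)))) (.split 5 (-2) (.tighten 6
    (.tighten 7 (.split 2 5 (.large 0) (.tighten 2 (.tighten 7 (.large 1)))))) (.split 1 5
    (.tighten 6 (.large 3)) (.tighten 3 (.tighten 6 (.large 0))))))) (.tighten 6 (.tighten 7
    (.split 6 (-1) (.split 7 (-1) (.split 6 (-2) (.tighten 2 (.large 3)) (.large 0)) (.tighten 0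
    (.tighten 2 (.tighten 8 (.large 3))))) (.tighten 1 (.split 7 (-1) (.tighten 0 (.tighten 8
    (.large 3))) (.split 1 5 (.large 0) (.tighten 3 (.tighten 6 (.large 3)))))))))) (.tighten 0
    (.tighten 2 (.split 5 (-1) (.split 5 (-2) (.tighten 1 (.tighten 3 (.large 0))) (.split 6 (-2)
    (.tighten 1 (.tighten 2 (.large 0))) (.tighten 1 (.tighten 2 (.split 7 (-2) (.tighten 0
    (.tighten 3 (.large 0))) (.tighten 0 (.tighten 3 .point))))))) (.tighten 1 (.tighten 2
    (.tighten 3 (.tighten 6 (.large 0))))))))))))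

def octCert3_3 : Cert :=
  (.split 5 (-2) (.split 1 (-6) (.split 3 (-6) (.split 0 17 (.split 1 (-15) (.tighten 3 (.tighten
    6 (.split 3 (-15) (.tighten 1 (.tighten 2 (.large 3))) (.split 1 (-24) (.tighten 3 (.tighten 6
    (.large 0))) (.split 2 (-24) (.tighten 2 (.tighten 7 (.tighten 8 (.tighten 10 (.large 0)))))
    (.tighten 2 (.tighten 7 (.tighten 8 (.tighten 10 (.large 0)))))))))) (.split 3 (-15) (.tighten
    1 (.tighten 2 (.split 3 (-24) (.tighten 1 (.tighten 2 (.large 1))) (.split 4 (-24) (.tighten 0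
    (.tighten 3 (.tighten 7 (.tighten 8 (.large 1))))) (.tighten 0 (.tighten 3 (.tighten 4
    (.tighten 5 (.large 1))))))))) (.split 2 (-24) (.tighten 2 (.tighten 7 (.tighten 8 (.tighten
    10 (.split 2 (-64) (.tighten 2 (.tighten 7 (.tighten 8 (.tighten 10 (.large 0))))) (.tighten 2
    (.tighten 7 (.tighten 8 (.tighten 10 (.large 3)))))))))) (.tighten 2 (.tighten 7 (.tighten 8
    (.tighten 10 .point))))))) (.tighten 0 (.tighten 2 (.large 3)))) (.tighten 1 (.tighten 6
    (.tighten 8 (.large 0))))) (.tighten 3 (.split 3 (-6) (.tighten 7 (.tighten 8 (.large 1)))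
    (.split 0 17 (.split 2 (-24) (.tighten 2 (.tighten 7 (.tighten 8 (.tighten 10 (.split 2 (-64)
    (.tighten 2 (.tighten 7 (.tighten 8 (.tighten 10 (.split 2 (-136) (.tighten 2 (.tighten 7
    (.tighten 8 (.tighten 10 (.large 0))))) (.tighten 2 (.tighten 7 (.tighten 8 (.tighten 10
    (.large 3)))))))))) (.tighten 2 (.tighten 7 (.tighten 8 (.tighten 10 (.split 2 (-46) (.tighten
    2 (.tighten 7 (.tighten 8 (.tighten 10 (.split 2 (-55) (.tighten 2 (.tighten 7 (.tighten 8
    (.tighten 10 .point)))) (.tighten 2 (.tighten 7 (.tighten 8 (.tighten 10 .point)))))))))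
    (.tighten 2 (.tighten 7 (.tighten 8 (.tighten 10 (.split 2 (-37) (.tighten 2 (.tighten 7
    (.tighten 8 (.tighten 10 .point)))) (.tighten 2 (.tighten 7 (.tighten 8 (.tighten 10 (.upper
    0)))))))))))))))))))) (.tighten 2 (.tighten 7 (.tighten 8 (.tighten 10 (.upper 0))))))
    (.tighten 0 (.tighten 1 (.tighten 2 (.split 0 26 (.split 6 9 (.tighten 1 (.tighten 2 (.tighten
    3 (.tighten 4 .point)))) (.tighten 1 (.tighten 2 (.tighten 3 (.tighten 6 (.large 3))))))
    (.tighten 0 (.tighten 1 (.tighten 2 (.split 0 68 (.split 6 9 (.tighten 1 (.tighten 2 (.tighten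
    3 (.tighten 4 (.tighten 6 (.tighten 8 (.split 0 47 (.tighten 0 (.tighten 1 (.tighten 2 (.split
    0 38 (.tighten 0 (.tighten 1 (.tighten 2 .point))) (.tighten 0 (.tighten 1 (.tighten 2 (.large
    0)))))))) (.tighten 0 (.tighten 1 (.tighten 2 (.large 0))))))))))) (.tighten 1 (.tighten 2
    (.tighten 6 (.tighten 8 (.large 0)))))) (.tighten 0 (.tighten 1 (.tighten 2 (.large
    0)))))))))))))))) (.tighten 1 (.tighten 3 (.large 0))))

def octCert3_4 : Cert :=
  (.split 6 (-1) (.split 7 (-1) (.split 0 8 (.tighten 0 (.tighten 2 (.large 3))) (.split 6 (-2)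
    (.split 7 (-2) (.split 2 (-6) (.tighten 2 (.tighten 7 (.split 4 (-6) (.tighten 6 (.large 3))
    (.tighten 0 (.large 0))))) (.split 4 (-6) (.tighten 0 (.tighten 2 (.tighten 6 (.large 1))))
    (.split 0 17 (.tighten 0 (.tighten 2 (.split 1 (-15) (.tighten 3 (.tighten 4 (.split 1 (-24)
    (.tighten 3 (.tighten 4 (.split 1 (-64) (.tighten 3 (.tighten 4 (.large 0))) (.tighten 3
    (.tighten 4 (.split 1 (-46) (.tighten 3 (.tighten 4 (.large 0))) (.tighten 3 (.tighten 4
    (.split 1 (-37) (.tighten 3 (.tighten 4 (.large 0))) (.tighten 3 (.tighten 4 .point)))))))))))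
    (.tighten 3 (.tighten 4 .point))))) (.tighten 3 (.tighten 4 .point))))) (.tighten 0 (.tighten
    2 (.split 0 26 (.tighten 0 (.tighten 2 (.split 1 (-15) (.tighten 3 (.tighten 4 (.large 3)))
    (.tighten 3 (.tighten 4 .point))))) (.tighten 0 (.tighten 2 (.split 0 68 (.tighten 0 (.tighten
    2 (.split 1 (-15) (.tighten 6 (.tighten 7 (.large 0))) (.tighten 3 (.tighten 4 (.tighten 6
    (.tighten 7 (.split 0 47 (.tighten 0 (.tighten 1 (.split 0 38 (.tighten 0 (.tighten 1 .point))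
    (.tighten 0 (.tighten 1 (.large 0)))))) (.tighten 0 (.tighten 1 (.large 0))))))))))) (.tighten
    0 (.tighten 2 (.large 0)))))))))))) (.tighten 0 (.tighten 3 (.large 1)))) (.tighten 1
    (.tighten 2 (.large 0))))) (.tighten 0 (.tighten 3 (.split 0 8 (.tighten 2 (.cross 0 2))
    (.tighten 0 (.tighten 3 (.split 6 (-2) (.split 2 (-6) (.tighten 2 (.tighten 3 (.tighten 5
    (.tighten 7 (.large 3))))) (.cross 0 2)) (.tighten 1 (.tighten 2 (.large 0)))))))))) (.tighten
    1 (.tighten 2 (.split 7 (-1) (.split 0 8 (.tighten 0 (.cross 0 1)) (.tighten 1 (.tighten 2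
    (.split 7 (-2) (.split 4 (-6) (.tighten 0 (.tighten 1 (.tighten 2 (.tighten 6 (.large 3)))))
    (.cross 2 0)) (.tighten 0 (.tighten 3 (.large 0))))))) (.tighten 0 (.tighten 3 (.split 0 8
    (.upper 3) (.tighten 0 (.tighten 1 (.tighten 2 (.tighten 3 (.split 0 17 (.split 2 (-24)
    (.tighten 2 (.tighten 7 (.split 4 (-24) (.tighten 0 (.tighten 3 (.large 3))) (.tighten 0
    (.split 5 9 (.tighten 3 (.split 2 (-64) (.tighten 2 (.tighten 4 (.large 0))) (.tighten 2
    (.tighten 4 (.split 2 (-46) (.tighten 2 (.tighten 4 (.large 0))) (.tighten 2 (.tighten 4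
    (.cross 2 0)))))))) (.tighten 1 (.tighten 3 (.large 0)))))))) (.tighten 2 (.split 4 (-24)
    (.tighten 0 (.tighten 3 (.split 5 9 (.tighten 1 (.split 4 (-64) (.tighten 0 (.tighten 3
    (.large 0))) (.tighten 0 (.tighten 3 (.split 4 (-46) (.tighten 0 (.tighten 3 (.large 0)))
    (.tighten 0 (.tighten 3 (.cross 0 2)))))))) (.tighten 1 (.tighten 3 (.large 1)))))) (.tighten
    0 (.split 5 9 (.tighten 1 (.tighten 3 (.upper 0))) (.tighten 1 (.tighten 3 (.split 1 (-82)
    (.tighten 3 (.tighten 4 (.large 0))) (.tighten 3 (.tighten 4 (.split 5 35 (.tighten 1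
    (.tighten 3 (.split 5 26 (.tighten 1 (.tighten 3 (.split 5 21 (.tighten 1 (.tighten 3 .point))
    (.tighten 1 (.tighten 3 .point))))) (.tighten 1 (.tighten 3 (.large 0)))))) (.tighten 1
    (.tighten 3 (.large 0)))))))))))))) (.tighten 0 (.tighten 1 (.tighten 2 (.tighten 3 (.large
    3)))))))))))))))))

def octCert3_5 : Cert :=
  (.split 4 (-1) (.split 5 (-1) (.split 6 (-1) (.split 7 (-1) (.split 0 8 (.tighten 0 (.tighten 1
    (.tighten 2 (.tighten 3 .point)))) (.split 5 (-2) (.tighten 6 (.tighten 7 (.split 6 (-2)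
    (.tighten 1 (.split 7 (-2) (.split 1 (-6) (.tighten 3 (.tighten 6 (.large 3))) (.split 3 (-6)
    (.tighten 1 (.tighten 7 (.tighten 8 (.large 1)))) (.split 0 26 (.tighten 0 (.tighten 1
    (.tighten 2 .point))) (.split 0 68 (.tighten 0 (.tighten 1 (.tighten 2 (.split 2 (-32)
    (.tighten 2 (.tighten 7 (.tighten 8 (.tighten 10 (.large 0))))) (.tighten 7 (.tighten 10
    (.split 0 47 (.tighten 0 (.tighten 1 (.large 3))) (.tighten 0 (.tighten 1 (.large 0))))))))))
    (.large 0))))) (.tighten 0 (.tighten 8 (.large 0))))) (.large 3)))) (.split 6 (-2) (.split 7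
    (-2) (.split 1 (-6) (.tighten 3 (.tighten 6 (.large 0))) (.tighten 6 (.split 2 (-6) (.tighten
    2 (.tighten 3 (.tighten 7 (.large 0)))) (.tighten 7 (.split 0 17 (.tighten 0 (.tighten 1
    .point)) (.tighten 0 (.tighten 1 (.large 0)))))))) (.tighten 0 (.tighten 3 (.large 0))))
    (.tighten 1 (.tighten 2 (.large 0)))))) (.tighten 0 (.tighten 8 (.split 0 8 (.tighten 1
    (.tighten 2 (.large 3))) (.tighten 0 (.split 5 (-2) (.tighten 7 (.split 6 (-2) (.tighten 1
    (.tighten 4 (.tighten 8 (.split 3 (-6) (.tighten 1 (.tighten 4 (.tighten 7 (.tighten 8 (.large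
    0))))) (.large 0))))) (.large 0))) (.tighten 3 (.large 3)))))))) (.tighten 2 (.split 7 (-1)
    (.tighten 8 (.split 0 8 (.tighten 0 (.tighten 3 (.large 3))) (.tighten 2 (.split 5 (-2)
    (.tighten 6 (.split 7 (-2) (.tighten 0 (.tighten 2 (.tighten 8 (.split 1 (-6) (.tighten 3
    (.tighten 6 (.tighten 8 (.tighten 9 (.large 0))))) (.large 1))))) (.large 1))) (.tighten 1
    (.large 3)))))) (.tighten 0 (.split 0 8 (.split 5 (-2) (.upper 3) (.tighten 1 (.tighten 3
    (.split 1 (-15) (.tighten 3 (.tighten 6 (.large 3))) (.tighten 3 (.tighten 6 (.split 2 (-15)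
    (.tighten 2 (.tighten 4 (.large 0))) (.tighten 2 (.tighten 4 .point))))))))) (.tighten 0
    (.tighten 2 octCert3_3))))))) (.tighten 6 (.tighten 7 octCert3_4))) (.tighten 0 (.tighten 6
    (.tighten 7 (.split 6 (-1) (.split 0 8 (.tighten 2 (.cross 0 2)) (.tighten 0 (.split 6 (-2)
    (.split 4 5 (.large 1) (.tighten 0 (.tighten 6 (.tighten 7 (.split 1 (-6) (.tighten 6
    (.tighten 7 (.large 1))) (.large 1)))))) (.tighten 1 (.tighten 2 (.large 1)))))) (.tighten 1
    (.tighten 2 (.split 0 8 (.split 4 5 (.tighten 0 (.upper 0)) (.tighten 0 (.tighten 3 (.tighten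
    7 (.upper 0))))) (.tighten 0 (.tighten 1 (.tighten 2 (.split 4 5 (.large 1) (.tighten 0
    (.tighten 6 (.tighten 7 (.large 1))))))))))))))))

def octCert3_6 : Cert :=
  (.split 4 5 (.tighten 0 (.tighten 3 (.split 3 (-6) (.tighten 1 (.tighten 3 (.upper 0))) (.split
    2 14 (.tighten 2 (.tighten 4 (.tighten 6 (.upper 0)))) (.tighten 2 (.tighten 4 (.tighten 6
    (.cross 0 2)))))))) (.tighten 0 (.split 1 (-6) (.tighten 3 (.split 3 (-6) (.split 2 14
    (.tighten 2 (.split 4 14 (.tighten 0 (.split 1 (-15) (.tighten 3 (.tighten 4 (.split 1 (-24)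
    (.tighten 3 (.tighten 4 (.split 1 (-64) (.tighten 3 (.tighten 4 (.large 0))) (.tighten 3
    (.tighten 4 (.split 1 (-46) (.tighten 3 (.tighten 4 (.split 1 (-55) (.tighten 3 (.tighten 4
    (.large 0))) (.tighten 3 (.tighten 4 .point))))) (.tighten 3 (.tighten 4 (.split 1 (-37)
    (.tighten 3 (.tighten 4 .point)) (.tighten 3 (.tighten 4 .point))))))))))) (.tighten 3
    (.tighten 4 .point))))) (.tighten 3 (.tighten 4 (.upper 0))))) (.tighten 0 (.tighten 3
    (.tighten 7 (.split 1 (-15) (.tighten 3 (.tighten 7 (.split 4 23 (.tighten 0 (.split 1 (-24)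
    (.tighten 3 (.tighten 4 (.cross 2 0))) (.tighten 3 (.tighten 4 (.upper 1))))) (.tighten 0
    (.tighten 3 (.tighten 7 (.upper 1))))))) (.upper 3))))))) (.tighten 2 (.tighten 7 (.split 4 14
    (.tighten 0 (.tighten 3 (.split 3 (-15) (.tighten 1 (.tighten 3 (.split 2 23 (.tighten 2
    (.split 3 (-24) (.tighten 1 (.tighten 3 (.cross 0 2))) (.tighten 1 (.tighten 3 (.upper 0)))))
    (.tighten 2 (.tighten 4 (.tighten 6 (.upper 0))))))) (.upper 3)))) (.tighten 0 (.split 1 (-15)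
    (.tighten 3 (.split 3 (-15) (.split 2 23 (.tighten 2 (.split 4 23 (.tighten 0 (.split 1 (-24)
    (.tighten 3 (.tighten 4 (.split 1 (-64) (.tighten 3 (.tighten 4 (.split 1 (-136) (.tighten 3
    (.tighten 4 (.split 1 (-280) (.tighten 3 (.tighten 4 (.large 3))) (.tighten 3 (.tighten 4
    (.split 1 (-208) (.tighten 3 (.tighten 4 (.large 3))) (.tighten 3 (.tighten 4 (.split 1 (-172)
    (.tighten 3 (.tighten 4 (.split 1 (-190) (.tighten 3 (.tighten 4 (.split 1 (-199) (.tighten 3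
    (.tighten 4 (.large 0))) (.tighten 3 (.tighten 4 .point))))) (.tighten 3 (.tighten 4 (.split 1
    (-181) (.tighten 3 (.tighten 4 .point)) (.tighten 3 (.tighten 4 .point)))))))) (.tighten 3
    (.tighten 4 (.split 1 (-154) (.tighten 3 (.tighten 4 (.split 1 (-163) (.tighten 3 (.tighten 4
    .point)) (.tighten 3 (.tighten 4 .point))))) (.tighten 3 (.tighten 4 (.split 1 (-145)
    (.tighten 3 (.tighten 4 .point)) (.tighten 3 (.tighten 4 (.upper 0)))))))))))))))))) (.tighten
    3 (.tighten 4 (.upper 3)))))) (.tighten 3 (.tighten 4 (.upper 3)))))) (.tighten 3 (.tighten 4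
    (.upper 0))))) (.tighten 0 (.tighten 3 (.tighten 7 (.upper 3)))))) (.tighten 2 (.tighten 7
    (.upper 3)))) (.tighten 1 (.tighten 2 (.upper 1))))) (.upper 0))))))) (.tighten 1 (.tighten 2
    (.upper 1))))) (.upper 0))))

def octCert3_7 : Cert :=
  (.split 2 14 (.tighten 2 (.split 1 (-15) (.tighten 3 (.tighten 5 (.split 3 23 (.tighten 1
    (.split 1 (-24) (.tighten 3 (.tighten 4 (.cross 2 0))) (.tighten 3 (.tighten 4 (.upper 1)))))
    (.tighten 1 (.tighten 3 (.tighten 5 (.cross 2 0))))))) (.split 3 23 (.tighten 1 (.tighten 3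
    (.tighten 4 (.upper 0)))) (.tighten 1 (.tighten 3 (.tighten 5 (.split 3 62 (.tighten 1
    (.tighten 3 (.tighten 4 (.tighten 5 (.upper 0))))) (.tighten 1 (.tighten 3 (.tighten 5 (.upper
    0))))))))))) (.tighten 2 (.tighten 7 (.split 1 (-15) (.tighten 3 (.tighten 6 (.split 2 23
    (.tighten 2 (.split 1 (-24) (.tighten 3 (.tighten 5 (.split 5 (-11) (.tighten 1 (.tighten 3
    (.tighten 5 (.split 1 (-64) (.tighten 3 (.tighten 5 (.upper 1))) (.upper 3))))) (.tighten 1
    (.split 1 (-64) (.tighten 3 (.tighten 4 (.large 0))) (.tighten 3 (.tighten 4 (.split 1 (-46)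
    (.tighten 3 (.tighten 4 (.upper 1))) (.tighten 3 (.tighten 4 (.upper 1))))))))))) (.split 5
    (-11) (.tighten 1 (.tighten 3 (.tighten 5 (.upper 3)))) (.tighten 1 (.tighten 3 (.tighten 4
    (.upper 0))))))) (.tighten 2 (.tighten 7 (.split 1 (-24) (.tighten 3 (.tighten 6 (.split 5
    (-11) (.tighten 1 (.tighten 3 (.tighten 6 (.upper 3)))) (.split 2 62 (.tighten 2 (.tighten 7
    (.split 1 (-64) (.tighten 3 (.tighten 4 (.tighten 6 (.split 2 44 (.tighten 2 (.tighten 7
    (.split 1 (-136) (.tighten 3 (.tighten 4 (.tighten 6 (.split 2 35 (.tighten 2 (.tighten 7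
    (.large 0))) (.tighten 2 (.tighten 7 (.split 1 (-280) (.tighten 3 (.tighten 4 (.large 0)))
    (.tighten 3 (.tighten 4 (.large 0)))))))))) (.tighten 3 (.tighten 4 (.tighten 6 (.split 2 35
    (.tighten 2 (.tighten 7 (.split 1 (-100) (.tighten 3 (.tighten 4 (.large 0))) (.tighten 3
    (.tighten 4 (.cross 0 1)))))) (.tighten 2 (.tighten 7 (.split 1 (-100) (.tighten 3 (.tighten 4
    (.upper 1))) (.tighten 3 (.tighten 4 (.upper 1))))))))))))) (.tighten 2 (.tighten 7 (.split 1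
    (-136) (.tighten 3 (.tighten 4 (.tighten 6 (.split 1 (-280) (.tighten 3 (.tighten 4 (.tighten
    6 (.split 1 (-568) (.tighten 3 (.tighten 4 (.tighten 6 (.split 2 53 (.tighten 2 (.tighten 7
    (.large 0))) (.tighten 2 (.tighten 7 (.large 0))))))) (.tighten 3 (.tighten 4 (.tighten 6
    (.split 2 53 (.tighten 2 (.tighten 7 (.large 0))) (.tighten 2 (.tighten 7 (.upper 1)))))))))))
    (.tighten 3 (.tighten 4 (.tighten 6 (.split 1 (-208) (.tighten 3 (.tighten 4 (.tighten 6
    (.split 2 53 (.tighten 2 (.tighten 7 (.large 0))) (.tighten 2 (.tighten 7 (.upper 1)))))))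
    (.tighten 3 (.tighten 4 (.tighten 6 (.upper 3)))))))))))) (.tighten 3 (.tighten 4 (.tighten 6
    (.upper 3))))))))))) (.tighten 3 (.tighten 4 (.tighten 6 (.upper 3))))))) (.tighten 2
    (.tighten 7 (.upper 3))))))) (.upper 3))))))) (.upper 0)))))

def octCert3_8 : Cert :=
  (.split 3 (-1) (.tighten 7 (.split 4 (-1) (.tighten 6 (.split 7 (-1) (.split 0 8 (.tighten 0
    (.cross 0 1)) (.tighten 2 (.split 7 (-2) (.split 2 5 (.large 0) (.tighten 2 (.tighten 7
    (.tighten 10 (.split 3 (-6) (.tighten 7 (.tighten 10 (.large 0))) (.large 0)))))) (.tighten 0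
    (.tighten 3 (.large 0)))))) (.tighten 0 (.tighten 3 (.split 0 8 (.split 2 5 (.tighten 2
    (.upper 1)) (.tighten 2 (.tighten 7 (.tighten 8 (.upper 1))))) (.tighten 0 (.tighten 2
    (.tighten 3 (.split 2 5 (.large 0) (.tighten 2 (.tighten 7 (.tighten 8 (.large 0)))))))))))))
    (.tighten 0 (.split 0 8 (.split 2 5 (.tighten 2 (.split 4 5 (.tighten 0 (.split 1 (-6)
    (.tighten 3 (.tighten 4 (.split 1 (-15) (.tighten 3 (.tighten 4 (.large 0))) (.tighten 3
    (.tighten 4 .point))))) (.tighten 3 (.tighten 4 .point)))) (.tighten 0 (.tighten 3 (.tighten 7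
    (.split 1 (-6) (.tighten 3 (.tighten 7 (.large 0))) (.split 4 14 (.tighten 0 (.tighten 3
    (.tighten 4 (.upper 1)))) (.tighten 0 (.tighten 3 (.tighten 7 (.cross 2 0))))))))))) (.tighten
    2 (.tighten 7 octCert3_6))) (.tighten 0 (.tighten 2 (.split 2 5 (.split 4 5 (.split 1 (-6)
    (.tighten 6 (.tighten 7 (.large 0))) (.tighten 6 (.tighten 7 (.split 0 17 (.tighten 0
    (.tighten 1 (.large 0))) (.tighten 0 (.tighten 1 (.large 0))))))) (.tighten 0 (.tighten 6
    (.tighten 7 (.large 0))))) (.tighten 2 (.tighten 7 (.split 4 5 (.tighten 6 (.large 1))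
    (.tighten 0 (.split 1 (-6) (.tighten 6 (.split 3 (-6) (.large 3) (.tighten 1 (.tighten 7
    (.large 0))))) (.split 3 (-6) (.tighten 7 (.tighten 8 (.tighten 10 (.large 1)))) (.split 0 17
    (.split 2 14 (.tighten 2 (.tighten 7 (.tighten 8 (.tighten 10 (.large 0))))) (.tighten 2
    (.tighten 7 (.tighten 8 (.tighten 10 (.split 2 23 (.tighten 2 (.tighten 7 (.tighten 8
    (.tighten 10 (.large 0))))) (.tighten 2 (.tighten 7 (.tighten 8 (.tighten 10 (.split 2 62
    (.tighten 2 (.tighten 7 (.tighten 8 (.tighten 10 (.large 0))))) (.tighten 2 (.tighten 7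
    (.tighten 8 (.tighten 10 (.large 0)))))))))))))))) (.tighten 0 (.tighten 1 (.large
    3))))))))))))))))) (.split 4 (-1) (.split 5 (-1) (.split 7 (-1) (.split 0 8 (.tighten 0
    (.tighten 3 (.split 2 5 (.tighten 2 (.tighten 4 .point)) (.tighten 2 (.tighten 4 (.large
    0)))))) (.tighten 2 (.split 5 (-2) (.tighten 6 (.tighten 7 (.split 7 (-2) (.tighten 0
    (.tighten 2 (.large 3))) (.large 1)))) (.large 3)))) (.tighten 0 (.split 0 8 (.split 5 (-2)
    (.tighten 1 (.split 2 5 (.tighten 2 (.split 1 (-6) (.tighten 3 (.tighten 5 (.large 0)))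
    (.split 3 14 (.tighten 1 (.tighten 3 (.tighten 4 (.upper 1)))) (.tighten 1 (.tighten 3
    (.tighten 5 (.cross 2 0))))))) (.tighten 2 (.tighten 7 (.split 1 (-6) (.tighten 3 (.tighten 6
    octCert3_7)) (.upper 0)))))) (.tighten 3 (.split 2 5 (.tighten 2 (.tighten 7 (.large 0)))
    (.tighten 2 (.tighten 7 (.large 3)))))) (.tighten 0 (.tighten 2 (.split 5 (-2) (.tighten 7
    (.split 2 5 (.split 1 (-6) (.large 0) (.tighten 3 (.tighten 7 (.large 0)))) (.tighten 2
    (.tighten 7 (.split 1 (-6) (.large 3) (.tighten 3 (.tighten 7 (.large 1)))))))) (.tighten 3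
    (.large 0)))))))) (.tighten 1 (.tighten 6 (.tighten 7 (.split 7 (-1) (.split 0 8 (.tighten 0
    (.split 3 5 (.large 1) (.tighten 1 (.tighten 2 (.large 0))))) (.tighten 1 (.split 7 (-2)
    (.split 3 5 (.large 1) (.tighten 1 (.tighten 7 (.split 4 (-6) (.tighten 0 (.tighten 1
    (.tighten 6 (.large 0)))) (.large 0))))) (.tighten 0 (.tighten 3 (.large 0)))))) (.tighten 0
    (.tighten 3 (.split 0 8 (.split 3 5 (.upper 0) (.tighten 1 (.tighten 2 (.split 3 14 (.split 4
    (-15) (.tighten 0 (.tighten 3 (.split 2 23 (.tighten 2 (.tighten 7 (.upper 0))) (.tighten 2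
    (.tighten 7 (.tighten 8 (.upper 0))))))) (.tighten 0 (.upper 0))) (.tighten 1 (.tighten 2
    (.upper 3))))))) (.tighten 0 (.tighten 1 (.tighten 3 (.split 3 5 (.large 1) (.tighten 1
    (.tighten 7 (.large 3))))))))))))))) (.tighten 0 (.tighten 6 (.tighten 7 (.tighten 8 (.split 0
    8 (.split 3 5 (.upper 0) (.tighten 1 (.tighten 2 (.split 4 5 (.tighten 0 (.upper 0)) (.tighten
    0 (.tighten 3 (.tighten 7 (.tighten 8 (.split 1 (-6) (.tighten 3 (.tighten 7 (.tighten 8
    (.split 3 14 (.upper 0) (.tighten 1 (.tighten 2 (.split 4 14 (.tighten 0 (.upper 0)) (.tighten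
    0 (.tighten 3 (.tighten 7 (.tighten 8 (.upper 0)))))))))))) (.upper 0)))))))))) (.tighten 0
    (.tighten 1 (.split 3 5 (.large 1) (.tighten 1 (.tighten 7 (.large 1)))))))))))))

def octCert3_9 : Cert :=
  (.split 3 (-6) (.tighten 1 (.tighten 2 (.split 4 14 (.tighten 0 (.split 3 (-15) (.tighten 1
    (.tighten 2 (.split 1 23 (.tighten 3 (.split 3 (-24) (.tighten 1 (.tighten 2 (.cross 0 2)))
    (.tighten 1 (.tighten 2 (.upper 0))))) (.tighten 3 (.tighten 4 (.tighten 5 (.cross 0 2)))))))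
    (.split 1 23 (.tighten 3 (.tighten 4 (.tighten 5 (.upper 0)))) (.tighten 3 (.tighten 4
    (.tighten 5 (.split 1 62 (.tighten 3 (.tighten 4 (.tighten 5 (.upper 0)))) (.tighten 3
    (.tighten 4 (.tighten 5 (.upper 0))))))))))) (.tighten 0 (.tighten 3 (.split 3 (-15) (.tighten
    1 (.tighten 2 (.split 4 23 (.tighten 0 (.split 3 (-24) (.tighten 1 (.tighten 2 (.split 5 (-11)
    (.tighten 1 (.tighten 2 (.tighten 3 (.split 3 (-64) (.tighten 1 (.tighten 2 (.upper 0)))
    (.upper 3))))) (.tighten 3 (.split 3 (-64) (.tighten 1 (.tighten 2 (.large 1))) (.tighten 1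
    (.tighten 2 (.split 3 (-46) (.tighten 1 (.tighten 2 (.upper 0))) (.tighten 1 (.tighten 2
    (.upper 0))))))))))) (.split 5 (-11) (.tighten 1 (.tighten 2 (.tighten 3 (.upper 3))))
    (.tighten 1 (.tighten 2 (.tighten 3 (.upper 0))))))) (.tighten 0 (.tighten 3 (.split 3 (-24)
    (.tighten 1 (.tighten 2 (.split 5 (-11) (.tighten 1 (.tighten 2 (.tighten 3 (.upper 3))))
    (.split 4 62 (.tighten 0 (.tighten 3 (.split 3 (-64) (.tighten 1 (.tighten 2 (.split 4 44
    (.tighten 0 (.tighten 3 (.split 3 (-136) (.tighten 1 (.tighten 2 (.split 4 35 (.tighten 0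
    (.tighten 3 (.large 1))) (.tighten 0 (.tighten 3 (.split 3 (-280) (.tighten 1 (.tighten 2
    (.large 1))) (.tighten 1 (.tighten 2 (.large 1))))))))) (.tighten 1 (.tighten 2 (.split 4 35
    (.tighten 0 (.tighten 3 (.split 3 (-100) (.tighten 1 (.tighten 2 (.large 1))) (.tighten 1
    (.tighten 2 (.cross 0 2)))))) (.tighten 0 (.tighten 3 (.split 3 (-100) (.tighten 1 (.tighten 2
    (.upper 0))) (.tighten 1 (.tighten 2 (.upper 0)))))))))))) (.tighten 0 (.tighten 3 (.split 3
    (-136) (.tighten 1 (.tighten 2 (.split 3 (-280) (.tighten 1 (.tighten 2 (.split 3 (-568)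
    (.tighten 1 (.tighten 2 (.split 4 53 (.tighten 0 (.tighten 3 (.large 1))) (.tighten 0
    (.tighten 3 (.large 1)))))) (.tighten 1 (.tighten 2 (.split 4 53 (.tighten 0 (.tighten 3
    (.large 1))) (.tighten 0 (.tighten 3 (.upper 0))))))))) (.tighten 1 (.tighten 2 (.split 3
    (-208) (.tighten 1 (.tighten 2 (.split 4 53 (.tighten 0 (.tighten 3 (.upper 0))) (.tighten 0
    (.tighten 3 (.upper 0)))))) (.tighten 1 (.tighten 2 (.upper 3))))))))) (.tighten 1 (.tighten 2
    (.upper 3))))))))) (.tighten 1 (.tighten 2 (.upper 3)))))) (.tighten 0 (.tighten 3 (.upper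
    3))))))) (.upper 3))))))) (.upper 1))))))) (.upper 1))

def octCert3_10 : Cert :=
  (.split 3 5 (.tighten 1 (.tighten 2 (.upper 0))) (.split 1 14 (.split 3 14 (.split 2 (-15)
    (.tighten 2 (.tighten 7 (.tighten 8 (.tighten 10 (.split 2 (-24) (.tighten 2 (.tighten 7
    (.tighten 8 (.tighten 10 (.split 2 (-64) (.tighten 2 (.tighten 7 (.tighten 8 (.tighten 10
    (.split 2 (-136) (.tighten 2 (.tighten 7 (.tighten 8 (.tighten 10 (.split 2 (-280) (.tighten 2
    (.tighten 7 (.tighten 8 (.tighten 10 (.split 2 (-568) (.tighten 2 (.tighten 7 (.tighten 8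
    (.tighten 10 (.large 0))))) (.tighten 2 (.tighten 7 (.tighten 8 (.tighten 10 (.split 2 (-424)
    (.tighten 2 (.tighten 7 (.tighten 8 (.tighten 10 (.large 0))))) (.tighten 2 (.tighten 7
    (.tighten 8 (.tighten 10 (.split 2 (-352) (.tighten 2 (.tighten 7 (.tighten 8 (.tighten 10
    (.large 0))))) (.tighten 2 (.tighten 7 (.tighten 8 (.tighten 10 (.split 2 (-316) (.tighten 2
    (.tighten 7 (.tighten 8 (.tighten 10 (.split 2 (-334) (.tighten 2 (.tighten 7 (.tighten 8
    (.tighten 10 (.large 0))))) (.tighten 2 (.tighten 7 (.tighten 8 (.tighten 10 (.large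
    3)))))))))) (.tighten 2 (.tighten 7 (.tighten 8 (.tighten 10 (.split 2 (-298) (.tighten 2
    (.tighten 7 (.tighten 8 (.tighten 10 (.split 2 (-307) (.tighten 2 (.tighten 7 (.tighten 8
    (.tighten 10 .point)))) (.tighten 2 (.tighten 7 (.tighten 8 (.tighten 10 .point)))))))))
    (.tighten 2 (.tighten 7 (.tighten 8 (.tighten 10 (.split 2 (-289) (.tighten 2 (.tighten 7
    (.tighten 8 (.tighten 10 .point)))) (.tighten 2 (.tighten 7 (.tighten 8 (.tighten 10
    .point)))))))))))))))))))))))))))))))))) (.tighten 2 (.tighten 7 (.tighten 8 (.tighten 10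
    (.split 2 (-208) (.tighten 2 (.tighten 7 (.tighten 8 (.tighten 10 (.split 2 (-244) (.tighten 2
    (.tighten 7 (.tighten 8 (.tighten 10 (.split 2 (-262) (.tighten 2 (.tighten 7 (.tighten 8
    (.tighten 10 (.upper 3))))) (.tighten 2 (.tighten 7 (.tighten 8 (.tighten 10 (.upper
    0)))))))))) (.tighten 2 (.tighten 7 (.tighten 8 (.tighten 10 (.upper 0)))))))))) (.tighten 2
    (.tighten 7 (.tighten 8 (.tighten 10 (.upper 3))))))))))))))) (.tighten 2 (.tighten 7
    (.tighten 8 (.tighten 10 (.upper 3)))))))))) (.tighten 2 (.tighten 7 (.tighten 8 (.tighten 10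
    (.upper 0)))))))))) (.tighten 2 (.tighten 7 (.tighten 8 (.tighten 10 (.upper 0))))))))))
    (.tighten 2 (.tighten 7 (.tighten 8 (.tighten 10 (.upper 0)))))) (.tighten 1 (.tighten 3
    (.tighten 6 (.split 2 (-15) (.tighten 2 (.tighten 7 (.tighten 8 (.tighten 10 (.upper 1)))))
    (.tighten 2 (.upper 0))))))) (.tighten 3 (.split 3 14 (.tighten 1 (.tighten 2 (.split 4 (-15)
    (.tighten 0 (.tighten 3 (.tighten 7 (.tighten 8 (.upper 0))))) (.tighten 0 (.upper 0)))))
    (.upper 3)))))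

def octCert3_11 : Cert :=
  (.split 4 (-1) (.split 6 (-1) (.split 7 (-1) (.split 0 8 (.tighten 0 (.tighten 2 (.split 1 5
    (.tighten 3 (.tighten 4 .point)) (.tighten 3 (.tighten 4 (.large 0)))))) (.split 6 (-2)
    (.split 7 (-2) (.split 1 5 (.split 3 5 (.split 2 (-6) (.tighten 2 (.tighten 7 (.tighten 10
    (.large 0)))) (.tighten 7 (.tighten 10 (.split 0 17 (.tighten 0 (.tighten 1 .point)) (.tighten
    0 (.tighten 1 (.large 0))))))) (.tighten 7 (.tighten 8 (.tighten 10 (.large 0))))) (.tighten 6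
    (.split 3 5 (.tighten 1 (.tighten 7 (.tighten 8 (.large 1)))) (.split 2 (-6) (.tighten 2
    (.tighten 7 (.large 3))) (.split 4 (-6) (.tighten 0 (.tighten 2 (.tighten 6 (.tighten 7
    (.large 1))))) (.split 0 17 (.tighten 0 (.tighten 2 (.split 1 14 (.tighten 3 (.tighten 4
    .point)) (.tighten 3 (.tighten 4 (.large 3)))))) (.tighten 0 (.tighten 2 (.split 0 26
    (.tighten 0 (.tighten 2 (.large 3))) (.tighten 0 (.tighten 2 (.large 0)))))))))))) (.tighten 0
    (.tighten 3 (.tighten 8 (.large 1))))) (.tighten 1 (.tighten 2 (.large 3))))) (.tighten 0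
    (.tighten 3 (.tighten 8 (.split 0 8 (.tighten 2 (.split 1 5 (.large 0) (.tighten 3 (.tighten 7
    (.large 1))))) (.tighten 0 (.tighten 3 (.split 6 (-2) (.tighten 8 (.split 1 5 (.large 0)
    (.tighten 3 (.tighten 8 (.split 2 (-6) (.tighten 2 (.tighten 3 (.tighten 5 (.large 0))))
    (.large 1)))))) (.tighten 2 (.large 0)))))))))) (.tighten 1 (.tighten 2 (.split 7 (-1)
    (.tighten 8 (.split 0 8 (.tighten 0 (.split 3 5 (.large 1) (.tighten 1 (.tighten 3 (.large
    0))))) (.tighten 1 (.tighten 2 (.split 7 (-2) (.tighten 8 (.split 3 5 (.large 1) (.tighten 1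
    (.tighten 8 (.split 4 (-6) (.tighten 0 (.tighten 1 (.tighten 2 (.large 0)))) (.large 0))))))
    (.tighten 0 (.large 0))))))) (.tighten 0 (.split 0 8 (.split 1 5 (.split 3 5 (.split 2 (-15)
    (.tighten 2 (.tighten 7 (.tighten 8 (.tighten 10 (.split 2 (-24) (.tighten 2 (.tighten 7
    (.tighten 8 (.tighten 10 (.large 0))))) (.tighten 2 (.tighten 7 (.tighten 8 (.tighten 10
    .point))))))))) (.tighten 2 (.tighten 7 (.tighten 8 (.tighten 10 .point))))) (.tighten 1
    (.tighten 3 (.tighten 6 (.upper 1))))) (.tighten 3 octCert3_10)) (.tighten 0 (.tighten 1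
    (.tighten 2 (.split 1 5 (.large 0) (.tighten 3 (.split 3 5 (.tighten 7 (.tighten 8 (.large
    1))) (.split 0 17 (.split 1 14 (.large 0) (.tighten 3 (.large 3))) (.tighten 0 (.tighten 1
    (.tighten 2 (.large 0))))))))))))))))) (.tighten 0 (.tighten 6 (.split 6 (-1) (.split 0 8
    (.tighten 2 (.cross 0 2)) (.tighten 0 (.split 6 (-2) (.split 3 5 (.large 1) (.tighten 7
    (.tighten 10 (.large 1)))) (.tighten 1 (.tighten 2 (.tighten 6 (.large 1))))))) (.tighten 1
    (.tighten 2 (.tighten 6 (.split 0 8 (.split 3 5 (.upper 0) (.tighten 1 (.tighten 3 (.split 4 5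
    (.tighten 0 (.upper 0)) (.tighten 0 (.tighten 3 (.split 3 14 (.upper 0) (.tighten 1 (.tighten
    3 (.split 4 14 (.tighten 0 (.upper 0)) (.tighten 0 (.tighten 3 (.upper 0)))))))))))))
    (.tighten 0 (.tighten 1 (.tighten 2 (.tighten 6 (.large 1)))))))))))))

def octCert3_12 : Cert :=
  (.split 1 98 (.tighten 3 (.tighten 4 (.tighten 7 (.split 2 44 (.tighten 2 (.tighten 7 (.split 4
    44 (.tighten 0 (.split 5 (-42) (.tighten 1 (.tighten 3 (.split 2 35 (.tighten 2 (.tighten 7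
    (.split 4 35 (.tighten 0 (.split 1 85 (.tighten 3 (.tighten 4 (.split 1 80 (.tighten 3
    (.tighten 4 .point)) (.tighten 3 (.tighten 4 .point))))) (.tighten 3 (.tighten 4 .point))))
    (.tighten 0 (.tighten 3 (.tighten 4 (.upper 1))))))) (.tighten 2 (.tighten 7 (.split 4 35
    (.tighten 0 (.upper 0)) (.tighten 0 (.tighten 3 (.tighten 4 (.upper 0)))))))))) (.tighten 1
    (.tighten 3 (.split 5 (-28) (.tighten 1 (.tighten 3 (.split 2 35 (.tighten 2 (.tighten 7
    (.split 4 35 (.tighten 0 (.tighten 3 (.split 5 (-33) (.tighten 1 (.tighten 3 .point))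
    (.tighten 1 (.tighten 3 .point))))) (.tighten 0 (.tighten 3 (.cross 0 1)))))) (.tighten 2
    (.tighten 7 (.split 4 35 (.tighten 0 (.tighten 3 (.cross 0 2))) (.tighten 0 (.tighten 3
    (.split 5 (-33) (.tighten 1 (.tighten 3 .point)) (.tighten 1 (.tighten 3 .point)))))))))))
    (.tighten 1 (.tighten 3 (.split 2 35 (.tighten 2 (.tighten 7 (.split 4 35 (.tighten 0
    (.tighten 3 (.large 0))) (.tighten 0 (.tighten 3 (.large 0)))))) (.tighten 2 (.tighten 7
    (.split 4 35 (.tighten 0 (.tighten 3 (.large 1))) (.tighten 0 (.tighten 3 .point)))))))))))))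
    (.tighten 0 (.tighten 3 (.tighten 4 (.tighten 7 (.split 5 (-33) (.tighten 1 (.tighten 3
    (.upper 1))) (.tighten 1 (.tighten 3 (.split 2 35 (.tighten 2 (.tighten 7 (.cross 2 0)))
    (.tighten 2 (.tighten 7 (.split 5 (-24) (.tighten 1 (.tighten 3 (.cross 0 1))) (.tighten 1
    (.tighten 3 (.cross 0 1))))))))))))))))) (.tighten 2 (.tighten 7 (.split 4 44 (.tighten 0
    (.split 5 (-42) (.tighten 1 (.tighten 3 (.upper 0))) (.tighten 1 (.tighten 3 (.split 5 (-28)
    (.tighten 1 (.tighten 3 (.split 4 35 (.tighten 0 (.tighten 3 (.cross 0 2))) (.tighten 0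
    (.tighten 3 (.cross 0 2)))))) (.tighten 1 (.tighten 3 (.split 4 35 (.tighten 0 (.tighten 3
    (.large 1))) (.tighten 0 (.tighten 3 (.cross 0 2))))))))))) (.tighten 0 (.tighten 3 (.tighten
    4 (.tighten 7 (.split 5 (-33) (.tighten 1 (.tighten 3 (.upper 0))) (.tighten 1 (.tighten 3
    (.split 5 (-24) (.tighten 1 (.tighten 3 (.upper 3))) (.tighten 1 (.tighten 3 (.split 2 53
    (.tighten 2 (.tighten 7 (.split 4 53 (.tighten 0 (.tighten 3 .point)) (.tighten 0 (.tighten 3
    (.cross 0 1)))))) (.tighten 2 (.tighten 7 (.split 4 53 (.tighten 0 (.tighten 3 (.cross 0 2)))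
    (.tighten 0 (.tighten 3 .point))))))))))))))))))))))) (.tighten 3 (.tighten 7 (.split 2 44
    (.tighten 2 (.split 4 44 (.tighten 0 (.tighten 3 (.tighten 4 (.tighten 7 (.split 3 188
    (.tighten 1 (.tighten 3 (.split 2 35 (.tighten 2 (.split 4 35 (.tighten 0 (.tighten 3
    (.tighten 4 (.split 1 143 (.tighten 3 (.tighten 4 (.split 1 121 (.tighten 3 (.tighten 4
    (.split 1 112 (.tighten 3 (.tighten 4 (.split 1 107 (.tighten 3 (.tighten 4 .point)) (.tighten
    3 (.tighten 4 .point))))) (.tighten 3 (.tighten 4 .point))))) (.tighten 3 (.tighten 4 (.split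
    1 134 (.tighten 3 (.tighten 4 .point)) (.tighten 3 (.tighten 4 (.upper 0))))))))) (.tighten 3
    (.tighten 4 (.upper 3))))))) (.tighten 0 (.upper 1)))) (.tighten 2 (.tighten 7 (.tighten 8
    (.upper 0))))))) (.tighten 1 (.tighten 3 (.upper 3)))))))) (.tighten 0 (.upper 3)))) (.tighten
    2 (.tighten 7 (.upper 3)))))))

def octCert3_13 : Cert :=
  (.split 2 62 (.tighten 2 (.split 4 62 (.tighten 0 octCert3_12) (.tighten 0 (.tighten 3 (.split 3
    98 (.tighten 1 (.split 2 44 (.tighten 2 (.split 4 134 (.tighten 0 (.tighten 3 (.split 5 (-42)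
    (.tighten 1 (.tighten 3 (.upper 1))) (.tighten 1 (.tighten 3 (.split 5 (-28) (.tighten 1
    (.tighten 3 (.split 2 35 (.tighten 2 (.tighten 7 (.upper 1))) (.tighten 2 (.tighten 7 (.upper
    1)))))) (.tighten 1 (.tighten 3 (.split 2 35 (.tighten 2 (.tighten 7 (.large 0))) (.tighten 2
    (.tighten 7 (.split 4 98 (.tighten 0 (.tighten 3 (.cross 0 1))) (.tighten 0 (.tighten 3
    (.upper 1))))))))))))))) (.tighten 0 (.tighten 3 (.split 5 (-42) (.tighten 1 (.tighten 3
    (.upper 1))) (.tighten 1 (.split 5 (-28) (.tighten 1 (.tighten 3 (.upper 1))) (.tighten 1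
    (.split 2 35 (.tighten 2 (.tighten 7 (.large 0))) (.tighten 2 (.tighten 7 (.upper
    1)))))))))))) (.tighten 2 (.tighten 7 (.split 4 134 (.tighten 0 (.tighten 3 (.split 5 (-33)
    (.tighten 1 (.tighten 3 (.upper 0))) (.tighten 1 (.tighten 3 (.split 4 98 (.tighten 0
    (.tighten 3 (.split 5 (-24) (.tighten 1 (.tighten 3 (.upper 1))) (.tighten 1 (.tighten 3
    (.split 4 80 (.tighten 0 (.tighten 3 (.split 2 53 (.tighten 2 (.tighten 7 (.upper 1)))
    (.tighten 2 (.tighten 7 (.upper 1)))))) (.tighten 0 (.tighten 3 (.upper 1))))))))) (.tighten 0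
    (.tighten 3 (.upper 1))))))))) (.tighten 0 (.tighten 3 (.upper 1)))))))) (.tighten 1 (.tighten
    3 (.upper 1)))))))) (.tighten 2 (.tighten 7 (.split 4 62 (.tighten 0 (.split 1 98 (.tighten 3
    (.split 4 44 (.tighten 0 (.split 2 134 (.tighten 2 (.tighten 4 (.tighten 7 (.split 5 (-42)
    (.tighten 1 (.tighten 3 (.upper 0))) (.tighten 1 (.tighten 3 (.split 5 (-28) (.tighten 1
    (.tighten 3 (.split 4 35 (.tighten 0 (.tighten 3 (.upper 0))) (.tighten 0 (.tighten 3 (.upper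
    0)))))) (.tighten 1 (.tighten 3 (.split 4 35 (.tighten 0 (.tighten 3 (.large 1))) (.tighten 0
    (.tighten 3 (.split 2 98 (.tighten 2 (.tighten 4 (.cross 0 2))) (.tighten 2 (.tighten 4
    (.upper 0)))))))))))))))) (.tighten 2 (.tighten 4 (.tighten 7 (.split 5 (-42) (.tighten 1
    (.tighten 3 (.upper 0))) (.tighten 3 (.split 5 (-28) (.tighten 1 (.tighten 3 (.upper 0)))
    (.tighten 3 (.split 4 35 (.tighten 0 (.tighten 3 (.upper 0))) (.tighten 0 (.tighten 3 (.upper
    0))))))))))))) (.tighten 0 (.tighten 3 (.split 2 134 (.tighten 2 (.tighten 4 (.tighten 7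
    (.split 5 (-33) (.tighten 1 (.tighten 3 (.upper 0))) (.tighten 1 (.tighten 3 (.split 2 98
    (.tighten 2 (.tighten 4 (.tighten 7 (.split 5 (-24) (.tighten 1 (.tighten 3 (.upper 0)))
    (.tighten 1 (.tighten 3 (.split 2 80 (.tighten 2 (.tighten 4 (.tighten 7 (.split 4 53
    (.tighten 0 (.tighten 3 (.upper 0))) (.tighten 0 (.tighten 3 (.upper 0))))))) (.tighten 2
    (.tighten 4 (.tighten 7 (.upper 0))))))))))) (.tighten 2 (.tighten 4 (.tighten 7 (.upper
    0))))))))))) (.tighten 2 (.tighten 4 (.tighten 7 (.upper 0))))))))) (.tighten 3 (.tighten 7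
    (.upper 0))))) (.tighten 0 (.tighten 3 (.upper 3)))))))

def octCert3_14 : Cert :=
  (.split 2 98 (.tighten 2 (.tighten 7 (.split 4 278 (.tighten 0 (.tighten 3 (.split 2 80
    (.tighten 2 (.tighten 7 (.split 4 206 (.tighten 0 (.tighten 3 (.large 3))) (.tighten 0
    (.tighten 3 (.large 3)))))) (.tighten 2 (.tighten 7 (.split 4 206 (.tighten 0 (.tighten 3
    (.split 4 170 (.tighten 0 (.tighten 3 (.split 4 152 (.tighten 0 (.tighten 3 (.split 2 89
    (.tighten 2 (.tighten 7 (.large 0))) (.tighten 2 (.tighten 7 (.large 0)))))) (.tighten 0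
    (.tighten 3 (.split 2 89 (.tighten 2 (.tighten 7 (.large 0))) (.tighten 2 (.tighten 7 (.large
    0))))))))) (.tighten 0 (.tighten 3 (.split 2 89 (.tighten 2 (.tighten 7 (.large 0))) (.tighten
    2 (.tighten 7 (.split 4 188 (.tighten 0 (.tighten 3 (.cross 0 1))) (.tighten 0 (.tighten 3
    (.cross 0 1)))))))))))) (.tighten 0 (.tighten 3 (.split 2 89 (.tighten 2 (.tighten 7 (.split 4
    242 (.tighten 0 (.tighten 3 (.large 0))) (.tighten 0 (.tighten 3 (.large 0)))))) (.tighten 2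
    (.tighten 7 (.split 4 242 (.tighten 0 (.tighten 3 (.cross 0 1))) (.tighten 0 (.tighten 3
    (.upper 1))))))))))))))) (.tighten 0 (.tighten 3 (.split 2 80 (.tighten 2 (.tighten 7 (.split
    4 566 (.tighten 0 (.tighten 3 (.split 2 71 (.tighten 2 (.tighten 7 (.large 0))) (.tighten 2
    (.tighten 7 (.split 4 422 (.tighten 0 (.tighten 3 (.large 0))) (.tighten 0 (.tighten 3 (.large
    0))))))))) (.tighten 0 (.tighten 3 (.split 2 71 (.tighten 2 (.tighten 7 (.large 0))) (.tighten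
    2 (.tighten 7 (.upper 1))))))))) (.tighten 2 (.tighten 7 (.split 4 566 (.tighten 0 (.tighten 3
    (.split 4 422 (.tighten 0 (.tighten 3 (.split 4 350 (.tighten 0 (.tighten 3 (.split 2 89
    (.tighten 2 (.tighten 7 (.upper 1))) (.tighten 2 (.tighten 7 (.upper 1)))))) (.tighten 0
    (.tighten 3 (.upper 1)))))) (.tighten 0 (.tighten 3 (.upper 1)))))) (.tighten 0 (.tighten 3
    (.upper 1)))))))))))) (.tighten 2 (.tighten 7 (.split 4 278 (.tighten 0 (.tighten 3 (.split 4
    206 (.tighten 0 (.tighten 3 (.split 4 170 (.tighten 0 (.tighten 3 (.split 2 116 (.tighten 2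
    (.tighten 7 (.split 4 152 (.tighten 0 (.tighten 3 (.split 2 107 (.tighten 2 (.tighten 7
    (.split 4 143 (.tighten 0 (.tighten 3 (.large 0))) (.tighten 0 (.tighten 3 (.cross 0 1))))))
    (.tighten 2 (.tighten 7 (.split 4 143 (.tighten 0 (.tighten 3 (.cross 0 1))) (.tighten 0
    (.tighten 3 (.cross 0 1))))))))) (.tighten 0 (.tighten 3 (.split 2 107 (.tighten 2 (.tighten 7
    (.cross 0 1))) (.tighten 2 (.tighten 7 (.cross 2 0))))))))) (.tighten 2 (.tighten 7 (.split 4
    152 (.tighten 0 (.tighten 3 (.split 2 125 (.tighten 2 (.tighten 7 (.split 4 143 (.tighten 0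
    (.tighten 3 (.cross 0 1))) (.tighten 0 (.tighten 3 (.cross 0 1)))))) (.tighten 2 (.tighten 7
    (.split 4 143 (.tighten 0 (.tighten 3 (.cross 0 1))) (.tighten 0 (.tighten 3 (.upper
    0))))))))) (.tighten 0 (.tighten 3 (.upper 3))))))))) (.tighten 0 (.tighten 3 (.split 2 116
    (.tighten 2 (.tighten 7 (.split 2 107 (.tighten 2 (.tighten 7 (.split 4 188 (.tighten 0
    (.tighten 3 (.cross 0 1))) (.tighten 0 (.tighten 3 (.upper 1)))))) (.tighten 2 (.tighten 7
    (.upper 1)))))) (.tighten 2 (.tighten 7 (.upper 1))))))))) (.tighten 0 (.tighten 3 (.upper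
    3)))))) (.tighten 0 (.tighten 3 (.upper 3)))))))

def octCert3_15 : Cert :=
  (.split 4 98 (.tighten 0 (.tighten 3 (.split 2 278 (.tighten 2 (.tighten 4 (.tighten 7 (.split 4
    80 (.tighten 0 (.tighten 3 (.split 2 206 (.tighten 2 (.tighten 4 (.tighten 7 (.large 3))))
    (.tighten 2 (.tighten 4 (.tighten 7 (.large 3))))))) (.tighten 0 (.tighten 3 (.split 2 206
    (.tighten 2 (.tighten 4 (.tighten 7 (.split 2 170 (.tighten 2 (.tighten 4 (.tighten 7 (.split
    2 152 (.tighten 2 (.tighten 4 (.tighten 7 (.split 4 89 (.tighten 0 (.tighten 3 (.large 1)))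
    (.tighten 0 (.tighten 3 (.large 1))))))) (.tighten 2 (.tighten 4 (.tighten 7 (.split 4 89
    (.tighten 0 (.tighten 3 (.large 1))) (.tighten 0 (.tighten 3 (.large 1))))))))))) (.tighten 2
    (.tighten 4 (.tighten 7 (.split 4 89 (.tighten 0 (.tighten 3 (.large 1))) (.tighten 0
    (.tighten 3 (.split 2 188 (.tighten 2 (.tighten 4 (.cross 0 2))) (.tighten 2 (.tighten 4
    (.cross 0 2)))))))))))))) (.tighten 2 (.tighten 4 (.tighten 7 (.split 4 89 (.tighten 0
    (.tighten 3 (.split 2 242 (.tighten 2 (.tighten 4 (.large 1))) (.tighten 2 (.tighten 4 (.large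
    1)))))) (.tighten 0 (.tighten 3 (.split 2 242 (.tighten 2 (.tighten 4 (.cross 0 2))) (.tighten
    2 (.tighten 4 (.upper 0))))))))))))))))) (.tighten 2 (.tighten 4 (.tighten 7 (.split 4 80
    (.tighten 0 (.tighten 3 (.split 2 566 (.tighten 2 (.tighten 4 (.tighten 7 (.split 4 71
    (.tighten 0 (.tighten 3 (.large 1))) (.tighten 0 (.tighten 3 (.split 2 422 (.tighten 2
    (.tighten 4 (.large 1))) (.tighten 2 (.tighten 4 (.upper 0)))))))))) (.tighten 2 (.tighten 4
    (.tighten 7 (.split 4 71 (.tighten 0 (.tighten 3 (.large 1))) (.tighten 0 (.tighten 3 (.upper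
    0)))))))))) (.tighten 0 (.tighten 3 (.split 2 566 (.tighten 2 (.tighten 4 (.tighten 7 (.split
    2 422 (.tighten 2 (.tighten 4 (.tighten 7 (.split 2 350 (.tighten 2 (.tighten 4 (.tighten 7
    (.split 4 89 (.tighten 0 (.tighten 3 (.upper 0))) (.tighten 0 (.tighten 3 (.upper 0)))))))
    (.tighten 2 (.tighten 4 (.tighten 7 (.upper 0)))))))) (.tighten 2 (.tighten 4 (.tighten 7
    (.upper 0)))))))) (.tighten 2 (.tighten 4 (.tighten 7 (.upper 0)))))))))))))) (.tighten 0
    (.tighten 3 (.split 2 278 (.tighten 2 (.tighten 4 (.tighten 7 (.split 2 206 (.tighten 2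
    (.tighten 4 (.tighten 7 (.split 2 170 (.tighten 2 (.tighten 4 (.tighten 7 (.split 4 116
    (.tighten 0 (.tighten 3 (.split 2 152 (.tighten 2 (.tighten 4 (.tighten 7 (.split 4 107
    (.tighten 0 (.tighten 3 (.split 2 143 (.tighten 2 (.tighten 4 (.large 1))) (.tighten 2
    (.tighten 4 (.cross 0 2)))))) (.tighten 0 (.tighten 3 (.split 2 143 (.tighten 2 (.tighten 4
    (.cross 0 2))) (.tighten 2 (.tighten 4 (.cross 0 2)))))))))) (.tighten 2 (.tighten 4 (.tighten
    7 (.split 4 107 (.tighten 0 (.tighten 3 (.cross 0 2))) (.tighten 0 (.tighten 3 (.cross 0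
    2)))))))))) (.tighten 0 (.tighten 3 (.split 2 152 (.tighten 2 (.tighten 4 (.tighten 7 (.split
    4 125 (.tighten 0 (.tighten 3 (.split 2 143 (.tighten 2 (.tighten 4 (.cross 0 2))) (.tighten 2
    (.tighten 4 (.cross 0 2)))))) (.tighten 0 (.tighten 3 (.split 2 143 (.tighten 2 (.tighten 4
    (.cross 0 2))) (.tighten 2 (.tighten 4 (.upper 0)))))))))) (.tighten 2 (.tighten 4 (.tighten 7
    (.upper 3))))))))))) (.tighten 2 (.tighten 4 (.tighten 7 (.split 4 116 (.tighten 0 (.tighten 3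
    (.split 4 107 (.tighten 0 (.tighten 3 (.split 2 188 (.tighten 2 (.tighten 4 (.cross 0 2)))
    (.tighten 2 (.tighten 4 (.upper 0)))))) (.tighten 0 (.tighten 3 (.upper 0)))))) (.tighten 0
    (.tighten 3 (.upper 0))))))))))) (.tighten 2 (.tighten 4 (.tighten 7 (.upper 3))))))))
    (.tighten 2 (.tighten 4 (.tighten 7 (.upper 3))))))))

def octCert3_16 : Cert :=
  (.split 2 62 (.tighten 2 (.tighten 7 (.split 4 62 (.tighten 0 (.tighten 3 (.split 2 44 (.tighten
    2 (.tighten 7 (.split 4 44 (.tighten 0 (.tighten 3 (.large 3))) (.tighten 0 (.tighten 3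
    (.large 0)))))) (.tighten 2 (.tighten 7 (.large 3)))))) (.tighten 0 (.tighten 3 (.split 2 44
    (.tighten 2 (.tighten 7 (.split 4 134 (.tighten 0 (.tighten 3 (.large 0))) (.tighten 0
    (.tighten 3 (.large 0)))))) (.tighten 2 (.tighten 7 (.split 4 134 (.tighten 0 (.tighten 3
    (.large 3))) (.tighten 0 (.tighten 3 (.split 4 278 (.tighten 0 (.tighten 3 (.large 0)))
    (.tighten 0 (.tighten 3 (.large 3))))))))))))))) (.tighten 2 (.tighten 7 (.split 4 62
    (.tighten 0 (.tighten 3 (.split 4 44 (.tighten 0 (.tighten 3 (.split 2 134 (.tighten 2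
    (.tighten 4 (.tighten 7 (.large 1)))) (.tighten 2 (.tighten 4 (.tighten 7 (.large 1)))))))
    (.tighten 0 (.tighten 3 (.split 2 134 (.tighten 2 (.tighten 4 (.tighten 7 (.large 3))))
    (.tighten 2 (.tighten 4 (.tighten 7 (.split 2 278 (.tighten 2 (.tighten 4 (.tighten 7 (.large
    1)))) (.tighten 2 (.tighten 4 (.tighten 7 (.large 3)))))))))))))) (.tighten 0 (.tighten 3
    (.split 2 134 (.tighten 2 (.tighten 7 (.split 4 134 (.tighten 0 (.tighten 3 (.split 2 98
    (.tighten 2 (.tighten 7 (.split 4 98 (.tighten 0 (.tighten 3 (.split 2 80 (.tighten 2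
    (.tighten 7 (.large 3))) (.tighten 2 (.tighten 7 (.large 3)))))) (.tighten 0 (.tighten 3
    (.split 2 80 (.tighten 2 (.tighten 7 (.large 3))) (.tighten 2 (.tighten 7 (.split 4 116
    (.tighten 0 (.tighten 3 (.large 3))) (.tighten 0 (.tighten 3 (.large 3)))))))))))) (.tighten 2
    (.tighten 7 (.split 4 98 (.tighten 0 (.tighten 3 (.split 4 80 (.tighten 0 (.tighten 3 (.large
    3))) (.tighten 0 (.tighten 3 (.split 2 116 (.tighten 2 (.tighten 4 (.tighten 7 (.large 3))))
    (.tighten 2 (.tighten 4 (.tighten 7 (.large 3)))))))))) (.tighten 0 (.tighten 3 (.split 2 116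
    (.tighten 2 (.tighten 7 (.split 4 116 (.tighten 0 (.tighten 3 (.split 2 107 (.tighten 2
    (.tighten 7 (.large 0))) (.tighten 2 (.tighten 7 (.split 4 107 (.tighten 0 (.tighten 3 (.large
    0))) (.tighten 0 (.tighten 3 (.large 0))))))))) (.tighten 0 (.tighten 3 (.split 2 107
    (.tighten 2 (.tighten 7 (.split 4 125 (.tighten 0 (.tighten 3 (.large 0))) (.tighten 0
    (.tighten 3 (.large 0)))))) (.tighten 2 (.tighten 7 (.split 4 125 (.tighten 0 (.tighten 3
    (.cross 0 1))) (.tighten 0 (.tighten 3 (.cross 0 1)))))))))))) (.tighten 2 (.tighten 7 (.split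
    4 116 (.tighten 0 (.tighten 3 (.split 4 107 (.tighten 0 (.tighten 3 (.split 2 125 (.tighten 2
    (.tighten 4 (.large 0))) (.tighten 2 (.tighten 4 (.large 1)))))) (.tighten 0 (.tighten 3
    (.split 2 125 (.tighten 2 (.tighten 4 (.cross 0 2))) (.tighten 2 (.tighten 4 (.cross 0
    2))))))))) (.tighten 0 (.tighten 3 (.split 2 125 (.tighten 2 (.tighten 7 (.split 4 125
    (.tighten 0 (.tighten 3 .point)) (.tighten 0 (.tighten 3 (.cross 0 1)))))) (.tighten 2
    (.tighten 7 (.split 4 125 (.tighten 0 (.tighten 3 (.cross 0 2))) (.tighten 0 (.tighten 3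
    .point)))))))))))))))))))) (.tighten 0 (.tighten 3 octCert3_14))))) (.tighten 2 (.tighten 7
    (.split 4 134 (.tighten 0 (.tighten 3 octCert3_15)) (.tighten 0 (.tighten 3 (.upper
    3)))))))))))))

def octCert3_17 : Cert :=
  (.split 2 14 (.tighten 2 (.split 4 14 (.tighten 0 (.split 1 23 (.tighten 3 (.tighten 4 (.large
    0))) (.tighten 3 (.tighten 4 (.split 1 62 (.tighten 3 (.tighten 4 (.split 1 44 (.tighten 3
    (.tighten 4 (.large 3))) (.tighten 3 (.tighten 4 (.large 0)))))) (.tighten 3 (.tighten 4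
    (.large 0)))))))) (.tighten 0 (.tighten 3 (.split 3 23 (.tighten 1 (.split 4 23 (.tighten 0
    (.tighten 3 (.large 0))) (.tighten 0 (.tighten 3 (.large 0))))) (.tighten 1 (.tighten 3
    (.split 4 23 (.tighten 0 (.split 3 62 (.tighten 1 (.tighten 3 (.large 0))) (.tighten 1
    (.tighten 3 (.large 0))))) (.tighten 0 (.tighten 3 (.cross 2 0))))))))))) (.tighten 2
    (.tighten 7 (.split 4 14 (.tighten 0 (.split 1 23 (.tighten 3 (.split 2 23 (.tighten 2
    (.tighten 4 (.large 1))) (.tighten 2 (.tighten 4 (.large 1))))) (.tighten 3 (.tighten 4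
    (.split 2 23 (.tighten 2 (.split 1 62 (.tighten 3 (.tighten 4 (.large 1))) (.tighten 3
    (.tighten 4 (.large 1))))) (.tighten 2 (.tighten 4 (.cross 0 2)))))))) (.tighten 0 (.tighten 3
    (.split 2 23 (.tighten 2 (.split 4 23 (.tighten 0 (.split 5 (-11) (.tighten 1 (.tighten 3
    (.split 1 80 (.tighten 3 (.tighten 4 (.split 1 58 (.tighten 3 (.tighten 4 (.split 5 (-28)
    (.tighten 1 (.tighten 3 (.large 3))) (.tighten 1 (.tighten 3 (.large 0)))))) (.tighten 3
    (.tighten 4 (.large 0)))))) (.tighten 3 (.tighten 4 (.split 1 170 (.tighten 3 (.tighten 4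
    (.large 3))) (.tighten 3 (.tighten 4 (.large 0))))))))) (.tighten 1 (.tighten 3 (.large 0)))))
    (.tighten 0 (.tighten 3 (.split 5 (-11) (.tighten 1 (.tighten 3 (.split 4 62 (.tighten 0
    (.split 3 80 (.tighten 1 (.tighten 3 (.split 4 44 (.tighten 0 (.tighten 3 (.split 3 58
    (.tighten 1 (.tighten 3 (.cross 2 0))) (.tighten 1 (.tighten 3 (.large 0)))))) (.tighten 0
    (.tighten 3 (.large 0)))))) (.tighten 1 (.tighten 3 (.cross 2 0))))) (.tighten 0 (.tighten 3
    (.cross 2 0)))))) (.tighten 1 (.split 4 62 (.tighten 0 (.tighten 3 (.large 0))) (.tighten 0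
    (.tighten 3 (.large 0)))))))))) (.tighten 2 (.tighten 7 (.split 4 23 (.tighten 0 (.split 5
    (-11) (.tighten 1 (.tighten 3 (.split 2 62 (.tighten 2 (.split 1 80 (.tighten 3 (.tighten 4
    (.split 2 44 (.tighten 2 (.tighten 4 (.split 1 58 (.tighten 3 (.tighten 4 (.cross 0 2)))
    (.tighten 3 (.tighten 4 (.large 1)))))) (.tighten 2 (.tighten 4 (.large 1)))))) (.tighten 3
    (.tighten 4 (.cross 0 2))))) (.tighten 2 (.tighten 4 (.cross 0 2)))))) (.tighten 3 (.split 2
    62 (.tighten 2 (.tighten 4 (.large 1))) (.tighten 2 (.tighten 4 (.large 1))))))) (.tighten 0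
    (.tighten 3 (.split 5 (-11) (.tighten 1 (.tighten 3 octCert3_13)) octCert3_16)))))))))))))

def octCert3_18 : Cert :=
  (.split 1 14 (.split 3 14 (.split 2 23 (.tighten 2 (.tighten 7 (.tighten 8 (.tighten 10
    .point)))) (.tighten 2 (.tighten 7 (.tighten 8 (.tighten 10 (.split 2 62 (.tighten 2 (.tighten
    7 (.tighten 8 (.tighten 10 (.split 2 44 (.tighten 2 (.tighten 7 (.tighten 8 (.tighten 10
    (.split 2 35 (.tighten 2 (.tighten 7 (.tighten 8 (.tighten 10 .point)))) (.tighten 2 (.tighten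
    7 (.tighten 8 (.tighten 10 .point))))))))) (.tighten 2 (.tighten 7 (.tighten 8 (.tighten 10
    (.split 2 53 (.tighten 2 (.tighten 7 (.tighten 8 (.tighten 10 (.large 0))))) (.tighten 2
    (.tighten 7 (.tighten 8 (.tighten 10 (.large 0))))))))))))))) (.tighten 2 (.tighten 7
    (.tighten 8 (.tighten 10 (.split 2 134 (.tighten 2 (.tighten 7 (.tighten 8 (.tighten 10
    (.split 2 98 (.tighten 2 (.tighten 7 (.tighten 8 (.tighten 10 (.large 3))))) (.tighten 2
    (.tighten 7 (.tighten 8 (.tighten 10 (.large 0)))))))))) (.tighten 2 (.tighten 7 (.tighten 8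
    (.tighten 10 (.split 2 278 (.tighten 2 (.tighten 7 (.tighten 8 (.tighten 10 (.large 0)))))
    (.tighten 2 (.tighten 7 (.tighten 8 (.tighten 10 (.large 3))))))))))))))))))))) (.tighten 1
    (.tighten 2 (.split 3 23 (.split 4 23 (.tighten 0 (.tighten 3 (.tighten 4 (.tighten 5 (.upper
    1))))) (.tighten 0 (.tighten 3 (.tighten 7 (.tighten 8 (.split 4 62 (.tighten 0 (.tighten 3
    (.tighten 4 (.tighten 5 (.tighten 7 (.tighten 8 (.cross 0 1))))))) (.tighten 0 (.tighten 3
    (.tighten 7 (.tighten 8 (.large 0))))))))))) (.tighten 1 (.tighten 2 (.split 4 23 (.tighten 0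
    (.tighten 3 (.upper 1))) (.tighten 0 (.tighten 3 (.tighten 7 (.tighten 8 (.cross 2
    0)))))))))))) (.tighten 3 (.tighten 6 (.split 3 14 (.split 1 23 (.split 2 23 (.tighten 2
    (.tighten 7 (.tighten 8 (.tighten 10 (.upper 0))))) (.tighten 2 (.tighten 7 (.tighten 8
    (.tighten 10 (.split 2 62 (.tighten 2 (.tighten 7 (.tighten 8 (.tighten 10 (.cross 0 2)))))
    (.tighten 2 (.tighten 7 (.tighten 8 (.tighten 10 (.upper 0))))))))))) (.tighten 3 (.tighten 6
    (.split 2 23 (.tighten 2 (.tighten 7 (.upper 0))) (.tighten 2 (.tighten 7 (.tighten 8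
    (.tighten 10 (.cross 0 2))))))))) (.tighten 1 (.tighten 2 (.split 1 23 (.split 3 23 (.split 5
    9 (.tighten 1 (.tighten 2 (.tighten 3 (.tighten 4 (.upper 0))))) (.tighten 1 (.tighten 2
    (.tighten 3 (.tighten 6 (.split 2 80 (.tighten 2 (.tighten 7 (.tighten 8 (.tighten 10 (.split
    5 35 (.tighten 1 (.tighten 2 (.tighten 3 (.tighten 6 (.split 5 26 (.tighten 1 (.tighten 2
    (.tighten 3 (.tighten 6 (.split 5 21 (.tighten 1 (.tighten 2 (.tighten 3 (.tighten 4 (.upper
    0))))) (.tighten 1 (.tighten 2 (.tighten 3 (.tighten 4 (.upper 0)))))))))) (.tighten 1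
    (.tighten 2 (.tighten 3 (.tighten 4 (.upper 0)))))))))) (.tighten 1 (.tighten 2 (.tighten 3
    (.tighten 4 (.tighten 6 (.upper 0))))))))))) (.tighten 2 (.tighten 7 (.tighten 8 (.tighten 10
    (.upper 3))))))))))) (.tighten 1 (.tighten 2 (.split 5 9 (.tighten 3 (.tighten 6 (.upper 0)))
    (.tighten 1 (.tighten 2 (.tighten 3 (.tighten 6 (.split 3 62 (.split 4 80 (.tighten 0
    (.tighten 3 (.tighten 4 (.tighten 5 (.tighten 7 (.tighten 8 (.upper 1))))))) (.tighten 0
    (.tighten 3 (.tighten 7 (.tighten 8 (.upper 1)))))) (.tighten 1 (.tighten 2 (.upper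
    1)))))))))))) (.tighten 3 (.tighten 6 (.split 3 23 (.split 5 9 (.tighten 1 (.tighten 2 (.upper
    0))) (.tighten 1 (.tighten 2 (.tighten 3 (.tighten 6 (.split 1 62 (.split 2 80 (.tighten 2
    (.tighten 7 (.tighten 8 (.tighten 10 (.upper 0))))) (.tighten 2 (.tighten 7 (.tighten 8
    (.tighten 10 (.upper 0)))))) (.tighten 3 (.tighten 6 (.upper 0))))))))) (.tighten 1 (.tighten
    2 (.split 5 9 (.upper 3) (.tighten 1 (.tighten 2 (.tighten 3 (.tighten 6 (.upper
    3))))))))))))))))))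

def octCert3_19 : Cert :=
  (.split 2 (-1) (.split 3 (-1) (.split 4 (-1) (.tighten 6 (.tighten 7 (.split 6 (-1) (.tighten 1
    (.tighten 8 (.split 6 (-2) (.tighten 1 (.tighten 8 (.split 1 5 (.large 0) (.tighten 6
    (.tighten 7 (.tighten 8 (.large 0))))))) (.large 0)))) (.split 7 (-1) (.split 0 8 (.tighten 0
    (.cross 0 1)) (.tighten 2 (.split 7 (-2) (.split 1 5 (.tighten 8 (.large 0)) (.tighten 6
    (.split 3 (-6) (.tighten 7 (.split 4 (-6) (.tighten 0 (.tighten 6 (.tighten 7 (.large 0))))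
    (.large 0))) (.large 0)))) (.tighten 0 (.tighten 3 (.large 0)))))) (.tighten 0 (.tighten 3
    (.tighten 7 (.tighten 8 (.split 0 8 (.upper 1) (.tighten 0 (.tighten 2 (.tighten 3 (.split 1 5
    (.large 0) (.tighten 3 (.tighten 7 (.tighten 8 (.large 0))))))))))))))))) (.tighten 0 (.split
    5 (-1) (.split 6 (-1) (.split 0 8 (.tighten 1 (.tighten 2 (.split 1 5 (.tighten 3 (.tighten 4
    .point)) (.tighten 3 (.tighten 4 (.large 0)))))) (.tighten 0 (.split 5 (-2) (.tighten 6
    (.tighten 7 (.split 6 (-2) (.tighten 1 (.tighten 4 (.large 3))) (.large 0)))) (.large 3))))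
    (.tighten 2 (.split 0 8 (.split 5 (-2) (.tighten 3 (.split 4 5 (.tighten 0 (.split 3 (-6)
    (.tighten 1 (.tighten 2 (.large 1))) (.split 1 14 (.tighten 3 (.tighten 4 (.tighten 5 (.upper
    0)))) (.tighten 3 (.tighten 4 (.tighten 5 (.cross 0 2))))))) (.tighten 0 (.tighten 3
    octCert3_9)))) (.tighten 1 (.split 1 5 (.tighten 3 (.tighten 6 (.large 0))) (.tighten 3
    (.tighten 6 (.large 3)))))) (.tighten 0 (.tighten 2 (.split 5 (-2) (.tighten 6 (.split 4 5
    (.split 3 (-6) (.large 1) (.tighten 1 (.tighten 6 (.large 1)))) (.tighten 0 (.tighten 6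
    (.split 3 (-6) (.large 3) (.tighten 1 (.tighten 6 (.large 0)))))))) (.tighten 1 (.large
    0)))))))) (.tighten 3 (.tighten 6 (.tighten 7 (.split 6 (-1) (.split 0 8 (.tighten 2 (.split 1
    5 (.large 0) (.tighten 3 (.tighten 5 (.large 1))))) (.tighten 0 (.split 6 (-2) (.split 1 5
    (.large 0) (.tighten 3 (.tighten 6 (.split 2 (-6) (.tighten 2 (.tighten 3 (.tighten 7 (.large
    0)))) (.large 1))))) (.tighten 1 (.tighten 2 (.large 0)))))) (.tighten 1 (.tighten 2 (.split 0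
    8 (.split 1 5 (.upper 1) (.tighten 3 (.tighten 6 (.split 1 14 (.split 2 (-15) (.tighten 2
    (.tighten 7 (.split 4 23 (.tighten 0 (.tighten 3 (.upper 1))) (.tighten 0 (.tighten 3
    (.tighten 7 (.upper 1))))))) (.tighten 2 (.upper 0))) (.tighten 3 (.tighten 6 (.upper 3)))))))
    (.tighten 0 (.tighten 1 (.tighten 2 (.split 1 5 (.large 0) (.tighten 3 (.tighten 6 (.large
    3))))))))))))))))) (.tighten 7 octCert3_11)) (.tighten 2 (.split 3 (-1) (.tighten 7 (.tighten
    8 (.tighten 10 (.split 0 8 (.split 1 5 (.upper 1) (.tighten 3 (.tighten 6 (.split 2 5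
    (.tighten 2 (.large 0)) (.tighten 2 (.tighten 7 (.tighten 8 (.tighten 10 (.split 3 (-6)
    (.tighten 1 (.tighten 3 (.tighten 6 (.split 1 14 (.upper 1) (.tighten 3 (.tighten 6 (.split 2
    14 (.tighten 2 (.large 0)) (.tighten 2 (.tighten 7 (.tighten 8 (.tighten 10 (.upper
    1)))))))))))) (.upper 1)))))))))) (.tighten 0 (.tighten 2 (.split 1 5 (.large 0) (.tighten 3
    (.tighten 6 (.large 0)))))))))) (.split 4 (-1) (.tighten 6 (.tighten 7 (.split 7 (-1) (.split
    0 8 (.tighten 0 (.cross 0 1)) (.tighten 2 (.split 7 (-2) (.split 1 5 (.large 0) (.tighten 6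
    (.tighten 7 (.large 0)))) (.tighten 0 (.tighten 3 (.tighten 7 (.large 0))))))) (.tighten 0
    (.tighten 3 (.tighten 7 (.split 0 8 (.split 1 5 (.large 0) (.tighten 3 (.tighten 7 (.split 2 5
    (.tighten 2 (.large 0)) (.tighten 2 (.tighten 7 (.split 1 14 (.upper 1) (.tighten 3 (.tighten
    7 (.split 2 14 (.tighten 2 (.upper 1)) (.tighten 2 (.tighten 7 (.upper 1)))))))))))))
    (.tighten 0 (.tighten 2 (.tighten 3 (.tighten 7 (.large 0)))))))))))) (.tighten 0 (.split 5
    (-1) (.split 0 8 (.split 5 (-2) (.tighten 1 (.tighten 3 (.split 2 5 (.tighten 2 (.split 4 5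
    (.tighten 0 (.split 1 14 (.tighten 3 (.tighten 4 .point)) (.tighten 3 (.tighten 4 (.large
    0))))) (.tighten 0 (.tighten 3 (.large 0))))) (.tighten 2 (.tighten 7 (.split 4 5 (.tighten 0
    (.large 1)) (.tighten 0 (.tighten 3 octCert3_17)))))))) (.split 1 5 (.tighten 3 (.tighten 6
    (.split 2 5 (.tighten 2 (.tighten 4 .point)) (.tighten 2 (.tighten 4 (.large 0)))))) (.tighten
    3 (.tighten 6 (.large 3))))) (.tighten 0 (.tighten 2 (.split 5 (-2) (.tighten 6 (.tighten 7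
    (.large 3))) (.large 3))))) (.tighten 1 (.tighten 3 (.tighten 6 (.tighten 7 (.split 0 8
    (.split 1 5 (.split 3 5 (.split 2 14 (.tighten 2 (.tighten 7 (.tighten 8 (.tighten 10
    .point)))) (.tighten 2 (.tighten 7 (.tighten 8 (.tighten 10 (.large 3)))))) (.tighten 1
    (.tighten 2 (.large 0)))) (.tighten 3 (.tighten 6 (.split 3 5 (.large 1) (.tighten 1 (.tighten
    2 octCert3_18)))))) (.tighten 0 (.tighten 1 (.large 3))))))))))))))

/-- The search tree of family 3. -/
def octCert3 : Cert :=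
  (.split 0 (-1) (.split 1 (-1) octCert3_1 octCert3_2) (.split 1 (-1) (.split 2 (-1) (.split 3
    (-1) octCert3_5 (.tighten 7 (.tighten 10 (.split 6 (-1) (.split 7 (-1) (.tighten 0 (.tighten 8
    (.split 7 (-2) (.tighten 0 (.tighten 8 (.split 3 5 (.large 1) (.tighten 7 (.tighten 8
    (.tighten 10 (.large 1))))))) (.large 1)))) (.split 0 8 (.tighten 2 (.cross 0 2)) (.tighten 0
    (.split 6 (-2) (.split 3 5 (.tighten 8 (.large 1)) (.tighten 7 (.split 1 (-6) (.tighten 6
    (.split 2 (-6) (.tighten 2 (.tighten 7 (.tighten 10 (.large 1)))) (.large 1))) (.large 1))))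
    (.tighten 1 (.tighten 2 (.large 1))))))) (.tighten 1 (.tighten 2 (.tighten 6 (.tighten 8
    (.split 0 8 (.upper 0) (.tighten 0 (.tighten 1 (.tighten 2 (.split 3 5 (.large 1) (.tighten 1
    (.tighten 6 (.tighten 8 (.large 1))))))))))))))))) (.tighten 2 octCert3_8)) octCert3_19))

def octCert4_1 : Cert :=
  (.split 0 (-1) (.split 2 (-1) (.split 3 (-1) (.tighten 1 (.tighten 7 (.tighten 8 (.tighten 10
    (.large 0))))) (.split 4 (-1) (.tighten 0 (.tighten 9 (.split 0 (-3) (.tighten 7 (.split 0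
    (-12) (.tighten 0 (.tighten 9 (.large 0))) (.tighten 2 (.large 0)))) (.tighten 0 (.tighten 2
    (.tighten 7 (.large 0))))))) (.split 0 (-3) (.split 6 (-1) (.tighten 0 (.tighten 9 (.split 3 5
    (.tighten 0 (.tighten 1 (.tighten 2 (.tighten 7 (.large 0))))) (.tighten 0 (.tighten 2
    (.tighten 7 (.large 0))))))) (.tighten 9 (.split 3 5 (.tighten 0 (.tighten 1 (.tighten 2
    (.tighten 7 .empty)))) (.tighten 0 (.tighten 6 (.large 3)))))) (.tighten 0 (.tighten 9 (.large
    0)))))) (.split 3 (-1) (.split 4 (-1) (.tighten 0 (.tighten 9 (.split 0 (-3) (.tighten 7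
    (.split 0 (-12) (.tighten 0 (.tighten 9 (.large 0))) (.tighten 2 (.large 0)))) (.tighten 0
    (.tighten 2 (.tighten 7 (.large 0))))))) (.split 0 (-3) (.split 6 (-1) (.tighten 0 (.tighten 9
    (.split 2 5 (.tighten 0 (.tighten 1 (.tighten 2 (.tighten 7 (.large 0))))) (.tighten 0
    (.tighten 2 (.tighten 7 (.large 0))))))) (.tighten 9 (.split 2 5 (.tighten 0 (.tighten 1
    (.tighten 2 (.tighten 7 .empty)))) (.tighten 0 (.tighten 6 (.large 3)))))) (.tighten 0
    (.tighten 9 (.large 0))))) (.tighten 7 (.tighten 8 (.split 4 (-1) (.split 0 (-3) (.split 2 5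
    (.cross 0 2) (.tighten 7 (.tighten 8 (.large 3)))) (.tighten 0 (.tighten 1 (.large 0))))
    (.tighten 0 (.tighten 6 (.large 1)))))))) (.split 2 (-1) (.split 3 (-1) (.tighten 7 (.tighten
    8 (.split 4 (-1) (.tighten 0 (.tighten 6 (.large 0))) (.split 0 8 (.tighten 0 (.tighten 1
    (.upper 3))) (.split 4 5 (.tighten 6 (.split 2 (-6) (.tighten 1 (.tighten 4 (.tighten 7
    (.tighten 8 (.tighten 10 (.large 1)))))) (.split 3 (-6) (.tighten 1 (.tighten 4 (.tighten 7
    (.tighten 8 (.tighten 10 (.large 0)))))) (.tighten 7 (.tighten 8 (.tighten 10 (.large 0)))))))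
    (.tighten 0 (.tighten 9 (.large 0)))))))) (.split 4 (-1) (.split 6 (-1) (.tighten 9 (.split 0
    8 (.tighten 0 .empty) (.tighten 0 (.tighten 6 (.tighten 7 (.split 3 5 (.large 1) (.tighten 7
    (.large 0)))))))) (.tighten 0 (.tighten 9 (.split 0 8 (.tighten 0 (.tighten 2 (.tighten 7
    (.upper 3)))) (.tighten 0 (.tighten 2 (.tighten 7 (.large 0)))))))) (.tighten 0 (.tighten 9
    (.split 0 8 (.tighten 0 (.tighten 2 (.tighten 7 (.split 3 5 (.upper 0) (.tighten 1 (.upper
    0)))))) (.tighten 7 (.split 3 5 (.large 1) (.tighten 7 (.split 4 5 (.tighten 6 (.large 1))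
    (.tighten 0 (.tighten 9 (.large 1)))))))))))) (.split 3 (-1) (.split 4 (-1) (.split 6 (-1)
    (.tighten 9 (.split 0 8 (.tighten 0 .empty) (.tighten 0 (.tighten 6 (.tighten 7 (.split 2 5
    (.large 1) (.tighten 7 (.large 0)))))))) (.tighten 0 (.tighten 9 (.split 0 8 (.tighten 0
    (.tighten 2 (.tighten 7 (.upper 3)))) (.tighten 0 (.tighten 2 (.tighten 7 (.large 0))))))))
    (.tighten 0 (.tighten 9 (.split 0 8 (.tighten 0 (.tighten 2 (.tighten 7 (.split 2 5 (.upper 0)
    (.tighten 1 (.upper 0)))))) (.tighten 7 (.split 2 5 (.large 1) (.tighten 7 (.split 4 5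
    (.tighten 6 (.large 1)) (.tighten 0 (.tighten 9 (.large 1))))))))))) (.tighten 1 (.tighten 7
    (.tighten 8 (.tighten 10 (.split 0 8 (.upper 0) (.tighten 0 (.tighten 1 (.large 1)))))))))))

/-- The search tree of family 4. -/
def octCert4 : Cert :=
  octCert4_1

def octCert5_1 : Cert :=
  (.split 2 (-1) (.split 4 (-1) (.split 5 (-1) (.split 6 (-1) (.tighten 1 (.tighten 2 (.split 4
    (-2) (.tighten 1 (.tighten 4 (.split 5 (-2) (.tighten 1 (.tighten 2 (.tighten 4 (.tighten 8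
    (.large 0))))) (.large 1)))) (.split 5 (-2) (.tighten 1 (.tighten 2 (.tighten 3 (.tighten 4
    (.large 0))))) (.split 6 (-2) (.tighten 1 (.tighten 2 (.tighten 3 (.tighten 4 (.large 0)))))
    (.tighten 1 (.tighten 2 (.tighten 3 (.tighten 4 .point))))))))) (.split 4 (-2) (.tighten 6
    (.split 5 (-2) (.split 1 (-6) (.tighten 6 (.large 1)) (.cross 0 2)) (.tighten 2 (.tighten 3
    (.tighten 4 (.tighten 6 (.tighten 8 .empty))))))) (.split 5 (-2) (.split 1 (-6) (.tighten 6
    (.large 0)) (.tighten 6 (.split 6 9 (.tighten 1 (.tighten 2 (.tighten 3 (.tighten 4 .point))))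
    (.large 0)))) (.tighten 1 (.tighten 2 (.tighten 3 .empty)))))) (.split 6 (-1) (.split 4 (-2)
    (.tighten 6 (.split 6 (-2) (.split 1 (-6) (.tighten 6 (.large 1)) (.cross 0 2)) (.tighten 2
    (.tighten 3 (.tighten 4 (.tighten 6 (.tighten 8 .empty))))))) (.split 6 (-2) (.split 1 (-6)
    (.tighten 6 (.large 0)) (.tighten 6 (.split 5 9 (.tighten 1 (.tighten 2 (.tighten 3 (.tighten
    4 .point)))) (.large 0)))) (.tighten 1 (.tighten 2 (.tighten 3 .empty))))) (.tighten 2
    (.tighten 3 (.tighten 4 (.tighten 6 (.tighten 8 .empty))))))) (.tighten 6 (.split 5 (-1)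
    (.split 6 (-1) (.tighten 2 (.split 5 (-2) (.tighten 2 (.tighten 8 (.split 6 (-2) (.tighten 2
    (.tighten 8 (.large 0))) (.large 0)))) (.split 6 (-2) (.tighten 2 (.tighten 8 (.large 0)))
    (.tighten 1 (.tighten 2 (.tighten 3 (.tighten 4 .empty))))))) (.split 5 (-2) (.split 2 (-6)
    (.tighten 6 (.split 2 (-15) (.tighten 6 (.large 0)) (.large 0))) (.cross 0 1)) (.tighten 1
    (.tighten 2 (.tighten 3 (.tighten 4 .empty)))))) (.split 6 (-1) (.split 6 (-2) (.split 2 (-6)
    (.tighten 6 (.split 2 (-15) (.tighten 6 (.large 0)) (.large 0))) (.cross 0 1)) (.tighten 1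
    (.tighten 2 (.tighten 3 (.tighten 4 .empty))))) (.tighten 1 (.tighten 2 (.tighten 3 (.tighten
    4 .empty)))))))) (.tighten 6 (.split 5 (-1) (.split 6 (-1) (.tighten 2 (.tighten 5 (.split 5
    (-2) (.tighten 1 (.tighten 2 (.tighten 4 (.tighten 5 (.tighten 8 (.large 1)))))) (.split 6
    (-2) (.tighten 1 (.tighten 2 (.tighten 4 (.tighten 5 (.tighten 8 (.large 0)))))) (.tighten 2
    (.tighten 8 (.cross 0 2))))))) (.split 5 (-2) (.split 2 5 (.cross 0 2) (.tighten 6 (.split 1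
    (-6) (.tighten 6 (.large 1)) (.large 1)))) (.tighten 1 (.tighten 2 (.tighten 3 (.tighten 4
    (.tighten 6 (.tighten 7 (.tighten 8 .empty))))))))) (.split 6 (-1) (.split 6 (-2) (.split 2 5
    (.cross 0 2) (.tighten 6 (.split 1 (-6) (.tighten 6 (.large 1)) (.large 1)))) (.tighten 1
    (.tighten 2 (.tighten 3 (.tighten 4 (.tighten 6 (.tighten 7 (.tighten 8 .empty))))))))
    (.tighten 1 (.tighten 2 (.tighten 3 (.tighten 4 (.tighten 6 (.tighten 7 (.tighten 8
    .empty)))))))))))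

/-- The search tree of family 5. -/
def octCert5 : Cert :=
  (.split 1 (-1) octCert5_1 (.split 2 (-1) (.tighten 6 (.split 5 (-1) (.split 6 (-1) (.tighten 1
    (.tighten 2 (.tighten 3 (.tighten 4 (.tighten 6 (.tighten 7 (.tighten 8 .empty))))))) (.split
    5 (-2) (.split 1 5 (.cross 0 1) (.tighten 6 (.split 2 (-6) (.tighten 6 (.large 0)) (.large
    0)))) (.tighten 2 (.tighten 4 (.tighten 5 (.tighten 8 (.large 0))))))) (.split 6 (-1) (.split
    6 (-2) (.split 1 5 (.cross 0 1) (.tighten 6 (.split 2 (-6) (.tighten 6 (.large 0)) (.large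
    0)))) (.tighten 2 (.tighten 4 (.tighten 5 (.tighten 8 (.large 0)))))) (.tighten 2 (.tighten 4
    (.tighten 5 (.tighten 8 (.large 0)))))))) (.split 4 (-1) (.split 5 (-1) (.split 6 (-1)
    (.tighten 1 (.tighten 2 (.tighten 3 (.tighten 4 .empty)))) (.split 4 (-2) (.tighten 6 (.split
    5 (-2) (.split 2 5 (.large 1) (.tighten 6 (.large 0))) (.tighten 2 (.large 1)))) (.split 5
    (-2) (.split 1 5 (.tighten 6 (.split 6 9 (.tighten 1 (.tighten 2 (.tighten 3 .empty))) (.large
    0))) (.tighten 6 (.large 0))) (.tighten 1 (.tighten 2 (.tighten 3 (.tighten 4 (.large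
    0)))))))) (.split 6 (-1) (.split 4 (-2) (.tighten 6 (.split 6 (-2) (.split 2 5 (.large 1)
    (.tighten 6 (.large 0))) (.tighten 2 (.large 1)))) (.split 6 (-2) (.split 1 5 (.tighten 6
    (.split 5 9 (.tighten 1 (.tighten 2 (.tighten 3 .empty))) (.large 0))) (.tighten 6 (.large
    0))) (.tighten 1 (.tighten 2 (.tighten 3 (.tighten 4 (.large 0))))))) (.tighten 2 (.tighten 8
    (.large 1))))) (.tighten 6 (.split 5 (-1) (.split 6 (-1) (.tighten 2 (.tighten 3 (.tighten 4
    (.tighten 6 (.tighten 8 .empty))))) (.split 5 (-2) (.split 1 5 (.large 0) (.tighten 6 (.large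
    3))) (.tighten 1 (.tighten 2 (.tighten 4 (.tighten 8 (.large 0))))))) (.split 6 (-1) (.split 6
    (-2) (.split 1 5 (.large 0) (.tighten 6 (.large 3))) (.tighten 1 (.tighten 2 (.tighten 4
    (.tighten 8 (.large 0)))))) (.tighten 1 (.tighten 2 (.tighten 4 (.tighten 8 (.large
    0)))))))))))

theorem octCheck0 : check (octTask octRows0 []) octCert0 (octStart octRows0) = true := by
  decide +kernel

theorem octCheck1 : check (octTask octRows1 []) octCert1 (octStart octRows1) = true := by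
  decide +kernel

theorem octCheck2 : check (octTask octRows2 []) octCert2 (octStart octRows2) = true := by
  decide +kernel

theorem octCheck3 : check (octTask octRows3 octSols) octCert3 (octStart octRows3) = true := by
  decide +kernel

theorem octCheck4 : check (octTask octRows4 []) octCert4 (octStart octRows4) = true := by
  decide +kernel

theorem octCheck5 : check (octTask octRows5 []) octCert5 (octStart octRows5) = true := by
  decide +kernel

end Cfsg.Agent.SelfNine
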