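import Cfsg.Agent.Lib.SelfNine.Values
import Cfsg.Agent.Lib.SelfNine.OctCases
import Cfsg.Agent.Lib.PrimeBlock.Integer

/-!
# Values at an involution in a perfect group

For each of the possible families of signed degrees, no family of values at an involution is
consistent.
-/

set_option autoImplicit false
set_option linter.style.haveILetI false
set_option linter.unusedSectionVars false

namespace Cfsg.Agent.SelfNine

open Cfsg.Agent.Characters Cfsg.Agent.PrimeBlock

/-- The possible values at the involution in a row. -/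
def killOpts (v : V5) (f : ℤ) : List ℤ :=
  ((List.range (2 * f.natAbs + 1)).map fun i : ℕ => (i : ℤ) - f.natAbs).filter fun t =>
    (f - t) % 4 == 0 && (t - v.w) % 3 == 0

/-- Some column relation fails, or a structure constant is negative. -/
def killTest (rows : List V5) (f t : List ℤ) : Bool :=
  decide (dot (rows.map (·.x)) t ≠ -1) || decide (dot (rows.map (·.y)) t ≠ -1) ||
    decide (dot (rows.map (·.w)) t ≠ -1) || decide (dot (rows.map (·.u)) t ≠ -1) ||
    decide ((prodL f + numer (List.zipWith (fun v s => v.x * s * s) rows t) f) * prodL f < 0) ||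
    decide ((prodL f + numer (List.zipWith (fun v s => v.y * s * s) rows t) f) * prodL f < 0)

/-- The test holds of every choice. -/
def allChoices (test : List ℤ → Bool) : List (List ℤ) → List ℤ → Bool
  | [], acc => test acc.reverse
  | o :: os, acc => o.all fun t => allChoices test os (t :: acc)

def killed (rows : List V5) (f : List ℤ) : Bool :=
  allChoices (killTest rows f) (List.zipWith killOpts rows f) []

theorem killed_all : ∀ s ∈ octSols, killed octRows3 s.2 = true := by
  decide +kernel

theorem allChoices_sound (test : List ℤ → Bool) : ∀ (os : List (List ℤ)) (acc t : List ℤ),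
    List.Forall₂ (fun o x => x ∈ o) os t → allChoices test os acc = true →
      test (acc.reverse ++ t) = true := by
  intro os
  induction os with
  | nil =>
    intro acc t h ht
    cases h
    simpa [allChoices] using ht
  | cons o os ih =>
    intro acc t h ht
    cases h with
    | @cons _ x _ t hx hrest =>
      simp only [allChoices, List.all_eq_true] at ht
      have := ih (x :: acc) t hrest (ht x hx)
      simpa using this

theorem mem_killOpts {v : V5} {f t : ℤ} (hb : |t| ≤ |f|) (h4 : (4 : ℤ) ∣ f - t) (h3 : (3 : ℤ) ∣ t - v.w) :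
    t ∈ killOpts v f := by
  have hb' : t.natAbs ≤ f.natAbs := Int.natAbs_le_iff_sq_le.2 (sq_le_sq.2 hb)
  have hlt : (t + f.natAbs).toNat < 2 * f.natAbs + 1 := by omega
  have heq : ((t + f.natAbs).toNat : ℤ) - f.natAbs = t := by omega
  refine List.mem_filter.2 ⟨List.mem_map.2 ⟨(t + f.natAbs).toNat, List.mem_range.2 hlt, heq⟩, ?_⟩
  simp only [Bool.and_eq_true, beq_iff_eq]
  exact ⟨Int.emod_eq_zero_of_dvd h4, Int.emod_eq_zero_of_dvd h3⟩

variable {G : Type*} [Group G] [Finite G]

/-- The value of a character of a perfect group at an involution. -/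
theorem perfect_involution (hperf : commutator G = ⊤) {χ : Cfsg.IrrCharacter G} {z : G}
    (hz : z * z = 1) :
    ∃ v : ℤ, (χ : G → ℂ) z = (v : ℂ) ∧ (4 : ℤ) ∣ (deg χ : ℤ) - v ∧ |v| ≤ (deg χ : ℤ) := by
  classical
  obtain ⟨n, ρ, hρ, hchar⟩ := χ.2
  obtain ⟨b, w, hw, hb⟩ := exists_eigenbasis ρ z
  have htr : (χ : G → ℂ) z = ∑ i, w i := hchar ▸ trace_of_eigenbasis b w hb
  have hdeg : (deg χ : ℂ) = (Module.finrank ℂ (Fin n → ℂ) : ℂ) := by rw [deg_cast, ← hchar, ρ.char_one]
  have hdeg' : deg χ = Module.finrank ℂ (Fin n → ℂ) := Nat.cast_injective hdeg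
  have hdet1 : LinearMap.det (ρ z) = 1 := by
    let f : G →* ℂˣ := (LinearMap.det.comp ρ).toHomUnits
    have hmem : z ∈ f.ker := Abelianization.commutator_subset_ker f (hperf ▸ Subgroup.mem_top z)
    exact congrArg Units.val (MonoidHom.mem_ker.1 hmem)
  have hdet : ∏ i, w i = 1 := by
    rw [← hdet1, ← LinearMap.det_toMatrix b,
      show LinearMap.toMatrix b b (ρ z) = Matrix.diagonal w from Matrix.ext fun i j => by
        rw [LinearMap.toMatrix_apply, hb, map_smul, b.repr_self, Finsupp.smul_apply, smul_eq_mul,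
          Matrix.diagonal_apply, Finsupp.single_apply]
        by_cases h : i = j
        · subst h; simp
        · simp [h, Ne.symm h],
      Matrix.det_diagonal]
  have hw1 : ∀ i, w i = 1 ∨ w i = -1 := fun i => by
    refine sq_eq_one_iff.1 ?_
    obtain ⟨k, hk⟩ := orderOf_dvd_of_pow_eq_one (show z ^ 2 = 1 by rw [pow_two, hz])
    rw [hk, pow_mul, hw i, one_pow]
  set S := Finset.univ.filter fun i => w i = -1 with hS
  have hwi : ∀ i, w i = if i ∈ S then (-1 : ℂ) else 1 := fun i => by
    rcases hw1 i with h | h <;> simp [S, h]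
  have hsum : ∑ i, w i = (deg χ : ℂ) - 2 * (S.card : ℂ) := by
    rw [Finset.sum_congr rfl fun i _ => hwi i]
    rw [show (fun i => if i ∈ S then (-1 : ℂ) else 1) = fun i => 1 - (if i ∈ S then (2 : ℂ) else 0) by
      funext i; split_ifs <;> norm_num]
    rw [Finset.sum_sub_distrib, Finset.sum_const, Finset.sum_ite_mem, Finset.univ_inter,
      Finset.sum_const, Finset.card_univ, Fintype.card_fin, nsmul_one, nsmul_eq_mul, hdeg, mul_comm]
  have heven : Even S.card := by
    rw [Finset.prod_congr rfl fun i _ => hwi i, Finset.prod_ite_mem, Finset.univ_inter,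
      Finset.prod_const] at hdet
    exact (neg_one_pow_eq_one_iff_even (by norm_num : (-1 : ℂ) ≠ 1)).1 hdet
  have hle : S.card ≤ deg χ := by
    rw [hdeg']
    exact (Finset.card_le_univ S).trans (Fintype.card_fin _).le
  refine ⟨(deg χ : ℤ) - 2 * (S.card : ℤ), by rw [htr, hsum]; push_cast; ring, ?_, ?_⟩
  · obtain ⟨k, hk⟩ := heven
    exact ⟨k, by rw [hk]; push_cast; ring⟩
  · rw [abs_le]
    constructor <;> omega

/-- The values at a real element of order six and at its cube agree modulo three. -/
theorem six_three {χ : G → ℂ} (h : Cfsg.IsCharacter G χ) {g : G} (hg : g ^ 6 = 1)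
    (hr : χ (g ^ 5) = χ g) (hr2 : χ (g ^ 4) = χ (g ^ 2)) {a b v : ℤ} (ha : χ (g ^ 2) = (a : ℂ))
    (hb : χ g = (b : ℂ)) (hv : χ (g ^ 3) = (v : ℂ)) : (3 : ℤ) ∣ v - b := by
  obtain ⟨m, hm⟩ := mult h (by norm_num) hg (one_pow 6)
  obtain ⟨k, hk⟩ := mult h (by norm_num) hg (μ := -1) (by norm_num)
  simp only [Finset.sum_range_succ, Finset.sum_range_zero, pow_zero, pow_one, zero_add, inv_one,
    one_pow, mul_one, hr, hr2, ha, hb, hv] at hm hk
  norm_num at hm hk
  refine ⟨(m : ℤ) - k - b, ?_⟩
  have : (((v - b : ℤ)) : ℂ) = (((3 * ((m : ℤ) - k - b) : ℤ)) : ℂ) := by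
    push_cast
    linear_combination (hm - hk) / 2
  exact_mod_cast this

/-- A group that is not perfect has a nontrivial linear character. -/
theorem exists_linear_char (hperf : commutator G ≠ ⊤) : ∃ lam : G →* ℂˣ, lam ≠ 1 := by
  haveI : Finite (Abelianization G) := Quotient.finite _
  obtain ⟨g, hg⟩ : ∃ g : G, g ∉ commutator G := by
    by_contra hcon
    push Not at hcon
    exact hperf (eq_top_iff.2 fun g _ => hcon g)
  have hne : (Abelianization.of g) ≠ 1 := fun e => hg ((QuotientGroup.eq_one_iff g).1 e)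
  obtain ⟨φ, hφ⟩ := CommGroup.exists_apply_ne_one_of_hasEnoughRootsOfUnity (Abelianization G) ℂ hne
  exact ⟨φ.comp Abelianization.of, fun e => hφ (DFunLike.congr_fun e g)⟩

end Cfsg.Agent.SelfNine
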