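import Cfsg.Agent.Lib.SelfNine.OctRows
import Cfsg.Agent.Lib.SelfNine.OctKill

/-!
# Automizer dihedral of order eight: the order of the group

The group has order seventy two, or it has order `720` or `2016` and exactly one nontrivial linear
character.
-/

set_option autoImplicit false
set_option linter.style.haveILetI false
set_option linter.unusedSectionVars false

namespace Cfsg.Agent.SelfNine

open Subgroup Cfsg.Agent.Characters
open scoped ComplexConjugate

/-- Multiply a vector by a number. -/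
def scale (s : ℤ) (v : V5) : V5 := ⟨s * v.x, s * v.y, s * v.z, s * v.w, s * v.u⟩

theorem perm_lift {α β : Type*} (g : α → β) : ∀ (l : List β) (m : List α), l.Perm (m.map g) →
    ∃ m' : List α, m'.Perm m ∧ m'.map g = l := by
  classical
  intro l
  induction l with
  | nil =>
    intro m h
    exact ⟨[], by rw [List.map_eq_nil_iff.1 h.symm.eq_nil], rfl⟩
  | cons a l ih =>
    intro m h
    obtain ⟨b, hb, rfl⟩ := List.mem_map.1 (h.subset List.mem_cons_self)
    obtain ⟨m', hm', he⟩ := ih (m.erase b)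
      (List.Perm.cons_inv (h.trans ((List.perm_cons_erase hb).map g)))
    exact ⟨b :: m', (List.Perm.cons b hm').trans (List.perm_cons_erase hb).symm, by rw [List.map_cons, he]⟩

theorem dot_map {α : Type*} (g h : α → ℤ) : ∀ ls : List α,
    dot (ls.map g) (ls.map h) = (ls.map fun a => g a * h a).sum
  | [] => rfl
  | a :: ls => by simp [dot, dot_map g h ls]

theorem qsum_map {α : Type*} (g h : α → ℤ) : ∀ ls : List α,
    qsum (ls.map g) (ls.map h) = (ls.map fun a => (g a : ℚ) / (h a : ℚ)).sum
  | [] => rfl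
  | a :: ls => by simp [qsum, qsum_map g h ls]

theorem sumSq_map {α : Type*} (h : α → ℤ) : ∀ ls : List α,
    sumSq (ls.map h) = (ls.map fun a => h a * h a).sum
  | [] => rfl
  | a :: ls => by simp [sumSq, sumSq_map h ls]

theorem sum_perm_toList {α M : Type*} [AddCommMonoid M] (S : Finset α) {ls : List α}
    (h : ls.Perm S.toList) (F : α → M) : (ls.map F).sum = ∑ a ∈ S, F a := by
  rw [(h.map F).sum_eq, Finset.sum_map_toList]

theorem total_map {ι : Type*} (S : Finset ι) (f : ι → V5) :
    total (S.toList.map f) =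
      ⟨∑ i ∈ S, (f i).x * (f i).x, ∑ i ∈ S, (f i).y * (f i).y, ∑ i ∈ S, (f i).z * (f i).z,
        ∑ i ∈ S, (f i).w * (f i).w, ∑ i ∈ S, (f i).u * (f i).u, ∑ i ∈ S, (f i).x * (f i).y,
        ∑ i ∈ S, (f i).x * (f i).z, ∑ i ∈ S, (f i).x * (f i).w, ∑ i ∈ S, (f i).x * (f i).u,
        ∑ i ∈ S, (f i).y * (f i).z, ∑ i ∈ S, (f i).y * (f i).w, ∑ i ∈ S, (f i).y * (f i).u,
        ∑ i ∈ S, (f i).z * (f i).w, ∑ i ∈ S, (f i).z * (f i).u, ∑ i ∈ S, (f i).w * (f i).u⟩ := by
  classical
  induction S using Finset.induction with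
  | empty => simp [total, M5.zero]
  | insert a S ha ih =>
    rw [total_perm ((Finset.toList_insert ha).map f)]
    simp only [List.map_cons, total, ih, M5.addSq, Finset.sum_insert ha]
    simp [add_comm]

theorem countP_perm_toList {ι : Type*} (S : Finset ι) {ls : List ι} (h : ls.Perm S.toList)
    (p : ι → Bool) : ls.countP p = (S.filter fun i => p i = true).card := by
  classical
  rw [h.countP_eq p]
  clear h ls
  induction S using Finset.induction with
  | empty => simp
  | insert a S ha ih =>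
    rw [(Finset.toList_insert ha).countP_eq p, List.countP_cons, ih, Finset.filter_insert]
    by_cases h : p a = true
    · rw [if_pos h, if_pos h, Finset.card_insert_of_notMem (by simp [ha])]
    · rw [if_neg h, if_neg h, Nat.add_zero]

theorem octForms_values : ∀ c ∈ octForms, 6 * octRhs c = -(c.1 + c.2.1 + c.2.2.1 + c.2.2.2) ∧
    ∀ l ∈ octRows, ∀ v ∈ l, 6 * octCoef c v = c.1 * v.x + c.2.1 * v.y + c.2.2.1 * v.w + c.2.2.2 * v.u := by
  decide +kernel

/-- A row of a linear character. -/
def linRow (p : V5 × ℤ) : Bool := decide (p.2 * p.2 = 1 ∧ p.1.x = p.2 ∧ p.1.y = p.2)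

theorem octSols_linRow : ∀ s ∈ octSols, s.1 = 72 ∨ (octRows3.zip s.2).countP linRow = 0 ∨
    ((s.1 = 720 ∨ s.1 = 2016) ∧ (octRows3.zip s.2).countP linRow = 1 ∧
      ∀ p ∈ octRows3.zip s.2, linRow p = true → p = (⟨-1, -1, 0, 1, 1⟩, -1)) := by
  decide +kernel

theorem natCast_oct_cases {x : ℤ} {c : ℕ} (hc : x * x ≤ c) {b : ℕ} (hb : c < (b + 1) * (b + 1)) :
    ∃ i : Fin (2 * b + 1), x = (i : ℕ) - (b : ℤ) := by
  have h1 : -(b : ℤ) ≤ x ∧ x ≤ b := by constructor <;> nlinarith
  exact ⟨⟨(x + b).toNat, by omega⟩, by simp only; omega⟩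

variable {G : Type*} [Group G] [Finite G] {P : Sylow 3 G} {e1 e2 r c : G}

/-- Column orthogonality as an integer identity. -/
theorem oct_column [Fintype (Cfsg.IrrCharacter G)] (a b : Cfsg.IrrCharacter G → ℤ) (g h : G)
    (ha : ∀ χ : Cfsg.IrrCharacter G, (χ : G → ℂ) g = (a χ : ℂ))
    (hb : ∀ χ : Cfsg.IrrCharacter G, (χ : G → ℂ) h = (b χ : ℂ)) :
    (IsConj g h → ∑ χ, a χ * b χ = (Nat.card (centralizer ({h} : Set G)) : ℤ)) ∧
      (¬ IsConj g h → ∑ χ, a χ * b χ = 0) := by
  classical
  have key := second_orthogonality g h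
  simp only [ha, hb, map_intCast] at key
  refine ⟨fun hc => ?_, fun hc => ?_⟩
  · rw [if_pos hc] at key; exact_mod_cast key
  · rw [if_neg hc] at key; exact_mod_cast key

/-- A class multiplication constant is not negative. -/
theorem structure_nonneg [Fintype G] [Fintype (Cfsg.IrrCharacter G)] (g h : G)
    (f : Cfsg.IrrCharacter G → ℕ) (a b : Cfsg.IrrCharacter G → ℤ)
    (hf : ∀ χ : Cfsg.IrrCharacter G, (χ : G → ℂ) 1 = (f χ : ℂ))
    (ha : ∀ χ : Cfsg.IrrCharacter G, (χ : G → ℂ) g = (a χ : ℂ))
    (hb : ∀ χ : Cfsg.IrrCharacter G, (χ : G → ℂ) h = (b χ : ℂ)) :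
    (0 : ℚ) ≤ ∑ χ, (a χ : ℚ) * a χ * b χ / (f χ : ℚ) := by
  have key := Recognition.SelfCentNine.card_mul_eq g g h
  simp only [hf, ha, hb, map_intCast] at key
  have hn : (Nat.card G : ℂ) ≠ 0 := natCard_ne_zero
  have hq : (Nat.card G : ℚ) * (Nat.card {x : G // IsConj g x ∧ IsConj g (x⁻¹ * h)} : ℚ) =
      (BlocksChars.ClassAlg.classSize g : ℚ) * (BlocksChars.ClassAlg.classSize g : ℚ) *
        ∑ χ, (a χ : ℚ) * a χ * b χ / (f χ : ℚ) := by
    refine Rat.cast_injective (α := ℂ) ?_
    push_cast
    exact key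
  have hcs : (0 : ℚ) < (BlocksChars.ClassAlg.classSize g : ℚ) := by
    have h0 := BlocksChars.ClassAlg.classSize_mul_card_centralizer g
    have : BlocksChars.ClassAlg.classSize g ≠ 0 := fun e => by
      rw [e, zero_mul] at h0
      exact Nat.card_pos.ne' h0.symm
    exact_mod_cast Nat.pos_of_ne_zero this
  by_contra hneg
  push Not at hneg
  have h1 := mul_neg_of_pos_of_neg (mul_pos hcs hcs) hneg
  have h2 : (0 : ℚ) ≤ (Nat.card G : ℚ) * (Nat.card {x : G // IsConj g x ∧ IsConj g (x⁻¹ * h)} : ℚ) := by positivity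
  linarith

variable (D : OctData P e1 e2 r c)
include D

theorem OctData.linear_one (lam : G →* ℂˣ) : lam e1 = 1 ∧ lam (e1 * e2) = 1 := by
  have aux : ∀ g : G, g ^ 3 = 1 → IsConj g g⁻¹ → lam g = 1 := fun g h3 hc => by
    obtain ⟨t, ht⟩ := isConj_iff.1 hc
    have h1 : lam g = (lam g)⁻¹ := by
      have := congrArg lam ht
      rwa [map_mul, map_mul, map_inv, map_inv, mul_comm (lam t), mul_inv_cancel_right] at this
    have h2 : lam g ^ 3 = 1 := by rw [← map_pow, h3, map_one]
    have h4 : lam g * lam g = 1 := by nth_rewrite 2 [h1]; rw [mul_inv_cancel]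
    rwa [pow_succ, pow_two, h4, one_mul] at h2
  exact ⟨aux _ (D.ti.exp _ D.m1) D.isConj_inv_e1,
    aux _ (D.ti.exp _ (mul_mem D.m1 D.m2)) D.symm.isConj_inv_e1⟩

/-- The possible orders. -/
theorem OctData.main (hN : Nat.card (normalizer ((P : Subgroup G) : Set G)) = 72) :
    Nat.card G = 72 ∨ ((Nat.card G = 720 ∨ Nat.card G = 2016) ∧
      ∃ lam : G →* ℂˣ, (lam r : ℂ) = -1 ∧ (lam c : ℂ) = -1 ∧ ∀ mu : G →* ℂˣ, mu ≠ 1 → mu = lam) := by
  classical
  haveI := Fintype.ofFinite G
  haveI := Fintype.ofFinite (Cfsg.IrrCharacter G)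
  choose f v hv hxy hwx huy h9 using D.exists_row
  set triv := trivIrr G with htriv
  have X := fun χ => (hv χ).x
  have Y := fun χ => (hv χ).y
  have W := fun χ => (hv χ).w
  have U := fun χ => (hv χ).u
  have F : ∀ χ : Cfsg.IrrCharacter G, (χ : G → ℂ) 1 = (((f χ : ℤ)) : ℂ) := fun χ => by
    rw [(hv χ).one, Int.cast_natCast]
  have hd3 : (e1 * e2) ^ 3 = 1 := D.ti.exp _ (mul_mem D.m1 D.m2)
  have he3 : e1 ^ 3 = 1 := D.ti.exp _ D.m1
  have n12 := D.not_conj_axis
  have n13 : ¬ IsConj e1 (e1 * r) := D.not_conj_six he3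
  have n14 : ¬ IsConj e1 (e1 * e2 * c) := D.symm.not_conj_six he3
  have n23 : ¬ IsConj (e1 * e2) (e1 * r) := D.not_conj_six hd3
  have n24 : ¬ IsConj (e1 * e2) (e1 * e2 * c) := D.symm.not_conj_six hd3
  have n34 : ¬ IsConj (e1 * r) (e1 * e2 * c) := fun h => by
    obtain ⟨t, ht⟩ := isConj_iff.1 h
    have h4 : t * (e1 * r) ^ 4 * t⁻¹ = (e1 * e2 * c) ^ 4 := by rw [← ht, conj_pow]
    rw [D.six_pow.2.2.1, D.symm.six_pow.2.2.1] at h4
    exact n12 (isConj_iff.2 ⟨t, h4⟩)
  have kxx := (oct_column _ _ _ _ X X).1 (IsConj.refl _)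
  have kyy := (oct_column _ _ _ _ Y Y).1 (IsConj.refl _)
  have kww := (oct_column _ _ _ _ W W).1 (IsConj.refl _)
  have kuu := (oct_column _ _ _ _ U U).1 (IsConj.refl _)
  rw [D.card_cent_e1] at kxx
  rw [D.symm.card_cent_e1] at kyy
  rw [D.card_cent_six] at kww
  rw [D.symm.card_cent_six] at kuu
  have kxy := (oct_column _ _ _ _ X Y).2 n12
  have kxw := (oct_column _ _ _ _ X W).2 n13
  have kxu := (oct_column _ _ _ _ X U).2 n14
  have kyw := (oct_column _ _ _ _ Y W).2 n23
  have kyu := (oct_column _ _ _ _ Y U).2 n24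
  have kwu := (oct_column _ _ _ _ W U).2 n34
  -- the trivial row
  set ones : V5 := ⟨1, 1, 0, 1, 1⟩ with hones
  have hone : v triv = ones ∧ f triv = 1 := by
    obtain ⟨h1, h2, h3, h4, h5, h6⟩ := hv triv
    simp only [htriv, trivIrr_coe] at h1 h2 h3 h4 h5 h6
    have a : (v triv).x = 1 := by rw [htriv]; exact_mod_cast h2.symm
    have b : (v triv).y = 1 := by rw [htriv]; exact_mod_cast h3.symm
    have d : (v triv).w = 1 := by rw [htriv]; exact_mod_cast h5.symm
    have e : (v triv).u = 1 := by rw [htriv]; exact_mod_cast h6.symm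
    refine ⟨?_, by rw [htriv]; exact_mod_cast h1.symm⟩
    rw [← htriv] at h4
    generalize v triv = V at a b h4 d e
    obtain ⟨_, _, _, _, _⟩ := V
    simp only at a b h4 d e
    subst a b h4 d e
    rfl
  set zero : V5 := ⟨0, 0, 0, 0, 0⟩ with hzero
  set S := (Finset.univ.erase triv).filter fun χ => v χ ≠ zero with hS
  set sg : Cfsg.IrrCharacter G → ℤ := fun χ => if v χ ∈ octCands then 1 else -1 with hsg
  have sg2 : ∀ χ, sg χ * sg χ = 1 := fun χ => by simp only [hsg]; split_ifs <;> norm_num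
  set can : Cfsg.IrrCharacter G → V5 := fun χ => scale (sg χ) (v χ) with hcan
  set sf : Cfsg.IrrCharacter G → ℤ := fun χ => sg χ * (f χ : ℤ) with hsf
  have hsplit : ∀ (T : Cfsg.IrrCharacter G → ℤ), (∀ χ, v χ = zero → T χ = 0) →
      ∑ χ, T χ = T triv + ∑ χ ∈ S, T χ := fun T hT => by
    rw [← Finset.add_sum_erase _ _ (Finset.mem_univ triv), hS]
    congr 1
    symm
    exact Finset.sum_filter_of_ne (p := fun χ => v χ ≠ zero) fun χ _ h e => h (hT χ e)
  have hsplitQ : ∀ (T : Cfsg.IrrCharacter G → ℚ), (∀ χ, v χ = zero → T χ = 0) →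
      ∑ χ, T χ = T triv + ∑ χ ∈ S, T χ := fun T hT => by
    rw [← Finset.add_sum_erase _ _ (Finset.mem_univ triv), hS]
    congr 1
    symm
    exact Finset.sum_filter_of_ne (p := fun χ => v χ ≠ zero) fun χ _ h e => h (hT χ e)
  have gram : ∀ (p q : V5 → ℤ) (k : ℤ), (∀ s a, p (scale s a) = s * p a) →
      (∀ s a, q (scale s a) = s * q a) → p ones = 1 → q ones = 1 →
      (∑ χ, p (v χ) * q (v χ)) = k → ∑ χ ∈ S, p (can χ) * q (can χ) = k - 1 := by
    intro p q k hp hq hp1 hq1 hk
    have hp0 : p zero = 0 := by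
      have := hp 0 zero
      rwa [zero_mul, show scale 0 zero = zero from rfl] at this
    rw [hsplit _ (fun χ e => by rw [e, hp0, zero_mul]), hone.1, hp1, hq1, one_mul] at hk
    rw [Finset.sum_congr rfl (g := fun χ => p (v χ) * q (v χ)) fun χ _ => by
      simp only [hcan, hp, hq]
      linear_combination (p (v χ) * q (v χ)) * sg2 χ]
    linarith
  have hzval : ∀ χ, (can χ).z = 0 := fun χ => by simp [hcan, scale, (hv χ).z]
  set rows := S.toList.map can with hrows
  have htot : total rows = octGram := by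
    rw [hrows, total_map,
      gram (·.x) (·.x) _ (fun _ _ => rfl) (fun _ _ => rfl) rfl rfl kxx,
      gram (·.y) (·.y) _ (fun _ _ => rfl) (fun _ _ => rfl) rfl rfl kyy,
      gram (·.w) (·.w) _ (fun _ _ => rfl) (fun _ _ => rfl) rfl rfl kww,
      gram (·.u) (·.u) _ (fun _ _ => rfl) (fun _ _ => rfl) rfl rfl kuu,
      gram (·.x) (·.y) _ (fun _ _ => rfl) (fun _ _ => rfl) rfl rfl kxy,
      gram (·.x) (·.w) _ (fun _ _ => rfl) (fun _ _ => rfl) rfl rfl kxw,
      gram (·.x) (·.u) _ (fun _ _ => rfl) (fun _ _ => rfl) rfl rfl kxu,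
      gram (·.y) (·.w) _ (fun _ _ => rfl) (fun _ _ => rfl) rfl rfl kyw,
      gram (·.y) (·.u) _ (fun _ _ => rfl) (fun _ _ => rfl) rfl rfl kyu,
      gram (·.w) (·.u) _ (fun _ _ => rfl) (fun _ _ => rfl) rfl rfl kwu]
    simp [hzval, octGram]
  have hmemS : ∀ χ ∈ S, can χ ∈ octCands := by
    intro χ hχ
    have hbox : (octGram.subSq (v χ)).Ok = true := by
      have hr : can χ ∈ rows := List.mem_map.2 ⟨χ, Finset.mem_toList.2 hχ, rfl⟩
      have ht : total (rows.erase (can χ)) = octGram.subSq (can χ) := by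
        rw [← htot, total_perm (List.perm_cons_erase hr), total, subSq_addSq]
      have hok := ok_total (rows.erase (can χ))
      rw [ht] at hok
      have e : octGram.subSq (can χ) = octGram.subSq (v χ) := by
        simp only [hcan, hsg]
        split_ifs <;> simp [scale, M5.subSq]
      rwa [e] at hok
    have hb := hbox
    simp only [M5.Ok, decide_eq_true_eq] at hb
    simp only [M5.subSq, octGram] at hb
    obtain ⟨bx, by', -, bw, bu, -⟩ := hb
    obtain ⟨i, hi⟩ := natCast_oct_cases (x := (v χ).x) (c := 17) (b := 4) (by push_cast; linarith) (by norm_num)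
    obtain ⟨j, hj⟩ := natCast_oct_cases (x := (v χ).y) (c := 17) (b := 4) (by push_cast; linarith) (by norm_num)
    obtain ⟨a, ha⟩ := natCast_oct_cases (x := (v χ).w) (c := 5) (b := 2) (by push_cast; linarith) (by norm_num)
    obtain ⟨b, hb'⟩ := natCast_oct_cases (x := (v χ).u) (c := 5) (b := 2) (by push_cast; linarith) (by norm_num)
    have hc := octCands_cover i j a b
    have hv5 : v χ = ⟨((i : ℕ) : ℤ) - 4, ((j : ℕ) : ℤ) - 4, 0, ((a : ℕ) : ℤ) - 2, ((b : ℕ) : ℤ) - 2⟩ := by
      push_cast at hi hj ha hb'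
      rw [← hi, ← hj, ← (hv χ).z, ← ha, ← hb']
    rw [← hv5] at hc
    simp only [octCover, hbox, hxy χ, hwx χ, huy χ, beq_self_eq_true, Bool.and_self, Bool.not_true,
      Bool.false_or, decide_eq_true_eq] at hc
    rcases hc with h | h | h
    · exact absurd h (Finset.mem_filter.1 hχ).2
    · simp only [hcan, hsg, if_pos h, scale, one_mul]; exact h
    · simp only [hcan, hsg]
      split_ifs with h'
      · simp only [scale, one_mul]; exact h'
      · simp only [scale, neg_one_mul]; exact h
  obtain ⟨l, hl, hperm⟩ := oct_rows (rows := rows) (fun a ha => by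
    obtain ⟨χ, hχ, rfl⟩ := List.mem_map.1 ha
    exact hmemS χ (Finset.mem_toList.1 hχ)) htot
  obtain ⟨ls, hls, hlmap⟩ := perm_lift can l S.toList hperm
  have hmap : ∀ g : V5 → ℤ, l.map g = ls.map fun χ => g (can χ) := fun g => by
    rw [← hlmap, List.map_map]; rfl
  -- conditions on the signed degrees
  have hfpos : ∀ χ, (f χ : ℚ) ≠ 0 := fun χ => by
    have := irr_one_ne_zero χ.2
    rw [(hv χ).one] at this
    exact_mod_cast this
  have e10 : ¬ IsConj e1 1 := fun h => D.coord_ne_one (a := (1, 0)) (by decide) (by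
    rw [D.e1_eq]; exact isConj_one_left.1 h)
  have d10 : ¬ IsConj (e1 * e2) 1 := fun h => D.coord_ne_one (a := (1, 1)) (by decide) (by
    rw [D.d_eq]; exact isConj_one_left.1 h)
  have w10 : ¬ IsConj (e1 * r) 1 := fun h => by
    have := D.six_pow.2.2.2.2
    rw [isConj_one_left.1 h, orderOf_one] at this
    norm_num at this
  have u10 : ¬ IsConj (e1 * e2 * c) 1 := fun h => by
    have := D.symm.six_pow.2.2.2.2
    rw [isConj_one_left.1 h, orderOf_one] at this
    norm_num at this
  have cxf := (oct_column _ _ _ _ X F).2 e10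
  have cyf := (oct_column _ _ _ _ Y F).2 d10
  have cwf := (oct_column _ _ _ _ W F).2 w10
  have cuf := (oct_column _ _ _ _ U F).2 u10
  have colS : ∀ (p : V5 → ℤ) (k : Cfsg.IrrCharacter G → ℤ), (∀ s a, p (scale s a) = s * p a) →
      p ones = 1 → (∑ χ, p (v χ) * k χ) = 0 →
      ∑ χ ∈ S, p (can χ) * (sg χ * k χ) = - k triv := by
    intro p k hp hp1 hk
    have hp0 : p zero = 0 := by
      have := hp 0 zero
      rwa [zero_mul, show scale 0 zero = zero from rfl] at this
    rw [hsplit _ (fun χ e => by rw [e, hp0, zero_mul]), hone.1, hp1, one_mul] at hk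
    rw [Finset.sum_congr rfl (g := fun χ => p (v χ) * k χ) fun χ _ => by
      simp only [hcan, hp]
      linear_combination (p (v χ) * k χ) * sg2 χ]
    linarith
  have sx := colS (·.x) (fun χ => (f χ : ℤ)) (fun _ _ => rfl) rfl cxf
  have sy := colS (·.y) (fun χ => (f χ : ℤ)) (fun _ _ => rfl) rfl cyf
  have sw := colS (·.w) (fun χ => (f χ : ℤ)) (fun _ _ => rfl) rfl cwf
  have su := colS (·.u) (fun χ => (f χ : ℤ)) (fun _ _ => rfl) rfl cuf
  simp only [hone.2, Nat.cast_one] at sx sy sw su
  have hfit : Fits (ls.map sf) (octStart l) := by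
    rw [octStart, ← hlmap, List.map_map]
    unfold Fits
    rw [List.forall₂_map_left_iff, List.forall₂_map_right_iff, List.forall₂_same]
    intro χ hχ
    refine ⟨?_, ?_, fun _ h => by simp at h, fun _ h => by simp at h⟩
    · simp only [hsf]
      refine mul_ne_zero (fun h => by have := sg2 χ; rw [h] at this; simp at this) ?_
      exact_mod_cast fun h : f χ = 0 => hfpos χ (by exact_mod_cast h)
    · simp only [hsf, hcan, hsg, Function.comp, scale]
      have h := h9 χ
      split_ifs <;> omega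
  have hcube1 := D.sum_cube f (fun χ => (v χ).x) (fun χ => (v χ).y) (fun χ => (hv χ).one) X Y
  have hcube2 := D.sum_cube' f (fun χ => (v χ).x) (fun χ => (v χ).y) (fun χ => (hv χ).one) X Y
  set n : ℤ := (Nat.card G : ℤ) with hn
  have hwgt : ∀ α β : ℤ, (n : ℚ) * ((α + β : ℤ) + qsum (l.map fun a => α * octK1 a + β * octK2 a) (ls.map sf)) =
      648 * ((α + β : ℤ) : ℚ) := by
    intro α β
    rw [hmap, qsum_map, sum_perm_toList S hls]
    have hterm : ∀ χ, ((α * octK1 (can χ) + β * octK2 (can χ) : ℤ) : ℚ) / (sf χ : ℚ) =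
        α * ((v χ).x * (v χ).x * (v χ).y / (f χ : ℚ)) + β * ((v χ).x * (v χ).y * (v χ).y / (f χ : ℚ)) := by
      intro χ
      simp only [hcan, hsf, hsg, octK1, octK2, scale]
      split_ifs
      · push_cast; ring
      · have := hfpos χ
        push_cast; field_simp; ring
    simp only [hterm]
    have hs1 := hsplitQ (fun χ => ((v χ).x : ℚ) * (v χ).x * (v χ).y / (f χ : ℚ)) (fun χ e => by simp [e, hzero])
    have hs2 := hsplitQ (fun χ => ((v χ).x : ℚ) * (v χ).y * (v χ).y / (f χ : ℚ)) (fun χ e => by simp [e, hzero])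
    simp only [hone.1, hone.2, hones, Int.cast_one, Nat.cast_one, div_one, one_mul] at hs1 hs2
    rw [hs1] at hcube1
    rw [hs2] at hcube2
    rw [Finset.sum_add_distrib, ← Finset.mul_sum, ← Finset.mul_sum, hn]
    push_cast
    linear_combination (α : ℚ) * hcube1 + (β : ℚ) * hcube2
  have hn72 : (72 : ℕ) ∣ Nat.card G := hN ▸ card_subgroup_dvd_card _
  have hindex : (normalizer ((P : Subgroup G) : Set G)).index = Nat.card G / 72 := by
    have := (normalizer ((P : Subgroup G) : Set G)).index_mul_card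
    rw [hN] at this
    omega
  have hdeg : ∀ χ, f χ ∣ Nat.card G := fun χ => by
    obtain ⟨k, hk, -, hd⟩ := irr_degree_dvd_card χ.2
    have : k = f χ := by exact_mod_cast hk.symm.trans (hv χ).one
    exact this ▸ hd
  have hsolve : Sol (octTask l (if l = octRows3 then octSols else [])) n (ls.map sf) := by
    refine ⟨?_, ?_, ?_, ?_, ?_, ?_, ?_, ?_⟩
    · intro e he
      simp only [octTask, octEqs, List.mem_map] at he
      obtain ⟨q, hq, rfl⟩ := he
      obtain ⟨hr, hco⟩ := octForms_values q hq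
      simp only
      rw [hmap, dot_map, sum_perm_toList S hls]
      have h6 : ∑ χ ∈ S, 6 * (octCoef q (can χ) * sf χ) = 6 * octRhs q := by
        rw [Finset.sum_congr rfl (g := fun χ => q.1 * ((can χ).x * (sg χ * (f χ : ℤ))) +
          q.2.1 * ((can χ).y * (sg χ * (f χ : ℤ))) + q.2.2.1 * ((can χ).w * (sg χ * (f χ : ℤ))) +
          q.2.2.2 * ((can χ).u * (sg χ * (f χ : ℤ)))) fun χ hχ => by
            rw [← mul_assoc, hco l hl (can χ) (hlmap ▸ List.mem_map.2
              ⟨χ, hls.symm.subset (Finset.mem_toList.2 hχ), rfl⟩)]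
            simp only [hsf]; ring]
        simp only [Finset.sum_add_distrib, ← Finset.mul_sum]
        linear_combination q.1 * sx + q.2.1 * sy + q.2.2.1 * sw + q.2.2.2 * su - hr
      rw [← Finset.mul_sum] at h6
      linarith
    · intro w hw
      simp only [octTask, octWeights, List.mem_cons, List.not_mem_nil, or_false] at hw
      rcases hw with rfl | rfl | rfl | rfl
      · simpa using hwgt 1 0
      · simpa using hwgt 0 1
      · simpa [sub_eq_add_neg] using hwgt 1 (-1)
      · simpa using hwgt 1 1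
    · simpa [octTask] using hwgt 1 0
    · simpa [octTask] using hwgt 0 1
    · rw [hn]; omega
    · have h9' := D.ti.card_sylow_mod
      haveI : Fact (Nat.Prime 3) := ⟨Nat.prime_three⟩
      rw [P.card_eq_index_normalizer] at h9'
      change (normalizer ((P : Subgroup G) : Set G)).index % 9 = 1 at h9'
      rw [hindex] at h9'
      rw [hn]; omega
    · rw [sumSq_map, sum_perm_toList S hls, hn]
      have hsq := sum_degree_sq (G := G)
      simp only [(hv _).one] at hsq
      have hsq' : ∑ χ, (f χ : ℤ) * (f χ : ℤ) = (Nat.card G : ℤ) := by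
        have : ((∑ χ, (f χ : ℤ) * (f χ : ℤ) : ℤ) : ℂ) = (((Nat.card G : ℤ)) : ℂ) := by
          push_cast; rw [← hsq]; exact Finset.sum_congr rfl fun χ _ => by ring
        exact_mod_cast this
      rw [← hsq', ← Finset.add_sum_erase _ _ (Finset.mem_univ triv), hone.2,
        Finset.sum_congr rfl (g := fun χ => (f χ : ℤ) * (f χ : ℤ)) fun χ _ => by
          simp only [hsf]; linear_combination ((f χ : ℤ) * (f χ : ℤ)) * sg2 χ]
      simp only [Nat.cast_one, mul_one, add_le_add_iff_left]
      exact Finset.sum_le_sum_of_subset_of_nonneg (Finset.filter_subset _ _)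
        fun χ _ _ => mul_self_nonneg _
    · intro x hx
      obtain ⟨χ, -, rfl⟩ := List.mem_map.1 hx
      rw [hn]
      refine Int.emod_eq_zero_of_dvd ?_
      have hd : ((f χ : ℤ)) ∣ (Nat.card G : ℤ) := Int.natCast_dvd_natCast.2 (hdeg χ)
      simp only [hsf, hsg]
      split_ifs
      · simpa using hd
      · simpa using hd
  obtain ⟨h3, hsol⟩ : l = octRows3 ∧ (n, ls.map sf) ∈ octSols := by
    simp only [octRows, List.mem_cons, List.not_mem_nil, or_false] at hl
    rcases hl with rfl | rfl | rfl | rfl | rfl | rfl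
    · exact absurd (check_sound _ _ _ _ _ hfit (by rwa [if_neg (by decide)] at hsolve) octCheck0)
        List.not_mem_nil
    · exact absurd (check_sound _ _ _ _ _ hfit (by rwa [if_neg (by decide)] at hsolve) octCheck1)
        List.not_mem_nil
    · exact absurd (check_sound _ _ _ _ _ hfit (by rwa [if_neg (by decide)] at hsolve) octCheck2)
        List.not_mem_nil
    · exact ⟨rfl, check_sound _ _ _ _ _ hfit (by rwa [if_pos rfl] at hsolve) octCheck3⟩
    · exact absurd (check_sound _ _ _ _ _ hfit (by rwa [if_neg (by decide)] at hsolve) octCheck4)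
        List.not_mem_nil
    · exact absurd (check_sound _ _ _ _ _ hfit (by rwa [if_neg (by decide)] at hsolve) octCheck5)
        List.not_mem_nil
  subst h3
  -- the group is not perfect
  have hperf : commutator G ≠ ⊤ := by
    intro hperf
    have hr1 := D.ne_one_r
    choose ρ hρ hρ4 hρb using fun χ : Cfsg.IrrCharacter G =>
      perfect_involution hperf (χ := χ) D.r2
    have hdegf : ∀ χ : Cfsg.IrrCharacter G, (PrimeBlock.deg χ : ℤ) = f χ := fun χ => by
      have h : (PrimeBlock.deg χ : ℂ) = (f χ : ℂ) := (PrimeBlock.deg_cast χ).trans (hv χ).one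
      exact_mod_cast h
    simp only [hdegf] at hρ4 hρb
    have hr3 : r ^ 2 = 1 := by rw [pow_two, D.r2]
    have er : ∀ g : G, g ^ 3 = 1 → g ≠ 1 → ¬ IsConj g r := fun g h3 hg h => by
      obtain ⟨t, ht⟩ := isConj_iff.1 h
      have h3' : r ^ 3 = 1 := by rw [← ht, conj_pow, h3, mul_one, mul_inv_cancel]
      exact hr1 (by rw [pow_succ, hr3, one_mul] at h3'; exact h3')
    have kxr := (oct_column _ _ _ _ X hρ).2 (er e1 he3 fun e => e10 (e ▸ IsConj.refl _))
    have kyr := (oct_column _ _ _ _ Y hρ).2 (er _ hd3 fun e => d10 (e ▸ IsConj.refl _))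
    have six_ne : ∀ g : G, orderOf g = 6 → ¬ IsConj g r := fun g hg h => by
      obtain ⟨t, ht⟩ := isConj_iff.1 h
      have h' : t * g ^ 2 * t⁻¹ = 1 := by rw [← conj_pow, ht, hr3]
      have h2 : g ^ 2 = 1 := conj_eq_one_iff.1 h'
      have := orderOf_dvd_of_pow_eq_one h2
      rw [hg] at this
      norm_num at this
    have kwr := (oct_column _ _ _ _ W hρ).2 (six_ne _ D.six_pow.2.2.2.2)
    have kur := (oct_column _ _ _ _ U hρ).2 (six_ne _ D.symm.six_pow.2.2.2.2)
    have hρtriv : ρ triv = 1 := by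
      have := hρ triv
      simp only [htriv, trivIrr_coe] at this
      rw [htriv]; exact_mod_cast this.symm
    have rx := colS (·.x) ρ (fun _ _ => rfl) rfl kxr
    have ry := colS (·.y) ρ (fun _ _ => rfl) rfl kyr
    have rw' := colS (·.w) ρ (fun _ _ => rfl) rfl kwr
    have ru := colS (·.u) ρ (fun _ _ => rfl) rfl kur
    rw [hρtriv] at rx ry rw' ru
    set t : Cfsg.IrrCharacter G → ℤ := fun χ => sg χ * ρ χ with ht
    have hall := killed_all _ hsol
    have hforall : List.Forall₂ (fun o x => x ∈ o) (List.zipWith killOpts octRows3 (ls.map sf)) (ls.map t) := by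
      rw [← hlmap, List.zipWith_map, List.zipWith_self, List.forall₂_map_left_iff,
        List.forall₂_map_right_iff, List.forall₂_same]
      intro χ hχ
      have h63 : (3 : ℤ) ∣ ρ χ - (v χ).w := by
        obtain ⟨k2, k3, k4, k6, -⟩ := D.six_pow
        have hc := BlocksChars.ClassAlg.classFun_eq_of_isConj (irr_isClassFunction χ) D.isConj_inv_e1
        obtain ⟨w, hw, -⟩ := D.six_val (X χ)
        have h5 : (χ : G → ℂ) ((e1 * r) ^ 5) = (χ : G → ℂ) (e1 * r) := by
          have hinv : (e1 * r) ^ 5 = (e1 * r)⁻¹ := eq_inv_of_mul_eq_one_left (by rw [← pow_succ, k6])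
          rw [hinv, char_inv (irr_isCharacter χ), hw, map_intCast]
        exact six_three (irr_isCharacter χ) k6 h5 (by rw [k2, k4]; exact hc) (a := (v χ).x)
          (by rw [k2, ← hc, X]) (W χ) (by rw [k3, hρ])
      refine mem_killOpts ?_ ?_ ?_
      · simp only [hsf, ht, hsg]
        split_ifs <;> simpa using hρb χ
      · simp only [hsf, ht, hsg]
        have := hρ4 χ
        split_ifs <;> omega
      · simp only [hcan, ht, hsg, scale]
        split_ifs <;> omega
    have hk := allChoices_sound _ _ [] _ hforall hall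
    simp only [List.reverse_nil, List.nil_append] at hk
    simp only [killTest, Bool.or_eq_true, decide_eq_true_eq] at hk
    have hq : ∀ (p : V5 → ℤ), (∀ s a, p (scale s a) = s * p a) → p ones = 1 →
        (0 : ℚ) ≤ ∑ χ, ((ρ χ : ℚ) * ρ χ * p (v χ) / (f χ : ℚ)) →
        ¬ (prodL (ls.map sf) + numer (List.zipWith (fun a s => p a * s * s) octRows3 (ls.map t)) (ls.map sf)) *
          prodL (ls.map sf) < 0 := by
      intro p hp hp1 hge hlt
      have hne := fits_ne hfit
      rw [← hlmap, List.zipWith_map, List.zipWith_self] at hlt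
      have hlt' := (Int.cast_lt (R := ℚ)).2 hlt
      push_cast at hlt'
      rw [numer_eq _ _ hne, qsum_map, sum_perm_toList S hls] at hlt'
      have hp0 : p zero = 0 := by
        have := hp 0 zero
        rwa [zero_mul, show scale 0 zero = zero from rfl] at this
      rw [hsplitQ _ (fun χ e => by rw [e, hp0]; simp), hone.1, hone.2, hp1, hρtriv] at hge
      rw [Finset.sum_congr rfl (g := fun χ => (ρ χ : ℚ) * ρ χ * p (v χ) / (f χ : ℚ)) fun χ _ => by
        simp only [hcan, ht, hsf, hp, hsg]
        have := hfpos χ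
        split_ifs
        · push_cast; ring
        · push_cast; field_simp] at hlt'
      simp only [Int.cast_one, Nat.cast_one, mul_one, div_one] at hge
      nlinarith [mul_nonneg (mul_self_nonneg ((prodL (ls.map sf) : ℚ))) hge]
    rcases hk with ((((h | h) | h) | h) | h) | h
    · rw [hmap, dot_map, sum_perm_toList S hls] at h; exact h rx
    · rw [hmap, dot_map, sum_perm_toList S hls] at h; exact h ry
    · rw [hmap, dot_map, sum_perm_toList S hls] at h; exact h rw'
    · rw [hmap, dot_map, sum_perm_toList S hls] at h; exact h ru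
    · refine hq (·.x) (fun _ _ => rfl) rfl ?_ h
      exact structure_nonneg r e1 f ρ _ (fun χ => (hv χ).one) hρ X
    · refine hq (·.y) (fun _ _ => rfl) rfl ?_ h
      exact structure_nonneg r (e1 * e2) f ρ _ (fun χ => (hv χ).one) hρ Y
  obtain ⟨lam, hlam⟩ := exists_linear_char hperf
  set toIrr : (G →* ℂˣ) → Cfsg.IrrCharacter G := fun mu => ⟨_, isIrrCharacter_linear mu⟩ with htoIrr
  have hlin : ∀ mu : G →* ℂˣ, mu ≠ 1 → toIrr mu ∈ S ∧
      linRow (can (toIrr mu), sf (toIrr mu)) = true := by
    intro mu hmu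
    obtain ⟨h1, h2⟩ := D.linear_one mu
    have a : f (toIrr mu) = 1 := by
      have := (hv (toIrr mu)).one
      simp only [htoIrr, map_one, Units.val_one] at this
      rw [htoIrr]; exact_mod_cast this.symm
    have b : (v (toIrr mu)).x = 1 := by
      have := X (toIrr mu)
      simp only [htoIrr, h1, Units.val_one] at this
      rw [htoIrr]; exact_mod_cast this.symm
    have d : (v (toIrr mu)).y = 1 := by
      have := Y (toIrr mu)
      simp only [htoIrr, h2, Units.val_one] at this
      rw [htoIrr]; exact_mod_cast this.symm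
    refine ⟨?_, ?_⟩
    · simp only [hS, Finset.mem_filter, Finset.mem_erase, Finset.mem_univ, and_true]
      refine ⟨fun e => hmu (MonoidHom.ext fun g => Units.ext ?_), fun e => ?_⟩
      · have := congrArg (fun χ : Cfsg.IrrCharacter G => (χ : G → ℂ) g) e
        simpa [htriv, htoIrr] using this
      · rw [e] at b; simp [hzero] at b
    · simp only [linRow, decide_eq_true_eq, hcan, hsf, scale, a, b, d, Nat.cast_one, mul_one]
      exact ⟨sg2 _, trivial, trivial⟩
  have hzip : octRows3.zip (ls.map sf) = ls.map fun χ => (can χ, sf χ) := by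
    rw [← hlmap, List.zip_map']
  have hcount : ∀ mu : G →* ℂˣ, mu ≠ 1 → toIrr mu ∈ S.filter (fun χ => linRow (can χ, sf χ) = true) :=
    fun mu hmu => Finset.mem_filter.2 (hlin mu hmu)
  have hcnt : (octRows3.zip (ls.map sf)).countP linRow =
      (S.filter fun χ => linRow (can χ, sf χ) = true).card := by
    rw [hzip, List.countP_map]; exact countP_perm_toList S hls _
  rcases octSols_linRow _ hsol with h | h | ⟨hord, hc1, hall⟩
  · left; simp only [hn] at h; omega
  · rw [hcnt, Finset.card_eq_zero] at h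
    have := hcount lam hlam
    rw [h] at this
    simp at this
  · right
    refine ⟨by simp only [hn] at hord; omega, lam, ?_⟩
    have hmem := hcount lam hlam
    obtain ⟨hS', hrow⟩ := Finset.mem_filter.1 hmem
    have hp := hall (can (toIrr lam), sf (toIrr lam)) (by
      rw [hzip]; exact List.mem_map.2 ⟨_, hls.symm.subset (Finset.mem_toList.2 hS'), rfl⟩) hrow
    simp only [Prod.mk.injEq, hcan, hsf, scale, V5.mk.injEq] at hp
    obtain ⟨h1, h2⟩ := D.linear_one lam
    have hfl : f (toIrr lam) = 1 := by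
      have := (hv (toIrr lam)).one
      simp only [htoIrr, map_one, Units.val_one] at this
      rw [htoIrr]; exact_mod_cast this.symm
    rw [hfl, Nat.cast_one, mul_one] at hp
    obtain ⟨⟨-, -, -, hw, hu⟩, hsgl⟩ := hp
    rw [hsgl, neg_one_mul] at hw hu
    refine ⟨?_, ?_, fun mu hmu => ?_⟩
    · have := W (toIrr lam)
      rw [show (v (toIrr lam)).w = -1 by linarith] at this
      simpa [htoIrr, map_mul, h1] using this
    · have := U (toIrr lam)
      rw [show (v (toIrr lam)).u = -1 by linarith] at this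
      simp only [htoIrr, map_mul] at this h2
      rw [h2] at this
      simpa using this
    · rw [hcnt] at hc1
      have he := Finset.card_le_one.1 hc1.le _ (hcount mu hmu) _ hmem
      refine MonoidHom.ext fun g => Units.ext ?_
      exact congrArg (fun χ : Cfsg.IrrCharacter G => (χ : G → ℂ) g) he

end Cfsg.Agent.SelfNine
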