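import Cfsg.Agent.Lib.SelfNine.OctData

/-!
# Coordinates from a dihedral group of automorphisms
-/

set_option autoImplicit false
set_option linter.style.haveILetI false
set_option linter.unusedSectionVars false

namespace Cfsg.Agent.SelfNine

open Subgroup

variable {G : Type*} [Group G] [Finite G] {P : Sylow 3 G}

/-- The normalizer has no prime divisors besides two and three. -/
theorem NineTI.prime_dvd_normalizer (h : NineTI P)
    (hC : centralizer ((P : Subgroup G) : Set G) = (P : Subgroup G)) {q : ℕ} (hq : q.Prime)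
    (hdvd : q ∣ Nat.card (normalizer ((P : Subgroup G) : Set G))) : q = 2 ∨ q = 3 := by
  classical
  by_contra hcon
  push Not at hcon
  haveI : Fact q.Prime := ⟨hq⟩
  obtain ⟨g, hg⟩ := exists_prime_orderOf_dvd_card' q hdvd
  have h5 : 5 ≤ q := by
    have := hq.two_le
    rcases (show q = 4 ∨ 5 ≤ q by omega) with rfl | h5
    · norm_num at hq
    · exact h5
  let act : MulAction (zpowers g) (P : Subgroup G) :=
    { smul := fun k a => ⟨((k : normalizer ((P : Subgroup G) : Set G)) : G) * a *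
        ((k : normalizer ((P : Subgroup G) : Set G)) : G)⁻¹,
        (mem_normalizer_iff.1 (k : normalizer ((P : Subgroup G) : Set G)).2 a).1 a.2⟩
      one_smul := fun a => Subtype.ext (by change ((1 : G) * a * (1 : G)⁻¹) = a; simp)
      mul_smul := fun k l a => Subtype.ext (by
        change ((((k : normalizer ((P : Subgroup G) : Set G)) : G) * (l : normalizer ((P : Subgroup G) : Set G))) *
            (a : G) * (((k : normalizer ((P : Subgroup G) : Set G)) : G) * (l : normalizer ((P : Subgroup G) : Set G)))⁻¹) =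
          ((k : normalizer ((P : Subgroup G) : Set G)) : G) * (((l : normalizer ((P : Subgroup G) : Set G)) : G) *
            (a : G) * ((l : normalizer ((P : Subgroup G) : Set G)) : G)⁻¹) *
            ((k : normalizer ((P : Subgroup G) : Set G)) : G)⁻¹
        group) }
  have hz : IsPGroup q (zpowers g) := IsPGroup.of_card (n := 1) (by rw [Nat.card_zpowers, hg, pow_one])
  have hmod := hz.card_modEq_card_fixedPoints (P : Subgroup G)
  let F : Subgroup (P : Subgroup G) :=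
    { carrier := {a | ((g : G) * (a : G) * (g : G)⁻¹) = (a : G)}
      one_mem' := by simp
      mul_mem' := fun {a b} ha hb => by
        simp only [Set.mem_setOf_eq, Subgroup.coe_mul] at *
        rw [show (g : G) * ((a : G) * b) * (g : G)⁻¹ = ((g : G) * a * (g : G)⁻¹) * ((g : G) * b * (g : G)⁻¹) by group,
          ha, hb]
      inv_mem' := fun {a} ha => by
        simp only [Set.mem_setOf_eq, Subgroup.coe_inv] at *
        rw [show (g : G) * (a : G)⁻¹ * (g : G)⁻¹ = ((g : G) * a * (g : G)⁻¹)⁻¹ by group, ha] }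
  have hF : MulAction.fixedPoints (zpowers g) (P : Subgroup G) = (F : Set (P : Subgroup G)) := by
    ext a
    refine ⟨fun ha => ?_, fun ha => ?_⟩
    · exact congrArg Subtype.val (ha ⟨g, mem_zpowers g⟩)
    · rintro ⟨k, hk⟩
      obtain ⟨n, rfl⟩ := mem_zpowers_iff.1 hk
      refine Subtype.ext ?_
      change ((g ^ n : normalizer ((P : Subgroup G) : Set G)) : G) * (a : G) * _ = (a : G)
      have hc : Commute (g : G) (a : G) := mul_inv_eq_iff_eq_mul.1 ha
      rw [Subgroup.coe_zpow, (hc.zpow_left n).eq, mul_inv_cancel_right]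
  rw [hF, h.card] at hmod
  change 9 ≡ Nat.card F [MOD q] at hmod
  have hdiv : Nat.card F ∣ 3 ^ 2 := by
    have := card_subgroup_dvd_card F
    rwa [h.card] at this
  obtain ⟨m, hm, hFc⟩ := (Nat.dvd_prime_pow Nat.prime_three).1 hdiv
  rw [hFc] at hmod
  have h9 : Nat.card F = 9 := by
    interval_cases m
    · exact absurd ((Nat.modEq_iff_dvd' (by norm_num)).1 hmod.symm) (fun hd => by
        have h8 := Nat.le_of_dvd (by norm_num) hd
        interval_cases q <;> norm_num at *)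
    · exact absurd ((Nat.modEq_iff_dvd' (by norm_num)).1 hmod.symm) (fun hd => by
        have h6 := Nat.le_of_dvd (by norm_num) hd
        interval_cases q <;> norm_num at *)
    · simpa using hFc
  have hall : ∀ a ∈ (P : Subgroup G), a * (g : G) = (g : G) * a := fun a ha => by
    have hmem : (⟨a, ha⟩ : (P : Subgroup G)) ∈ F := by
      rw [eq_top_of_card_eq F (by rw [h9, h.card])]; exact mem_top _
    exact (mul_inv_eq_iff_eq_mul.1 hmem).symm
  have hgP : (g : G) ∈ (P : Subgroup G) := hC.le (mem_centralizer_iff.2 hall)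
  have h3 := orderOf_dvd_of_pow_eq_one (h.exp _ hgP)
  rw [Subgroup.orderOf_coe, hg] at h3
  exact hcon.2 ((Nat.prime_dvd_prime_iff_eq hq Nat.prime_three).1 h3)

/-- The normalizer has order seventy two if a Sylow `2`-subgroup of it has order eight. -/
theorem NineTI.card_normalizer (h : NineTI P)
    (hC : centralizer ((P : Subgroup G) : Set G) = (P : Subgroup G))
    (K : Sylow 2 (normalizer ((P : Subgroup G) : Set G))) (hK : Nat.card (K : Subgroup (normalizer ((P : Subgroup G) : Set G))) = 8) :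
    Nat.card (normalizer ((P : Subgroup G) : Set G)) = 72 := by
  haveI : Fact (Nat.Prime 3) := ⟨Nat.prime_three⟩
  haveI : Fact (Nat.Prime 2) := ⟨Nat.prime_two⟩
  set Q := (P : Subgroup G).subgroupOf (normalizer ((P : Subgroup G) : Set G)) with hQ
  have hQc : Nat.card Q = 9 := by
    rw [hQ, Nat.card_congr (subgroupOfEquivOfLe le_normalizer).toEquiv, h.card]
  have h9 := Q.index_mul_card
  have h8 := (K : Subgroup (normalizer ((P : Subgroup G) : Set G))).index_mul_card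
  rw [hQc] at h9
  rw [hK] at h8
  have hQi : ¬ 3 ∣ Q.index := fun hd => P.not_dvd_index (hd.trans (relIndex_dvd_index_of_le le_normalizer))
  have hKi := K.not_dvd_index
  have hone : ∀ q : ℕ, q.Prime → q ∣ Q.index → q = 2 := fun q hq hd => by
    rcases h.prime_dvd_normalizer hC hq (show q ∣ Nat.card (normalizer ((P : Subgroup G) : Set G)) from h9 ▸ hd.mul_right 9) with e | e
    · exact e
    · exact absurd (e ▸ hd) hQi
  obtain ⟨k, hk⟩ : ∃ k, Q.index = 2 ^ k := by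
    refine ⟨Q.index.primeFactorsList.length, Nat.eq_prime_pow_of_unique_prime_dvd ?_ fun {d} hd hdd => hone d hd hdd⟩
    exact index_ne_zero_of_finite
  have h8d : 8 ∣ Nat.card (normalizer ((P : Subgroup G) : Set G)) := ⟨(K : Subgroup (normalizer ((P : Subgroup G) : Set G))).index, by rw [← h8, mul_comm]⟩
  rw [← h9, hk] at h8d
  have h2 : 2 ^ 3 ∣ 2 ^ k :=
    (Nat.Coprime.dvd_of_dvd_mul_right (by norm_num) h8d)
  have hk3 : 3 ≤ k := (Nat.pow_dvd_pow_iff_le_right (by norm_num)).1 h2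
  rcases Nat.lt_or_ge k 4 with hlt | hge
  · rw [← h9, hk, show k = 3 by omega]
    norm_num
  · exfalso
    apply hKi
    have h16 : 2 ^ 4 ∣ Nat.card (normalizer ((P : Subgroup G) : Set G)) := h9 ▸ hk ▸ (pow_dvd_pow 2 hge).mul_right 9
    rw [← h8] at h16
    exact Nat.dvd_of_mul_dvd_mul_right (k := 8) (by norm_num) (by simpa using h16)

/-- The action of the dihedral group on coordinates. -/
theorem dihedral_coords : ∀ u v : ZMod 3 × ZMod 3,
    (let L := fun a : ZMod 3 × ZMod 3 => (a.1 * u.1 + a.2 * v.1, a.1 * u.2 + a.2 * v.2)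
     let S := fun a : ZMod 3 × ZMod 3 => (a.1, -a.2)
     L (S (L (S (1, 0)))) = (1, 0) → L (S (L (S (0, 1)))) = (0, 1) →
      L (L (L (L (1, 0)))) = (1, 0) → L (L (L (L (0, 1)))) = (0, 1) →
      ¬ (L (L (1, 0)) = (1, 0) ∧ L (L (0, 1)) = (0, 1)) → u.1 = 0 ∧ u.2 ≠ 0) := by
  decide

theorem exists_octData (h : NineTI P)
    (hC : centralizer ((P : Subgroup G) : Set G) = (P : Subgroup G))
    (φ : DihedralGroup 4 →* G) (hφ : Function.Injective φ)
    (hmem : ∀ d, φ d ∈ normalizer ((P : Subgroup G) : Set G))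
    (hN : Nat.card (normalizer ((P : Subgroup G) : Set G)) = 72) :
    ∃ e1 e2 r c : G, OctData P e1 e2 r c := by
  classical
  obtain ⟨ρ, hρ⟩ : ∃ ρ, ρ = φ (DihedralGroup.r 1) := ⟨_, rfl⟩
  obtain ⟨σ, hσ⟩ : ∃ σ, σ = φ (DihedralGroup.sr 0) := ⟨_, rfl⟩
  have hσ2 : σ * σ = 1 := by
    rw [hσ, ← map_mul, ← map_one φ]; exact congrArg φ (by decide)
  have hσi : σ⁻¹ = σ := inv_eq_of_mul_eq_one_right hσ2
  have hρ4 : ρ ^ 4 = 1 := by
    rw [hρ, ← map_pow, ← map_one φ]; exact congrArg φ (by decide)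
  have hrel : σ * ρ * σ = ρ⁻¹ := by
    rw [hσ, hρ, ← map_mul, ← map_mul, ← map_inv]; exact congrArg φ (by decide)
  have conjmem : ∀ d, ∀ a ∈ (P : Subgroup G), φ d * a * (φ d)⁻¹ ∈ (P : Subgroup G) := fun d a ha =>
    (mem_normalizer_iff.1 (hmem d) a).1 ha
  have notP : ∀ d, φ d ∈ (P : Subgroup G) → d = 1 := fun d hd => by
    have h3 : φ (d ^ 3) = φ 1 := by rw [map_pow, map_one]; exact h.exp _ hd
    have key : ∀ d : DihedralGroup 4, d ^ 3 = 1 → d = 1 := by decide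
    exact key d (hφ h3)
  have faithful : ∀ d, (∀ a ∈ (P : Subgroup G), φ d * a * (φ d)⁻¹ = a) → d = 1 := fun d hd => by
    refine notP d ?_
    rw [← hC, mem_centralizer_iff]
    intro a ha
    exact (mul_inv_eq_iff_eq_mul.1 (hd a ha)).symm
  have σmem : ∀ a ∈ (P : Subgroup G), σ * a * σ ∈ (P : Subgroup G) := fun a ha => by
    have := conjmem (DihedralGroup.sr 0) a ha
    rwa [← hσ, hσi] at this
  have twice : ∀ a : G, σ * (σ * a * σ) * σ = a := fun a => by
    rw [show σ * (σ * a * σ) * σ = (σ * σ) * a * (σ * σ) by group, hσ2, one_mul, mul_one]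
  have hmulσ : ∀ a b : G, σ * (a * b) * σ = (σ * a * σ) * (σ * b * σ) := fun a b => by
    rw [show (σ * a * σ) * (σ * b * σ) = σ * a * (σ * σ) * b * σ by group, hσ2]; group
  have hinvσ : ∀ a : G, σ * a⁻¹ * σ = (σ * a * σ)⁻¹ := fun a => by
    rw [mul_inv_rev, mul_inv_rev, hσi, mul_assoc]
  -- a fixed element
  obtain ⟨e1, hm1, he1, hσ1⟩ : ∃ e ∈ (P : Subgroup G), e ≠ 1 ∧ σ * e * σ = e := by
    by_contra hcon
    push Not at hcon
    have hinv : ∀ a ∈ (P : Subgroup G), σ * a * σ = a⁻¹ := fun a ha => by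
      refine eq_inv_of_mul_eq_one_right ?_
      by_contra hne
      refine hcon _ (mul_mem ha (σmem a ha)) hne ?_
      rw [hmulσ, twice]
      exact h.comm _ (σmem a ha) _ ha
    have hbad : DihedralGroup.r (2 : ZMod 4) = 1 := faithful _ fun a ha => by
      have e2 : φ (DihedralGroup.r 2) = σ * (ρ⁻¹ * σ * ρ) := by
        rw [hσ, hρ, ← map_inv, ← map_mul, ← map_mul, ← map_mul]; exact congrArg φ (by decide)
      have hρa : ρ * a * ρ⁻¹ ∈ (P : Subgroup G) := by rw [hρ]; exact conjmem _ a ha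
      rw [e2]
      calc σ * (ρ⁻¹ * σ * ρ) * a * (σ * (ρ⁻¹ * σ * ρ))⁻¹
          = σ * (ρ⁻¹ * (σ * (ρ * a * ρ⁻¹) * σ⁻¹) * ρ) * σ⁻¹ := by group
        _ = σ * a⁻¹ * σ := by rw [hσi, hinv _ hρa]; group
        _ = a := by rw [hinv _ (inv_mem ha), inv_inv]
    exact absurd hbad (by decide)
  obtain ⟨e2, hm2, he2, hσ2'⟩ : ∃ e ∈ (P : Subgroup G), e ≠ 1 ∧ σ * e * σ = e⁻¹ := by
    by_contra hcon
    push Not at hcon
    have hfix : ∀ a ∈ (P : Subgroup G), σ * a * σ = a := fun a ha => by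
      by_contra hne
      refine hcon (a⁻¹ * (σ * a * σ)) (mul_mem (inv_mem ha) (σmem a ha))
        (fun e => hne (inv_mul_eq_one.1 e).symm) ?_
      rw [hmulσ, hinvσ, twice]; group
    have hbad : DihedralGroup.sr (0 : ZMod 4) = 1 := faithful _ fun a ha => by
      rw [← hσ, hσi]; exact hfix a ha
    exact absurd hbad (by decide)
  have cube : ∀ g ∈ (P : Subgroup G), g * g = 1 → g = 1 := fun g hg e => by
    have := h.exp g hg
    rwa [pow_succ, pow_two, e, one_mul] at this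
  have hσpow : ∀ i : ℕ, σ * e1 ^ i * σ = e1 ^ i ∧ σ * e2 ^ i * σ = (e2 ^ i)⁻¹ := by
    intro i
    induction i with
    | zero => simp [hσ2]
    | succ i ih =>
      refine ⟨by rw [pow_succ, hmulσ, ih.1, hσ1], ?_⟩
      rw [pow_succ, hmulσ, ih.2, hσ2', mul_inv_rev]
      exact h.comm _ (inv_mem (pow_mem hm2 i)) _ (inv_mem hm2)
  -- coordinates
  let cf : ZMod 3 × ZMod 3 → ↥(P : Subgroup G) := fun a =>
    ⟨coord e1 e2 a, mul_mem (pow_mem hm1 _) (pow_mem hm2 _)⟩
  have ho : ∀ e ∈ (P : Subgroup G), e ≠ 1 → orderOf e = 3 := fun e he hne =>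
    orderOf_eq_prime (hp := ⟨Nat.prime_three⟩) (h.exp e he) hne
  have hinj : Function.Injective cf := by
    rintro ⟨i, j⟩ ⟨i', j'⟩ e
    have e' : e1 ^ i.val * e2 ^ j.val = e1 ^ i'.val * e2 ^ j'.val := congrArg Subtype.val e
    have er := congrArg (fun g => σ * g * σ) e'
    simp only [hmulσ, (hσpow _).1, (hσpow _).2] at er
    have hj : e2 ^ j.val = e2 ^ j'.val := by
      refine inv_mul_eq_one.1 (cube _ (mul_mem (inv_mem (pow_mem hm2 _)) (pow_mem hm2 _)) ?_)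
      have x1 : (e1 ^ i.val)⁻¹ * e1 ^ i'.val = e2 ^ j.val * (e2 ^ j'.val)⁻¹ := by
        rw [inv_mul_eq_iff_eq_mul, ← mul_assoc, e']; group
      have x2 : (e1 ^ i.val)⁻¹ * e1 ^ i'.val = (e2 ^ j.val)⁻¹ * e2 ^ j'.val := by
        rw [inv_mul_eq_iff_eq_mul, ← mul_assoc, er]; group
      calc ((e2 ^ j.val)⁻¹ * e2 ^ j'.val) * ((e2 ^ j.val)⁻¹ * e2 ^ j'.val)
          = (e2 ^ j.val * (e2 ^ j'.val)⁻¹) * ((e2 ^ j.val)⁻¹ * e2 ^ j'.val) := by rw [← x2, x1]
        _ = 1 := by rw [h.comm _ (pow_mem hm2 _) _ (inv_mem (pow_mem hm2 _))]; group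
    have hi : e1 ^ i.val = e1 ^ i'.val := by rw [hj] at e'; exact mul_right_cancel e'
    rw [pow_inj_mod, ho e1 hm1 he1, Nat.mod_eq_of_lt (ZMod.val_lt i), Nat.mod_eq_of_lt (ZMod.val_lt i')] at hi
    rw [pow_inj_mod, ho e2 hm2 he2, Nat.mod_eq_of_lt (ZMod.val_lt j), Nat.mod_eq_of_lt (ZMod.val_lt j')] at hj
    exact Prod.ext (ZMod.val_injective 3 hi) (ZMod.val_injective 3 hj)
  have hsurj : ∀ g ∈ (P : Subgroup G), ∃ a, coord e1 e2 a = g := fun g hg => by
    obtain ⟨a, ha⟩ := ((Nat.bijective_iff_injective_and_card cf).2 ⟨hinj, by simp [h.card]⟩).2 ⟨g, hg⟩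
    exact ⟨a, congrArg Subtype.val ha⟩
  have hcinj : ∀ {a b}, coord e1 e2 a = coord e1 e2 b → a = b := fun {a b} e => hinj (Subtype.ext e)
  have hpm : ∀ e ∈ (P : Subgroup G), ∀ n : ℕ, e ^ n = e ^ ((n : ZMod 3).val) := fun e he n => by
    rw [ZMod.val_natCast]; exact pow_eq_pow_mod n (h.exp e he)
  have hadd : ∀ a b, coord e1 e2 (a + b) = coord e1 e2 a * coord e1 e2 b := fun a b => by
    have h1 : e1 ^ (a.1 + b.1).val = e1 ^ a.1.val * e1 ^ b.1.val := by
      rw [← pow_add, hpm e1 hm1 (a.1.val + b.1.val)]; simp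
    have h2 : e2 ^ (a.2 + b.2).val = e2 ^ a.2.val * e2 ^ b.2.val := by
      rw [← pow_add, hpm e2 hm2 (a.2.val + b.2.val)]; simp
    have hc := h.comm _ (pow_mem hm1 b.1.val) _ (pow_mem hm2 a.2.val)
    simp only [coord, Prod.fst_add, Prod.snd_add, h1, h2]
    rw [mul_assoc (e1 ^ a.1.val), ← mul_assoc (e1 ^ b.1.val), hc]
    group
  have h10 : coord e1 e2 (1, 0) = e1 := by simp [coord, show (1 : ZMod 3).val = 1 from rfl]
  have h01 : coord e1 e2 (0, 1) = e2 := by simp [coord, show (1 : ZMod 3).val = 1 from rfl]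
  have hScoord : ∀ a, σ * coord e1 e2 a * σ = coord e1 e2 (a.1, -a.2) := fun a => by
    simp only [coord, hmulσ, (hσpow _).1, (hσpow _).2]
    congr 1
    refine inv_eq_of_mul_eq_one_right ?_
    rw [← pow_add, hpm e2 hm2]; simp
  have hρmem : ∀ a ∈ (P : Subgroup G), ρ * a * ρ⁻¹ ∈ (P : Subgroup G) := fun a ha => by
    rw [hρ]; exact conjmem _ a ha
  obtain ⟨u, hu⟩ := hsurj _ (hρmem e1 hm1)
  obtain ⟨v, hv⟩ := hsurj _ (hρmem e2 hm2)
  have hpowc : ∀ (n : ℕ) (b : ZMod 3 × ZMod 3), (coord e1 e2 b) ^ n = coord e1 e2 (n • b) := fun n b => by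
    induction n with
    | zero => simp [coord]
    | succ n ih => rw [pow_succ, succ_nsmul, hadd, ih]
  have hL : ∀ a : ZMod 3 × ZMod 3,
      ρ * coord e1 e2 a * ρ⁻¹ = coord e1 e2 (a.1 * u.1 + a.2 * v.1, a.1 * u.2 + a.2 * v.2) := fun a => by
    have e : ρ * coord e1 e2 a * ρ⁻¹ = (ρ * e1 * ρ⁻¹) ^ a.1.val * (ρ * e2 * ρ⁻¹) ^ a.2.val := by
      rw [conj_pow, conj_pow]; simp only [coord]; group
    rw [e, ← hu, ← hv, hpowc, hpowc, ← hadd]
    congr 1
    refine Prod.ext ?_ ?_ <;> simp [ZMod.natCast_val, ZMod.cast_id]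
  have hw : ∀ a, ρ * (σ * (ρ * (σ * coord e1 e2 a * σ) * ρ⁻¹) * σ) * ρ⁻¹ = coord e1 e2 a := fun a => by
    calc ρ * (σ * (ρ * (σ * coord e1 e2 a * σ) * ρ⁻¹) * σ) * ρ⁻¹
        = ρ * (σ * ρ * σ) * coord e1 e2 a * (σ * ρ⁻¹ * σ) * ρ⁻¹ := by group
      _ = coord e1 e2 a := by
        rw [hinvσ, hrel, inv_inv]; group
  have hfour : ∀ a, ρ * (ρ * (ρ * (ρ * coord e1 e2 a * ρ⁻¹) * ρ⁻¹) * ρ⁻¹) * ρ⁻¹ = coord e1 e2 a := fun a => by
    rw [show ρ * (ρ * (ρ * (ρ * coord e1 e2 a * ρ⁻¹) * ρ⁻¹) * ρ⁻¹) * ρ⁻¹ = (ρ * ρ * ρ * ρ) * coord e1 e2 a * (ρ * ρ * ρ * ρ)⁻¹ by group,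
      show ρ * ρ * ρ * ρ = 1 by rw [← hρ4, pow_succ, pow_succ, pow_succ, pow_one], inv_one, one_mul, mul_one]
  obtain ⟨hu1, -⟩ := dihedral_coords u v
    (hcinj (by rw [← hL, ← hScoord, ← hL, ← hScoord]; exact hw (1, 0)))
    (hcinj (by rw [← hL, ← hScoord, ← hL, ← hScoord]; exact hw (0, 1)))
    (hcinj (by rw [← hL, ← hL, ← hL, ← hL]; exact hfour (1, 0)))
    (hcinj (by rw [← hL, ← hL, ← hL, ← hL]; exact hfour (0, 1)))
    (fun ⟨q1, q2⟩ => by
      beta_reduce at q1 q2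
      have k1 : ρ * (ρ * e1 * ρ⁻¹) * ρ⁻¹ = e1 := by
        conv_lhs => rw [← h10, hL, hL, q1, h10]
      have k2 : ρ * (ρ * e2 * ρ⁻¹) * ρ⁻¹ = e2 := by
        conv_lhs => rw [← h01, hL, hL, q2, h01]
      have hbad : DihedralGroup.r (2 : ZMod 4) = 1 := faithful _ fun a ha => by
        obtain ⟨b, rfl⟩ := hsurj a ha
        have e : φ (DihedralGroup.r 2) = ρ * ρ := by rw [hρ, ← map_mul]; exact congrArg φ (by decide)
        rw [e, show ρ * ρ * coord e1 e2 b * (ρ * ρ)⁻¹ = (ρ * (ρ * e1 * ρ⁻¹) * ρ⁻¹) ^ b.1.val *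
          (ρ * (ρ * e2 * ρ⁻¹) * ρ⁻¹) ^ b.2.val by
            rw [conj_pow, conj_pow, conj_pow, conj_pow]; simp only [coord]; group, k1, k2]
        rfl
      exact absurd hbad (by decide))
  obtain ⟨f2, hf2⟩ : ∃ f, f = ρ * e1 * ρ⁻¹ := ⟨_, rfl⟩
  have hf2m : f2 ∈ (P : Subgroup G) := hf2 ▸ hρmem e1 hm1
  have hu2 : u.2 ≠ 0 := by
    intro hz
    apply he1
    have : ρ * e1 * ρ⁻¹ = 1 := by
      rw [← hu, show u = (0, 0) from Prod.ext hu1 hz]; simp [coord]
    exact conj_eq_one_iff.1 this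
  have hrf : σ * f2 * σ = f2⁻¹ := by
    rw [hf2, ← hu]
    simp only [coord, hu1, ZMod.val_zero, pow_zero, one_mul]
    exact (hσpow _).2
  obtain ⟨w, hw2⟩ : ∃ w : ℕ, e2 = f2 ^ w := by
    refine ⟨u.2.val, ?_⟩
    rw [hf2, ← hu]
    simp only [coord, hu1, ZMod.val_zero, pow_zero, one_mul, ← pow_mul]
    have hsq : ∀ z : ZMod 3, z ≠ 0 → z.val * z.val % 3 = 1 := by decide
    rw [pow_eq_pow_mod _ (h.exp e2 hm2), hsq _ hu2, pow_one]
  refine ⟨e1, f2, σ, ρ * σ, ⟨h, hm1, hf2m, fun a ha => ?_, hσ2, ?_, ?_, hσ1, hrf, ?_, fun g hg => ?_⟩⟩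
  · obtain ⟨b, rfl⟩ := hsurj a ha
    exact ⟨b.1.val, w * b.2.val, by simp only [coord]; rw [pow_mul, ← hw2]⟩
  · rw [mul_assoc, ← mul_assoc σ, hrel, mul_inv_cancel]
  · rw [← mul_assoc, hrel, inv_pow, hρ4, inv_one]
  · rw [show ρ * σ * e1 * (ρ * σ) = ρ * (σ * e1 * σ) * (σ * ρ * σ) by
      rw [show ρ * (σ * e1 * σ) * (σ * ρ * σ) = ρ * σ * e1 * (σ * σ) * ρ * σ by group, hσ2]; group,
      hσ1, hrel, hf2]
  · rw [← mul_assoc σ ρ σ, hrel]
    set N := normalizer ((P : Subgroup G) : Set G) with hNdef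
    let M : DihedralGroup 4 × ↥(P : Subgroup G) → N := fun p =>
      ⟨φ p.1 * (p.2 : G), mul_mem (hmem p.1) (le_normalizer p.2.2)⟩
    have hM : Function.Injective M := by
      rintro ⟨d, p⟩ ⟨d', p'⟩ e
      have e' : φ d * (p : G) = φ d' * (p' : G) := congrArg Subtype.val e
      have hd : d'⁻¹ * d = 1 := by
        refine notP _ ?_
        have : φ (d'⁻¹ * d) = (p' : G) * (p : G)⁻¹ := by
          rw [map_mul, map_inv, eq_mul_inv_iff_mul_eq, mul_assoc, e']; group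
        rw [this]; exact mul_mem p'.2 (inv_mem p.2)
      obtain rfl : d' = d := inv_mul_eq_one.1 hd
      exact Prod.ext rfl (Subtype.ext (mul_left_cancel e'))
    obtain ⟨⟨d, p⟩, hd⟩ := ((Nat.bijective_iff_injective_and_card M).2 ⟨hM, by
      rw [Nat.card_prod, DihedralGroup.nat_card, h.card, hN]⟩).2 ⟨g, hg⟩
    have hgd : g = φ d * (p : G) := (congrArg Subtype.val hd).symm
    obtain ⟨i, j, hij⟩ : ∃ i : Fin 4, ∃ j : Fin 2,
        d = ((DihedralGroup.r 1)⁻¹) ^ (i : ℕ) * (DihedralGroup.sr 0) ^ (j : ℕ) := by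
      clear hd hgd
      revert d
      decide
    refine ⟨i, j, p, p.2, ?_⟩
    rw [hgd, hij, map_mul, map_pow, map_pow, map_inv, ← hρ, ← hσ]

end Cfsg.Agent.SelfNine
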