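import Mathlib

/-!
# Recognition of the symmetric group of degree six

A group with a normal subgroup of index two isomorphic to the alternating group of degree six,
with trivial centralizer, is the symmetric group as soon as an outer element centralizes each
element of order three.
-/

set_option autoImplicit false
set_option linter.style.haveILetI false

namespace Cfsg.Agent.SelfNine

open Equiv

/-- The product of two transpositions with common first point. -/
def tri (a b c : Fin 6) : Perm (Fin 6) := Equiv.swap a b * Equiv.swap a c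

theorem exists_tri {σ : Perm (Fin 6)} (h : σ.IsThreeCycle) :
    ∃ g : Perm (Fin 6), σ = g * tri 0 1 2 * g⁻¹ := by
  have h0 : (tri 0 1 2).IsThreeCycle :=
    Equiv.Perm.isThreeCycle_swap_mul_swap_same (by decide) (by decide) (by decide)
  obtain ⟨g, hg⟩ := isConj_iff.1 (Equiv.Perm.isConj_of_cycleType_eq (show (tri 0 1 2).cycleType = σ.cycleType from
    h0.cycleType.trans h.cycleType.symm))
  exact ⟨g, hg.symm⟩

theorem conj_tri (g : Perm (Fin 6)) (a b c : Fin 6) :
    g * tri a b c * g⁻¹ = tri (g a) (g b) (g c) := by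
  simp only [tri, Equiv.swap_apply_apply]
  group

theorem triple_table : ∀ a b c : Fin 6, a ≠ b → a ≠ c → b ≠ c →
    tri 0 1 2 * tri a b c * (tri 0 1 2 * tri a b c) = 1 → tri 0 1 2 ≠ tri a b c →
    ∀ a' b' c' : Fin 6, a' ≠ b' → a' ≠ c' → b' ≠ c' →
      tri 0 1 2 * tri a' b' c' * (tri 0 1 2 * tri a' b' c') = 1 →
      tri a b c * tri a' b' c' * (tri a b c * tri a' b' c') = 1 →
      ∃ i, tri 0 1 2 i = i ∧ tri a b c i = i ∧ tri a' b' c' i = i := by
  decide +kernel

/-- Three distinct three-cycles with products of order two have a common fixed point. -/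
theorem common_fixed {x y z : Perm (Fin 6)} (hx : x.IsThreeCycle) (hy : y.IsThreeCycle)
    (hz : z.IsThreeCycle) (hne : x ≠ y) (hxy : x * y * (x * y) = 1) (hxz : x * z * (x * z) = 1)
    (hyz : y * z * (y * z) = 1) : ∃ i, x i = i ∧ y i = i ∧ z i = i := by
  obtain ⟨g, rfl⟩ := exists_tri hx
  obtain ⟨h, rfl⟩ := exists_tri hy
  obtain ⟨k, rfl⟩ := exists_tri hz
  have hh : h * tri 0 1 2 * h⁻¹ = g * tri (g⁻¹ (h 0)) (g⁻¹ (h 1)) (g⁻¹ (h 2)) * g⁻¹ := by
    rw [conj_tri, conj_tri]; simp
  have hk : k * tri 0 1 2 * k⁻¹ = g * tri (g⁻¹ (k 0)) (g⁻¹ (k 1)) (g⁻¹ (k 2)) * g⁻¹ := by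
    rw [conj_tri, conj_tri]; simp
  rw [hh] at hne hxy hyz
  rw [hk] at hxz hyz
  rw [hh, hk]
  set y := tri (g⁻¹ (h 0)) (g⁻¹ (h 1)) (g⁻¹ (h 2)) with hy'
  set z := tri (g⁻¹ (k 0)) (g⁻¹ (k 1)) (g⁻¹ (k 2)) with hz'
  have conj : ∀ p q : Perm (Fin 6), g * p * g⁻¹ * (g * q * g⁻¹) * (g * p * g⁻¹ * (g * q * g⁻¹)) = 1 →
      p * q * (p * q) = 1 := fun p q e => by
    rw [show g * p * g⁻¹ * (g * q * g⁻¹) * (g * p * g⁻¹ * (g * q * g⁻¹)) = g * (p * q * (p * q)) * g⁻¹ by group] at e
    exact conj_eq_one_iff.1 e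
  obtain ⟨i, h1, h2, h3⟩ := triple_table (g⁻¹ (h 0)) (g⁻¹ (h 1)) (g⁻¹ (h 2)) (by simp) (by simp) (by simp)
    (conj _ _ hxy) (fun e => hne (by rw [← hy'] at e; rw [e])) (g⁻¹ (k 0)) (g⁻¹ (k 1)) (g⁻¹ (k 2))
    (by simp) (by simp) (by simp) (conj _ _ hxz) (conj _ _ hyz)
  have ap : ∀ p : Perm (Fin 6), p i = i → (g * p * g⁻¹) (g i) = g i := fun p hp => by simp [hp]
  exact ⟨g i, ap _ h1, ap _ h2, ap _ h3⟩

theorem card_alt6 : Nat.card (alternatingGroup (Fin 6)) = 360 := by
  have := two_mul_nat_card_alternatingGroup (α := Fin 6)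
  rw [Nat.card_perm, Nat.card_fin] at this
  norm_num [Nat.factorial] at this ⊢
  omega

/-- Generators of the stabilizer of the last point. -/
def genA : alternatingGroup (Fin 6) :=
  ⟨tri 0 1 2, Equiv.Perm.mem_alternatingGroup.2 (by decide +kernel)⟩
def genB : alternatingGroup (Fin 6) :=
  ⟨tri 0 1 3, Equiv.Perm.mem_alternatingGroup.2 (by decide +kernel)⟩
def genC : alternatingGroup (Fin 6) :=
  ⟨tri 0 1 4, Equiv.Perm.mem_alternatingGroup.2 (by decide +kernel)⟩

/-- Sixty elements generated by the three. -/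
def word (p : Fin 5 × Fin 3 × Fin 4) : alternatingGroup (Fin 6) :=
  (genA * genB * genC) ^ (p.1 : ℕ) * genA ^ (p.2.1 : ℕ) *
    ([1, genA * genB, genA * (genA * genB) * genA⁻¹,
      genA * genB * (genA * (genA * genB) * genA⁻¹)].getD (p.2.2 : ℕ) 1)

theorem word_table : ∀ p q : Fin 5 × Fin 3 × Fin 4,
    (∀ i : Fin 6, (word p : Perm (Fin 6)) i = (word q : Perm (Fin 6)) i) → p = q := by
  decide +kernel

theorem gen_facts : genA ≠ genB ∧ genA * genB * (genA * genB) = 1 ∧ genA * genC * (genA * genC) = 1 ∧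
    genB * genC * (genB * genC) = 1 ∧ (genA : Perm (Fin 6)) 5 = 5 ∧ (genB : Perm (Fin 6)) 5 = 5 ∧
    (genC : Perm (Fin 6)) 5 = 5 ∧ (genA : Perm (Fin 6)).IsThreeCycle ∧ (genB : Perm (Fin 6)).IsThreeCycle ∧
    (genC : Perm (Fin 6)).IsThreeCycle := by
  refine ⟨by decide +kernel, by decide +kernel, by decide +kernel, by decide +kernel, by decide +kernel,
    by decide +kernel, by decide +kernel, ?_, ?_, ?_⟩ <;>
  exact Equiv.Perm.isThreeCycle_swap_mul_swap_same (by decide) (by decide) (by decide)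

theorem stabilizer_eq_closure : MulAction.stabilizer (alternatingGroup (Fin 6)) (5 : Fin 6) =
    Subgroup.closure {genA, genB, genC} := by
  classical
  haveI : MulAction.IsPretransitive (alternatingGroup (Fin 6)) (Fin 6) :=
    alternatingGroup.isPretransitive_of_three_le_card (α := Fin 6) (by simp)
  obtain ⟨-, -, -, -, h1, h2, h3, -⟩ := gen_facts
  have hle : Subgroup.closure {genA, genB, genC} ≤ MulAction.stabilizer (alternatingGroup (Fin 6)) (5 : Fin 6) := by
    rw [Subgroup.closure_le]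
    rintro g (rfl | rfl | rfl)
    exacts [h1, h2, h3]
  refine (Subgroup.eq_of_le_of_card_ge hle ?_).symm
  have hw : ∀ p, word p ∈ Subgroup.closure {genA, genB, genC} := fun p => by
    have a : genA ∈ Subgroup.closure {genA, genB, genC} := Subgroup.subset_closure (by simp)
    have b : genB ∈ Subgroup.closure {genA, genB, genC} := Subgroup.subset_closure (by simp)
    have c : genC ∈ Subgroup.closure {genA, genB, genC} := Subgroup.subset_closure (by simp)
    refine mul_mem (mul_mem (pow_mem (mul_mem (mul_mem a b) c) _) (pow_mem a _)) ?_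
    obtain ⟨-, -, k⟩ := p
    fin_cases k
    · exact one_mem _
    · exact mul_mem a b
    · exact mul_mem (mul_mem a (mul_mem a b)) (inv_mem a)
    · exact mul_mem (mul_mem a b) (mul_mem (mul_mem a (mul_mem a b)) (inv_mem a))
  have h60 := Nat.card_le_card_of_injective
    (fun p => (⟨word p, hw p⟩ : Subgroup.closure {genA, genB, genC})) fun p q e =>
      word_table p q fun i => by rw [show word p = word q from congrArg Subtype.val e]
  simp only [Nat.card_prod, Nat.card_fin] at h60
  have hi := (MulAction.stabilizer (alternatingGroup (Fin 6)) (5 : Fin 6)).index_mul_card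
  rw [MulAction.index_stabilizer_of_transitive] at hi
  have h360 := card_alt6
  simp only [Nat.card_fin] at hi
  omega

variable {G : Type*} [Group G] [Finite G]

/-- Recognition of the symmetric group. -/
theorem sym6_of_alt (K : Subgroup G) [hKn : K.Normal] (hidx : K.index = 2)
    (φ : K ≃* alternatingGroup (Fin 6)) (hC : ∀ z : G, (∀ k ∈ K, z * k = k * z) → z = 1)
    (hthree : ∀ x : K, orderOf x = 3 → ∃ t : G, t ∉ K ∧ t * x = x * t) :
    Nonempty (G ≃* Perm (Fin 6)) := by
  classical
  obtain ⟨τ, hτ⟩ : ∃ τ : G, τ ∉ K := by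
    by_contra hcon
    push Not at hcon
    rw [Subgroup.index_eq_one.2 (eq_top_iff.2 fun g _ => hcon g)] at hidx
    norm_num at hidx
  -- three-cycles are preserved
  have hinv : ∀ (g : G) (x : K), (φ x : Perm (Fin 6)).IsThreeCycle →
      (φ ⟨g * x * g⁻¹, hKn.conj_mem _ x.2 g⟩ : Perm (Fin 6)).IsThreeCycle := by
    intro g x hx
    have hin : ∀ k : K, (φ ⟨(k : G) * x * (k : G)⁻¹, hKn.conj_mem _ x.2 k⟩ : Perm (Fin 6)).IsThreeCycle :=
      fun k => by
        rw [show (⟨(k : G) * x * (k : G)⁻¹, hKn.conj_mem _ x.2 k⟩ : K) = k * x * k⁻¹ from Subtype.ext rfl]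
        simp only [map_mul, map_inv, Subgroup.coe_mul, Subgroup.coe_inv]
        rw [Equiv.Perm.IsThreeCycle, Equiv.Perm.cycleType_conj]
        exact hx
    by_cases hg : g ∈ K
    · exact hin ⟨g, hg⟩
    · have ho : orderOf x = 3 := by
        have := hx.orderOf
        rwa [Subgroup.orderOf_coe, φ.orderOf_eq] at this
      obtain ⟨t, ht, hcomm⟩ := hthree x ho
      have hk : g * t⁻¹ ∈ K :=
        (Subgroup.mul_mem_iff_of_index_two hidx).2 (by simp [hg, ht])
      have h' := hin ⟨g * t⁻¹, hk⟩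
      have e : g * (x : G) * g⁻¹ = g * t⁻¹ * (x : G) * (g * t⁻¹)⁻¹ := by
        calc g * (x : G) * g⁻¹ = g * t⁻¹ * (t * (x : G)) * g⁻¹ := by group
          _ = g * t⁻¹ * ((x : G) * t) * g⁻¹ := by rw [hcomm]
          _ = g * t⁻¹ * (x : G) * (g * t⁻¹)⁻¹ := by group
      simp only [e]
      exact h'
  set α : alternatingGroup (Fin 6) → alternatingGroup (Fin 6) := fun σ =>
    φ ⟨τ * (φ.symm σ : G) * τ⁻¹, hKn.conj_mem _ (φ.symm σ).2 τ⟩ with hα
  have αmul : ∀ σ ρ, α (σ * ρ) = α σ * α ρ := fun σ ρ => by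
    simp only [hα]
    rw [← map_mul]
    congr 1
    simp only [map_mul]
    exact Subtype.ext (by simp only [Subgroup.coe_mul]; group)
  have αone : α 1 = 1 := by
    have := αmul 1 1
    simp only [mul_one] at this
    exact mul_eq_left.1 this.symm
  have α3 : ∀ σ : alternatingGroup (Fin 6), (σ : Perm (Fin 6)).IsThreeCycle →
      (α σ : Perm (Fin 6)).IsThreeCycle := fun σ hσ => hinv τ (φ.symm σ) (by simpa using hσ)
  have αinj : Function.Injective α := fun σ ρ e => by
    simp only [hα, EmbeddingLike.apply_eq_iff_eq, Subtype.mk.injEq] at e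
    exact φ.symm.injective (Subtype.ext (mul_left_cancel (mul_right_cancel e)))
  obtain ⟨hab, hab2, hac2, hbc2, -, -, -, hA, hB, hC'⟩ := gen_facts
  have hsq : ∀ σ ρ, σ * ρ * (σ * ρ) = 1 →
      (α σ : Perm (Fin 6)) * α ρ * ((α σ : Perm (Fin 6)) * α ρ) = 1 := fun σ ρ e => by
    rw [← Subgroup.coe_mul, ← Subgroup.coe_mul, ← αmul, ← αmul, e, αone, Subgroup.coe_one]
  obtain ⟨j, ja, jb, jc⟩ := common_fixed (α3 _ hA) (α3 _ hB) (α3 _ hC')
    (fun e => hab (αinj (Subtype.ext e))) (hsq _ _ hab2) (hsq _ _ hac2) (hsq _ _ hbc2)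
  haveI : MulAction.IsPretransitive (alternatingGroup (Fin 6)) (Fin 6) :=
    alternatingGroup.isPretransitive_of_three_le_card (α := Fin 6) (by simp)
  obtain ⟨π, hπ⟩ := MulAction.exists_smul_eq (alternatingGroup (Fin 6)) j (5 : Fin 6)
  set St := MulAction.stabilizer (alternatingGroup (Fin 6)) (5 : Fin 6) with hSt
  -- the composite maps the stabilizer into itself
  set g : G := (φ.symm π : G) * τ with hg
  have hgK : g ∉ K := fun h => hτ ((K.mul_mem_cancel_left (φ.symm π).2).1 h)
  set β : alternatingGroup (Fin 6) →* alternatingGroup (Fin 6) :=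
    { toFun := fun σ => π * α σ * π⁻¹
      map_one' := by rw [αone, mul_one, mul_inv_cancel]
      map_mul' := fun σ ρ => by rw [αmul]; group } with hβ
  have hβSt : St ≤ St.comap β := by
    conv_lhs => rw [hSt, stabilizer_eq_closure]
    rw [Subgroup.closure_le]
    intro σ hσ
    simp only [Subgroup.coe_comap, Set.mem_preimage, SetLike.mem_coe, hSt, MulAction.mem_stabilizer_iff]
    have hj : (α σ) • j = j := by
      rcases hσ with rfl | rfl | rfl
      exacts [ja, jb, jc]
    show (π * α σ * π⁻¹) • (5 : Fin 6) = 5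
    rw [← hπ, mul_smul, inv_smul_smul, mul_smul, hj]
  set H : Subgroup G := (St.comap φ.toMonoidHom).map K.subtype with hH
  have hmemH : ∀ x, x ∈ H ↔ ∃ hx : x ∈ K, φ ⟨x, hx⟩ ∈ St := fun x => by
    simp only [hH, Subgroup.mem_map, Subgroup.mem_comap, Subgroup.coe_subtype]
    exact ⟨fun ⟨y, hy, e⟩ => by subst e; exact ⟨y.2, hy⟩, fun ⟨hx, h⟩ => ⟨⟨x, hx⟩, h, rfl⟩⟩
  have hStc : Nat.card St = 60 := by
    have hi := St.index_mul_card
    rw [MulAction.index_stabilizer_of_transitive, Nat.card_fin] at hi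
    have h360 := card_alt6
    omega
  have hgN : g ∈ Subgroup.normalizer (H : Set G) := by
    refine Subgroup.mem_normalizer_iff.2 ?_
    have hle : ∀ x ∈ H, g * x * g⁻¹ ∈ H := fun x hx => by
      obtain ⟨hxK, hxS⟩ := (hmemH x).1 hx
      refine (hmemH _).2 ⟨hKn.conj_mem _ hxK g, ?_⟩
      have := hβSt hxS
      rw [Subgroup.mem_comap] at this
      convert this using 1
      simp only [hβ, MonoidHom.coe_mk, OneHom.coe_mk, hα, MulEquiv.symm_apply_apply]
      rw [show (⟨g * x * g⁻¹, hKn.conj_mem _ hxK g⟩ : K) =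
        φ.symm π * ⟨τ * x * τ⁻¹, hKn.conj_mem _ hxK τ⟩ * (φ.symm π)⁻¹ from
        Subtype.ext (by simp only [hg, Subgroup.coe_mul, Subgroup.coe_inv]; group)]
      simp
    intro x
    refine ⟨hle x, fun hx => ?_⟩
    let f : H → H := fun y => ⟨g * y * g⁻¹, hle y y.2⟩
    have hf : Function.Injective f := fun a b e =>
      Subtype.ext (mul_left_cancel (mul_right_cancel (congrArg Subtype.val e)))
    obtain ⟨y, hy⟩ := Finite.injective_iff_surjective.1 hf ⟨_, hx⟩
    have hy' := mul_left_cancel (mul_right_cancel (congrArg Subtype.val hy))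
    rw [← hy']; exact y.2
  set R := Subgroup.normalizer (H : Set G) with hR
  have hHc : Nat.card H = 60 := by
    rw [hH, Subgroup.card_map_of_injective K.subtype_injective, ← hStc]
    exact Nat.card_congr
      { toFun := fun y => (⟨φ y.1, y.2⟩ : St)
        invFun := fun w => ⟨φ.symm w.1, by simp⟩
        left_inv := fun y => Subtype.ext (φ.symm_apply_apply y.1)
        right_inv := fun w => by simp }
  haveI : IsSimpleGroup (alternatingGroup (Fin 6)) := alternatingGroup.isSimpleGroup (by simp)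
  haveI : IsSimpleGroup K := (MulEquiv.isSimpleGroup_congr φ).2 inferInstance
  have hKc : Nat.card K = 360 := by
    rw [Nat.card_congr φ.toEquiv]
    have h360 := card_alt6
    omega
  have hGc : Nat.card G = 720 := by rw [← K.index_mul_card, hidx, hKc]
  have hcore : R.normalCore = ⊥ ∨ R = ⊤ := by
    rcases (inferInstance : (R.normalCore.subgroupOf K).Normal).eq_bot_or_eq_top with h | h
    · left
      rw [Subgroup.subgroupOf_eq_bot, disjoint_iff] at h
      refine (Subgroup.eq_bot_iff_forall _).2 fun z hz => hC z fun k hk => ?_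
      have hc : z * k * z⁻¹ * k⁻¹ ∈ R.normalCore ⊓ K := by
        refine ⟨?_, K.mul_mem (hKn.conj_mem k hk z) (K.inv_mem hk)⟩
        have := R.normalCore_normal.conj_mem _ (inv_mem hz) k
        rw [show z * k * z⁻¹ * k⁻¹ = z * (k * z⁻¹ * k⁻¹) by group]
        exact mul_mem hz this
      rw [h, Subgroup.mem_bot, mul_inv_eq_one, mul_inv_eq_iff_eq_mul] at hc
      exact hc
    · right
      rw [Subgroup.subgroupOf_eq_top] at h
      have hKR : K ≤ R := h.trans R.normalCore_le
      refine eq_top_iff.2 fun x _ => ?_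
      by_cases hx : x ∈ K
      · exact hKR hx
      · have : x * g⁻¹ ∈ K := (Subgroup.mul_mem_iff_of_index_two hidx).2 (by simp [hx, hgK])
        have := mul_mem (hKR this) hgN
        rwa [inv_mul_cancel_right] at this
  have hHK : H ≤ K := fun x hx => ((hmemH x).1 hx).1
  rcases hcore with hbot | htop
  · have hHR : H ≤ R := Subgroup.le_normalizer
    have hRdvd : 120 ∣ Nat.card R := by
      have h1 := Subgroup.relIndex_mul_relIndex ⊥ (R ⊓ K) R bot_le inf_le_left
      have h2 : (R ⊓ K).relIndex R = 2 := by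
        rw [Subgroup.inf_relIndex_left]
        have h3 : K.relIndex R ∣ 2 := hidx ▸ K.relIndex_dvd_index_of_normal R
        rcases (Nat.dvd_prime Nat.prime_two).1 h3 with e | e
        · exact absurd (Subgroup.relIndex_eq_one.1 e hgN) hgK
        · exact e
      rw [Subgroup.relIndex_bot_left, Subgroup.relIndex_bot_left, h2] at h1
      have h4 : Nat.card H ∣ Nat.card ↥(R ⊓ K) := Subgroup.card_dvd_of_le (le_inf hHR hHK)
      rw [hHc] at h4
      rw [← h1]
      exact Nat.mul_dvd_mul h4 (dvd_refl 2)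
    have hi := R.index_mul_card
    rw [hGc] at hi
    have hinj : Function.Injective (MulAction.toPermHom G (G ⧸ R)) :=
      (MonoidHom.ker_eq_bot_iff _).1 (R.normalCore_eq_ker ▸ hbot)
    have hle := Nat.card_le_card_of_injective _ hinj
    rw [hGc, Nat.card_perm] at hle
    change 720 ≤ R.index.factorial at hle
    obtain ⟨m, hm⟩ := hRdvd
    rw [hm] at hi
    have hm6 : R.index * m = 6 := by
      have : 120 * (R.index * m) = 120 * 6 := by rw [show 120 * 6 = 720 from rfl, ← hi]; ring
      exact Nat.eq_of_mul_eq_mul_left (by norm_num) this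
    have hi6 : R.index = 6 := by
      have hd : R.index ≤ 6 := Nat.le_of_dvd (by norm_num) ⟨m, hm6.symm⟩
      rcases hd.lt_or_eq with hlt | e
      · have := Nat.factorial_le (Nat.le_of_lt_succ hlt)
        norm_num [Nat.factorial] at this
        omega
      · exact e
    haveI := Fintype.ofFinite (G ⧸ R)
    have e : G ⧸ R ≃ Fin 6 :=
      Fintype.equivFinOfCardEq (by rw [Fintype.card_eq_nat_card]; exact hi6)
    refine ⟨(MulEquiv.ofBijective _ ((Nat.bijective_iff_injective_and_card _).2 ⟨hinj, ?_⟩)).trans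
      e.permCongrHom⟩
    rw [hGc, Nat.card_perm]
    change 720 = R.index.factorial
    rw [hi6]; rfl
  · exfalso
    haveI : H.Normal := Subgroup.normalizer_eq_top_iff.1 htop
    rcases (inferInstance : (H.subgroupOf K).Normal).eq_bot_or_eq_top with h | h
    · rw [Subgroup.subgroupOf_eq_bot, disjoint_iff, inf_eq_left.2 hHK] at h
      rw [h, Subgroup.card_bot] at hHc
      norm_num at hHc
    · rw [Subgroup.subgroupOf_eq_top] at h
      have := le_antisymm hHK h
      rw [this, hKc] at hHc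
      norm_num at hHc

end Cfsg.Agent.SelfNine
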