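import Cfsg.Agent.Lib.SelfNine.OctData
import Cfsg.Agent.Lib.SelfNine.Sym6
import Cfsg.Agent.S0497
import Cfsg.Agent.Lib.SmallSimple.Orders1092

/-!
# Automizer dihedral of order eight: the non-perfect case

A group of order `720` or `2016` with one nontrivial linear character is the symmetric group of
degree six.
-/

set_option autoImplicit false
set_option linter.style.haveILetI false
set_option linter.unusedSectionVars false

namespace Cfsg.Agent.SelfNine

open Subgroup
open scoped commutatorElement

variable {G : Type*} [Group G] [Finite G]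

/-- A fixed-point-free action of a subgroup by conjugation. -/
theorem card_mod_of_free (A : Subgroup G) (H : Subgroup G)
    (hinv : ∀ a ∈ A, ∀ h ∈ H, a * h * a⁻¹ ∈ H)
    (hfree : ∀ a ∈ A, a ≠ 1 → ∀ h ∈ H, a * h = h * a → h = 1) :
    Nat.card A ∣ Nat.card H - 1 := by
  classical
  let X := {h : H // h ≠ 1}
  letI act : MulAction A X :=
    { smul := fun a h => ⟨⟨(a : G) * (h.1 : G) * (a : G)⁻¹, hinv a a.2 _ h.1.2⟩, fun e =>
        h.2 (Subtype.ext (conj_eq_one_iff.1 (congrArg Subtype.val e)))⟩
      one_smul := fun h => Subtype.ext (Subtype.ext (by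
        change (1 : G) * (h.1 : G) * (1 : G)⁻¹ = (h.1 : G); simp))
      mul_smul := fun a b h => Subtype.ext (Subtype.ext (by
        change ((a : G) * b) * (h.1 : G) * ((a : G) * b)⁻¹ = (a : G) * ((b : G) * (h.1 : G) * (b : G)⁻¹) * (a : G)⁻¹
        group)) }
  have hstab : ∀ h : X, MulAction.stabilizer A h = ⊥ := fun h => by
    refine (eq_bot_iff_forall _).2 fun a ha => ?_
    by_contra hne
    have e : (a : G) * (h.1 : G) * (a : G)⁻¹ = (h.1 : G) :=
      congrArg (fun z : X => (z.1 : G)) (MulAction.mem_stabilizer_iff.1 ha)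
    exact h.2 (Subtype.ext (hfree a a.2 (fun e' => hne (Subtype.ext e')) _ h.1.2 (mul_inv_eq_iff_eq_mul.1 e)))
  have hc := Nat.card_congr (MulAction.selfEquivOrbitsQuotientProd hstab)
  rw [Nat.card_prod] at hc
  have hX : Nat.card H = Nat.card X + 1 := by
    rw [← Finite.card_option]
    exact (Nat.card_congr (Equiv.optionSubtypeNe (1 : H))).symm
  rw [hX, Nat.add_sub_cancel, hc]
  exact Dvd.intro_left _ rfl

variable {P : Sylow 3 G} {e1 e2 r c : G}

theorem rotate_sub : ∀ b : ZMod 3 × ZMod 3, ∃ a, rotate a + -a = b := by decide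

theorem rotate_span : ∀ u b : ZMod 3 × ZMod 3, u ≠ 0 → ∃ i : Fin 3, ∃ j : Fin 3,
    b = (i : ℕ) • u + (j : ℕ) • rotate u := by decide

theorem OctData.base (D : OctData P e1 e2 r c) {a : G} (ha : a ∈ (P : Subgroup G)) (ha1 : a ≠ 1) :
    ∃ t : G, (∀ p ∈ (P : Subgroup G), t * p * t⁻¹ ∈ (P : Subgroup G)) ∧
      (a = t * e1 * t⁻¹ ∨ a = t * (e1 * e2) * t⁻¹) := by
  obtain ⟨b, rfl⟩ := D.coord_surj ha
  have key : ∀ b : ZMod 3 × ZMod 3, b ≠ 0 →
      ∃ i : Fin 4, ∃ j : Fin 2, b = octMap i j (1, 0) ∨ b = octMap i j (1, 1) := by decide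
  obtain ⟨i, j, h⟩ := key b fun e => ha1 (e ▸ D.coord_zero)
  refine ⟨(r * c) ^ (i : ℕ) * r ^ (j : ℕ), fun p hp => ?_, ?_⟩
  · obtain ⟨q, rfl⟩ := D.coord_surj hp
    rw [D.conj_word]; exact D.coord_mem _
  · rcases h with h | h
    · left; rw [h, ← D.conj_word, D.e1_eq]
    · right; rw [h, ← D.conj_word, D.d_eq]

variable (D : OctData P e1 e2 r c)
include D

theorem OctData.sym6 (hN : Nat.card (normalizer ((P : Subgroup G) : Set G)) = 72)
    (hC : centralizer ((P : Subgroup G) : Set G) = (P : Subgroup G))
    (hn : Nat.card G = 720 ∨ Nat.card G = 2016) (lam : G →* ℂˣ) (hr : (lam r : ℂ) = -1)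
    (hc : (lam c : ℂ) = -1) (huniq : ∀ mu : G →* ℂˣ, mu ≠ 1 → mu = lam) :
    Nonempty (G ≃* Equiv.Perm (Fin 6)) := by
  classical
  haveI : Fact (Nat.Prime 3) := ⟨Nat.prime_three⟩
  set K := lam.ker with hK
  have hrK : r ∉ K := fun h => by
    rw [hK, MonoidHom.mem_ker] at h; rw [h] at hr; norm_num at hr
  have hcK : c ∉ K := fun h => by
    rw [hK, MonoidHom.mem_ker] at h; rw [h] at hc; norm_num at hc
  have hne : lam ≠ 1 := fun e => hrK (by rw [hK, MonoidHom.mem_ker, e, MonoidHom.one_apply])
  have hval : ∀ g, (lam g : ℂ) = 1 ∨ (lam g : ℂ) = -1 := fun g => by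
    have hinv : lam⁻¹ = lam := huniq _ (fun e => hne (MonoidHom.ext fun g =>
      inv_eq_one.1 (DFunLike.congr_fun e g)))
    have h1 : (lam g)⁻¹ = lam g := DFunLike.congr_fun hinv g
    have h2 : lam g * lam g = 1 := by nth_rewrite 1 [← h1]; exact inv_mul_cancel _
    exact mul_self_eq_one_iff.1 (by rw [← Units.val_mul, h2, Units.val_one])
  have hmem : ∀ g, g ∈ K ↔ (lam g : ℂ) = 1 := fun g => by
    rw [hK, MonoidHom.mem_ker, Units.ext_iff, Units.val_one]
  have hidx : K.index = 2 := by
    refine index_eq_two_iff.2 ⟨r, fun b => ?_⟩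
    rw [hmem, hmem, map_mul, Units.val_mul, hr]
    rcases hval b with e | e <;> rw [e] <;> norm_num [Xor]
  have hKG := K.index_mul_card
  rw [hidx] at hKG
  have hPK : (P : Subgroup G) ≤ K := fun p hp => by
    rcases hval p with e | e
    · exact (hmem p).2 e
    · have h3 : ((lam p : ℂ)) ^ 3 = 1 := by
        rw [← Units.val_pow_eq_pow_val, ← map_pow, D.ti.exp p hp, map_one, Units.val_one]
      rw [e] at h3; norm_num at h3
  have hkK : r * c ∈ K := by rw [hmem, map_mul, Units.val_mul, hr, hc]; norm_num
  -- centralizers in `K`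
  have hcent : ∀ a ∈ (P : Subgroup G), a ≠ 1 → ∀ g ∈ K, a * g = g * a → g ∈ (P : Subgroup G) := by
    intro a ha ha1 g hg hag
    obtain ⟨t, ht, hbase⟩ := D.base ha ha1
    have hKn : K.Normal := inferInstance
    have hg' : t⁻¹ * g * t ∈ K := by simpa using hKn.conj_mem g hg t⁻¹
    suffices hP : t⁻¹ * g * t ∈ (P : Subgroup G) by
      have := ht _ hP
      rwa [show t * (t⁻¹ * g * t) * t⁻¹ = g by group] at this
    have key : ∀ (u v w : G), a = t * u * t⁻¹ → v ∉ K →
        (∀ h ∈ centralizer ({u} : Set G), ∃ p ∈ (P : Subgroup G), h = p ∨ h = v * p) →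
        t⁻¹ * g * t ∈ (P : Subgroup G) := by
      intro u v _ hau hv hform
      obtain ⟨p, hp, e | e⟩ := hform (t⁻¹ * g * t) (mem_centralizer_singleton_iff.2 (by
        rw [show u = t⁻¹ * a * t by rw [hau]; group]
        calc t⁻¹ * g * t * (t⁻¹ * a * t) = t⁻¹ * (g * a) * t := by group
          _ = t⁻¹ * (a * g) * t := by rw [hag]
          _ = _ := by group))
      · rw [e]; exact hp
      · rw [e] at hg'
        exact absurd ((K.mul_mem_cancel_right (hPK hp)).1 hg') hv
    rcases hbase with hau | hau
    · exact key e1 r 1 hau hrK fun h hh => D.cent_e1_form hh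
    · exact key (e1 * e2) c 1 hau hcK fun h hh => D.symm.cent_e1_form hh
  have hcomm : K ≤ commutator G := by
    intro g hg
    by_contra hgc
    haveI : Finite (Abelianization G) := Quotient.finite _
    have h1 : Abelianization.of g ≠ 1 := fun e => hgc ((QuotientGroup.eq_one_iff g).1 e)
    obtain ⟨φ, hφ⟩ := CommGroup.exists_apply_ne_one_of_hasEnoughRootsOfUnity (Abelianization G) ℂ h1
    have hmu := huniq (φ.comp Abelianization.of) fun e => hφ (DFunLike.congr_fun e g)
    exact hφ ((DFunLike.congr_fun hmu g).trans (MonoidHom.mem_ker.1 hg))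
  have hrot : ∀ a : ZMod 3 × ZMod 3, r * c * coord e1 e2 a * (r * c)⁻¹ = coord e1 e2 (rotate a) := fun a => by
    have := D.conj_word 1 0 a
    rw [pow_one, pow_zero, mul_one] at this
    exact this
  -- the kernel is perfect
  haveI hMn : (⁅K, K⁆).Normal := inferInstance
  have hPM : (P : Subgroup G) ≤ ⁅K, K⁆ := fun p hp => by
    obtain ⟨b, rfl⟩ := D.coord_surj hp
    obtain ⟨a, rfl⟩ := rotate_sub b
    rw [D.coord_add, D.coord_neg, ← hrot]
    exact commutator_mem_commutator hkK (hPK (D.coord_mem a))
  have hperf : ⁅K, K⁆ = K := by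
    refine le_antisymm (commutator_le_self K) ?_
    set M := ⁅K, K⁆ with hM
    let π := QuotientGroup.mk' M
    set a := π (r * c) with ha
    set b := π r with hb
    have hwords : ∀ x : G ⧸ M, ∃ i j : ℕ, x = a ^ i * b ^ j := by
      intro x
      obtain ⟨g, rfl⟩ := QuotientGroup.mk'_surjective M x
      have htop : normalizer ((P : Subgroup G) : Set G) ⊔ M = ⊤ := Sylow.normalizer_sup_eq_top' P hPM
      have hg : g ∈ normalizer ((P : Subgroup G) : Set G) ⊔ M := by rw [htop]; exact mem_top g
      obtain ⟨y, hy, z, hz, rfl⟩ := mem_sup_of_normal_right.1 hg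
      obtain ⟨i, j, p, hp, rfl⟩ := D.nor y hy
      refine ⟨i, j, ?_⟩
      have h1 : π z = 1 := (QuotientGroup.eq_one_iff z).2 hz
      have h2 : π p = 1 := (QuotientGroup.eq_one_iff p).2 (hPM hp)
      simp only [ha, hb, ← map_pow, ← map_mul]
      change π _ = π _
      rw [map_mul, map_mul π _ p, h1, h2, mul_one, mul_one]
    have ha4 : a ^ 4 = 1 := by rw [ha, ← map_pow, D.rc4, map_one]
    have hb2 : b * b = 1 := by rw [hb, ← map_mul, D.r2, map_one]
    have hbab : b * a * b = a⁻¹ := by
      rw [ha, hb, ← map_mul, ← map_mul, ← map_inv]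
      congr 1
      rw [show r * (r * c) * r = r * r * (c * r) by group, D.r2, one_mul, mul_inv_rev,
        inv_eq_of_mul_eq_one_left D.r2, inv_eq_of_mul_eq_one_left D.c2]
    set z := a * a with hz
    have hzb : b * z = z * b := by
      have h1 : b * z * b = z⁻¹ := by
        rw [hz, mul_inv_rev, ← hbab]
        calc b * (a * a) * b = b * a * 1 * a * b := by group
          _ = _ := by rw [← hb2]; group
      have h2 : z⁻¹ = z := inv_eq_of_mul_eq_one_right (by
        rw [hz, ← ha4, pow_succ, pow_succ, pow_succ, pow_one]; group)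
      calc b * z = b * z * (b * b) := by rw [hb2, mul_one]
        _ = (b * z * b) * b := by group
        _ = z * b := by rw [h1, h2]
    haveI hZn : (zpowers z).Normal := by
      refine ⟨fun w hw x => ?_⟩
      obtain ⟨i, j, rfl⟩ := hwords x
      obtain ⟨m, rfl⟩ := mem_zpowers_iff.1 hw
      have hca : Commute a z := (Commute.refl a).mul_right (Commute.refl a)
      have hcb : Commute b z := hzb
      have hcx : Commute (a ^ i * b ^ j) (z ^ m) :=
        ((hca.pow_left i).mul_left (hcb.pow_left j)).zpow_right m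
      rw [hcx.eq, mul_inv_cancel_right]
      exact zpow_mem (mem_zpowers z) m
    let ρ := QuotientGroup.mk' (zpowers z)
    have hab : Commute (ρ a) (ρ b) := by
      have h1 : ρ (b * a * b) = ρ a := by
        rw [hbab]
        refine (QuotientGroup.eq).2 ?_
        rw [inv_inv, ← hz]
        exact mem_zpowers z
      change ρ a * ρ b = ρ b * ρ a
      rw [← map_mul, ← map_mul]
      calc ρ (a * b) = ρ a * ρ b := map_mul _ _ _
        _ = ρ (b * a * b) * ρ b := by rw [h1]
        _ = ρ (b * a) := by rw [← map_mul, mul_assoc (b * a), hb2, mul_one]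
    have hall : ∀ x y : G ⧸ M, ρ x * ρ y = ρ y * ρ x := fun x y => by
      obtain ⟨i, j, rfl⟩ := hwords x
      obtain ⟨i', j', rfl⟩ := hwords y
      simp only [map_mul, map_pow]
      exact ((((Commute.refl (ρ a)).pow_pow i i').mul_right (hab.pow_pow i j')).mul_left
        (((hab.symm.pow_pow j i')).mul_right ((Commute.refl (ρ b)).pow_pow j j'))).eq
    have hderived : ∀ g ∈ commutator G, π g ∈ zpowers z := by
      have hle : commutator G ≤ (zpowers z).comap π := by
        rw [_root_.commutator_def, commutator_le]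
        intro g _ h _
        rw [mem_comap, ← QuotientGroup.eq_one_iff]
        change ρ (π ⁅g, h⁆) = 1
        rw [commutatorElement_def, map_mul, map_mul, map_mul, map_inv, map_inv, map_mul, map_mul,
          map_mul, map_inv, map_inv, hall (π g) (π h)]
        group
      exact fun g hg => hle hg
    obtain ⟨m, hm⟩ := mem_zpowers_iff.1 (hderived _ (hcomm hkK))
    have ha1 : a = 1 := by
      have h2 : z = 1 := by
        calc z = a * a := hz
          _ = (z ^ m) * (z ^ m) := by rw [hm]
          _ = (z * z) ^ m := by rw [(Commute.refl z).mul_zpow]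
          _ = (a ^ 4) ^ m := by rw [hz, pow_succ, pow_succ, pow_succ, pow_one]; congr 1; group
          _ = 1 := by rw [ha4, one_zpow]
      exact hm.symm.trans (by rw [h2, one_zpow])
    intro g hg
    obtain ⟨i, j, hij⟩ := hwords (π g)
    rw [ha1, one_pow, one_mul, hb, ← map_pow] at hij
    have hgj : g⁻¹ * r ^ j ∈ M := QuotientGroup.eq.1 hij
    have hjK : r ^ j ∈ K := (K.mul_mem_cancel_left (inv_mem hg)).1 (commutator_le_self K hgj)
    rw [D.pow_two_r j] at hgj hjK
    rcases Nat.mod_two_eq_zero_or_one j with e | e <;> rw [e] at hgj hjK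
    · rw [pow_zero, mul_one] at hgj
      exact (inv_mem_iff).1 hgj
    · rw [pow_one] at hjK; exact absurd hjK hrK
  -- the kernel is simple
  have hKcard : Nat.card K = 360 ∨ Nat.card K = 1008 := by omega
  haveI : Nontrivial K := Finite.one_lt_card_iff_nontrivial.1 (by omega)
  haveI hsimple : IsSimpleGroup K := by
    refine ⟨fun H hH => ?_⟩
    haveI := hH
    set H' := H.map K.subtype with hH'
    have hH'K : H' ≤ K := map_subtype_le H
    have hinvH : ∀ k ∈ K, ∀ h ∈ H', k * h * k⁻¹ ∈ H' := by
      rintro k hk _ ⟨h, hh, rfl⟩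
      exact ⟨⟨k, hk⟩ * h * ⟨k, hk⟩⁻¹, hH.conj_mem h hh ⟨k, hk⟩, rfl⟩
    by_cases hmeet : ∃ a ∈ (P : Subgroup G), a ≠ 1 ∧ a ∈ H'
    · right
      obtain ⟨a, haP, ha1, haH⟩ := hmeet
      obtain ⟨u, rfl⟩ := D.coord_surj haP
      have hrotH : coord e1 e2 (rotate u) ∈ H' := hrot u ▸ hinvH _ hkK _ haH
      have hPH : (P : Subgroup G) ≤ H' := fun p hp => by
        obtain ⟨b, rfl⟩ := D.coord_surj hp
        obtain ⟨i, j, rfl⟩ := rotate_span u b fun e => ha1 (e ▸ D.coord_zero)
        have hn : ∀ (n : ℕ) (w : ZMod 3 × ZMod 3), coord e1 e2 w ∈ H' → coord e1 e2 (n • w) ∈ H' := by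
          intro n w hw
          induction n with
          | zero => rw [zero_smul, D.coord_zero]; exact one_mem _
          | succ n ih => rw [succ_nsmul, D.coord_add]; exact mul_mem ih hw
        rw [D.coord_add]
        exact mul_mem (hn _ _ haH) (hn _ _ hrotH)
      set PK := P.subtype hPK with hPKdef
      have hPKH : (PK : Subgroup K) ≤ H := fun x hx => by
        have hx' : (x : G) ∈ (P : Subgroup G) := hx
        obtain ⟨h, hh, e⟩ := hPH hx'
        rwa [show x = h from Subtype.ext e.symm]
      have htop : normalizer ((PK : Subgroup K) : Set K) ⊔ H = ⊤ := Sylow.normalizer_sup_eq_top' PK hPKH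
      let π := QuotientGroup.mk' H
      have hpow : ∀ x : K, ∃ i : ℕ, π x = π ⟨r * c, hkK⟩ ^ i := by
        intro x
        have hx : x ∈ normalizer ((PK : Subgroup K) : Set K) ⊔ H := by rw [htop]; exact mem_top x
        obtain ⟨y, hy, z, hz, rfl⟩ := mem_sup_of_normal_right.1 hx
        have hyN : (y : G) ∈ normalizer ((P : Subgroup G) : Set G) :=
          mem_normalizer_iff.2 fun p => ⟨fun hp => (mem_normalizer_iff.1 hy ⟨p, hPK hp⟩).1 hp, fun hp => by
            have hpK : p ∈ K := by
              have := mul_mem (mul_mem (inv_mem y.2) (hPK hp)) y.2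
              rwa [show (y : G)⁻¹ * ((y : G) * p * (y : G)⁻¹) * y = p by group] at this
            exact (mem_normalizer_iff.1 hy ⟨p, hpK⟩).2 hp⟩
        obtain ⟨i, j, p, hp, e⟩ := D.nor y hyN
        refine ⟨i, ?_⟩
        have hjK : r ^ j ∈ K := by
          have := y.2
          rw [e] at this
          exact (K.mul_mem_cancel_left (pow_mem hkK i)).1 ((K.mul_mem_cancel_right (hPK hp)).1 this)
        have hj : r ^ j = 1 := by
          rw [D.pow_two_r j] at hjK ⊢
          rcases Nat.mod_two_eq_zero_or_one j with e' | e' <;> rw [e'] at hjK ⊢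
          · exact pow_zero r
          · rw [pow_one] at hjK; exact absurd hjK hrK
        have hy' : y = ⟨r * c, hkK⟩ ^ i * ⟨p, hPK hp⟩ := Subtype.ext (by
          rw [e, hj, mul_one]; rfl)
        have h1 : π z = 1 := (QuotientGroup.eq_one_iff z).2 hz
        have h2 : π ⟨p, hPK hp⟩ = 1 := (QuotientGroup.eq_one_iff _).2 (hPKH hp)
        rw [map_mul, h1, mul_one, hy', map_mul, h2, mul_one, map_pow]
      refine eq_top_iff.2 fun x _ => ?_
      have hcK' : commutator K ≤ H := by
        rw [_root_.commutator_def, commutator_le]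
        intro g _ h _
        rw [← QuotientGroup.eq_one_iff]
        change π ⁅g, h⁆ = 1
        obtain ⟨i, hi⟩ := hpow g
        obtain ⟨j, hj⟩ := hpow h
        rw [commutatorElement_def, map_mul, map_mul, map_mul, map_inv, map_inv, hi, hj,
          ((Commute.refl (π ⟨r * c, hkK⟩)).pow_pow i j).eq]
        group
      apply hcK'
      have hx : (x : G) ∈ (commutator K).map K.subtype := by
        rw [map_subtype_commutator, hperf]; exact x.2
      obtain ⟨y, hy, e⟩ := hx
      rwa [show x = y from Subtype.ext e.symm]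
    · left
      push Not at hmeet
      have hfree : ∀ L : Subgroup G, L ≤ H' → (∀ a ∈ (P : Subgroup G), ∀ h ∈ L, a * h * a⁻¹ ∈ L) →
          Nat.card L % 9 = 1 := fun L hL hinv => by
        have hd := card_mod_of_free (P : Subgroup G) L hinv fun a ha ha1 h hh e => by
          by_contra hh1
          exact hmeet h (hcent a ha ha1 h (hH'K (hL hh)) e) hh1 (hL hh)
        rw [D.ti.card] at hd
        have hpos : 0 < Nat.card L := Nat.card_pos
        omega
      have hmod := hfree H' le_rfl fun a ha => hinvH a (hPK ha)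
      have hnot3 : ¬ 3 ∣ Nat.card H' := fun h3 => by omega
      have hcardH : Nat.card H' ∣ Nat.card K := card_dvd_of_le hH'K
      have hsmall : Nat.card H' ∈ ({1, 10, 28} : Finset ℕ) := by
        have hdiv : ∀ N d : ℕ, d ∣ N → N ≤ 1008 → d ∈ N.divisors ∨ N = 0 := fun N d hd _ => by
          rcases Nat.eq_zero_or_pos N with e | e
          · exact Or.inr e
          · exact Or.inl (Nat.mem_divisors.2 ⟨hd, e.ne'⟩)
        have hcop : Nat.Coprime (Nat.card H') 9 := by
          rw [show (9 : ℕ) = 3 ^ 2 from rfl]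
          exact (Nat.prime_three.coprime_iff_not_dvd.2 hnot3).symm.pow_right 2
        rcases hKcard with e | e
        · rw [e] at hcardH
          have h40 : Nat.card H' ∣ 40 := hcop.dvd_of_dvd_mul_left (m := 9) (by simpa using hcardH)
          have hle := Nat.le_of_dvd (by norm_num) h40
          generalize Nat.card H' = d at h40 hmod hle
          interval_cases d <;> first | omega | norm_num
        · rw [e] at hcardH
          have h112 : Nat.card H' ∣ 112 := hcop.dvd_of_dvd_mul_left (m := 9) (by simpa using hcardH)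
          have hle := Nat.le_of_dvd (by norm_num) h112
          generalize Nat.card H' = d at h112 hmod hle
          interval_cases d <;> first | omega | norm_num
      have hnoq : ∀ q : ℕ, q.Prime → q ∣ Nat.card H' → ¬ q ^ 2 ∣ Nat.card H' → q % 9 ≠ 1 →
          (∀ d : ℕ, d * q ∣ Nat.card H' → d % q = 1 → d = 1) → False := by
        intro q hq hdq hsq hq9 hcount
        haveI : Fact q.Prime := ⟨hq⟩
        obtain ⟨Q⟩ := (inferInstance : Nonempty (Sylow q H'))
        have hQc : Nat.card (Q : Subgroup H') = q := by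
          rw [Q.card_eq_multiplicity]
          have h1 : (Nat.card H').factorization q = 1 := by
            have hpos : Nat.card H' ≠ 0 := Nat.card_pos.ne'
            have a1 := (hq.dvd_iff_one_le_factorization hpos).1 hdq
            have a2 : ¬ 2 ≤ (Nat.card H').factorization q := fun h2 =>
              hsq ((hq.pow_dvd_iff_le_factorization hpos).2 h2)
            omega
          rw [h1, pow_one]
        have hnum : Nat.card (Sylow q H') = 1 := by
          refine hcount _ ?_ ?_
          · have hd := Nat.mul_dvd_mul_right Q.card_dvd_index q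
            have he := (Q : Subgroup H').index_mul_card
            rw [hQc] at he
            rwa [he] at hd
          · have := card_sylow_modEq_one q H'
            rwa [Nat.ModEq, Nat.one_mod_eq_one.2 hq.ne_one] at this
        haveI : Subsingleton (Sylow q H') := (Nat.card_eq_one_iff_unique.1 hnum).1
        have hLc : Nat.card ((Q : Subgroup H').map H'.subtype) = q := by
          rw [card_map_of_injective H'.subtype_injective, hQc]
        have hL : ∀ a ∈ (P : Subgroup G), ∀ h ∈ (Q : Subgroup H').map H'.subtype,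
            a * h * a⁻¹ ∈ (Q : Subgroup H').map H'.subtype := by
          rintro a ha _ ⟨h, hh, rfl⟩
          refine ⟨⟨a * (h : G) * a⁻¹, hinvH a (hPK ha) _ h.2⟩, ?_, rfl⟩
          let f : H' →* H' :=
            { toFun := fun x => ⟨a * (x : G) * a⁻¹, hinvH a (hPK ha) _ x.2⟩
              map_one' := Subtype.ext (by simp)
              map_mul' := fun x y => Subtype.ext (by simp only [Subgroup.coe_mul]; group) }
          have hp : IsPGroup q ((Q : Subgroup H').map f) := Q.2.map f
          obtain ⟨R, hR⟩ := hp.exists_le_sylow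
          have := hR (mem_map_of_mem f hh)
          rwa [Subsingleton.elim R Q] at this
        exact hq9 (hLc ▸ hfree _ (map_subtype_le _) hL)
      simp only [Finset.mem_insert, Finset.mem_singleton] at hsmall
      rcases hsmall with h1 | h10 | h28
      · refine (eq_bot_iff_forall _).2 fun x hx => ?_
        have : (x : G) ∈ H' := ⟨x, hx, rfl⟩
        rw [eq_bot_of_card_eq H' h1, mem_bot] at this
        exact Subtype.ext this
      · exact (hnoq 5 (by norm_num) (by omega) (by omega) (by norm_num) fun d hd hd1 => by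
          rw [h10] at hd
          have := Nat.le_of_dvd (by norm_num) hd
          have : d ≤ 2 := by omega
          omega).elim
      · exact (hnoq 7 (by norm_num) (by omega) (by omega) (by norm_num) fun d hd hd1 => by
          rw [h28] at hd
          have := Nat.le_of_dvd (by norm_num) hd
          have : d ≤ 4 := by omega
          omega).elim
  rcases hKcard with hK360 | hK1008
  swap
  · exact absurd hK1008 (SmallSimple.Orders1092.ne_1008 (G := K))
  obtain ⟨φ⟩ := S0497.result (G := K) hK360
  refine sym6_of_alt K hidx φ (fun z hz => ?_) fun x hx => ?_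
  · by_contra hz1
    have hzP : z ∈ (P : Subgroup G) := by
      rw [← hC]
      exact mem_centralizer_iff.2 fun p hp => (hz p (hPK hp)).symm
    have hle : K ≤ normalizer ((P : Subgroup G) : Set G) := fun k hk =>
      D.ti.cent z hzP hz1 (mem_centralizer_singleton_iff.2 (hz k hk).symm)
    have := card_dvd_of_le hle
    rw [hK360, hN] at this
    norm_num at this
  · have hx3 : (x : G) ^ 3 = 1 := by
      rw [← hx, ← Subgroup.coe_pow, pow_orderOf_eq_one, Subgroup.coe_one]
    have hx1 : (x : G) ≠ 1 := fun e => by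
      rw [show x = 1 from Subtype.ext e, orderOf_one] at hx; norm_num at hx
    have hz : IsPGroup 3 (zpowers (x : G)) :=
      IsPGroup.of_card (n := 1) (by rw [Nat.card_zpowers, orderOf_eq_prime hx3 hx1, pow_one])
    obtain ⟨Q, hQ⟩ := hz.exists_le_sylow
    obtain ⟨g, hg⟩ := MulAction.exists_smul_eq G Q P
    have hgx : g * x * g⁻¹ ∈ (P : Subgroup G) := by
      rw [← hg, Sylow.coe_subgroup_smul]
      exact smul_mem_pointwise_smul (x : G) (MulAut.conj g) _ (hQ (mem_zpowers _))
    obtain ⟨t, -, hbase⟩ := D.base hgx (fun e => hx1 (conj_eq_one_iff.1 e))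
    have hKn : K.Normal := inferInstance
    have key : ∀ u v : G, g * x * g⁻¹ = t * u * t⁻¹ → v ∉ K → v * u = u * v →
        ∃ s : G, s ∉ K ∧ s * x = x * s := fun u v hu hv hvu => by
      refine ⟨g⁻¹ * t * v * (g⁻¹ * t)⁻¹, fun hs => hv ?_, ?_⟩
      · have := hKn.conj_mem _ hs (g⁻¹ * t)⁻¹
        rwa [show (g⁻¹ * t)⁻¹ * (g⁻¹ * t * v * (g⁻¹ * t)⁻¹) * ((g⁻¹ * t)⁻¹)⁻¹ = v by group] at this
      · rw [show (x : G) = g⁻¹ * (g * x * g⁻¹) * g by group, hu]
        calc g⁻¹ * t * v * (g⁻¹ * t)⁻¹ * (g⁻¹ * (t * u * t⁻¹) * g) = g⁻¹ * t * (v * u) * t⁻¹ * g := by group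
          _ = g⁻¹ * t * (u * v) * t⁻¹ * g := by rw [hvu]
          _ = _ := by group
    rcases hbase with h | h
    · exact key e1 r h hrK D.re1
    · exact key (e1 * e2) c h hcK D.symm.re1

end Cfsg.Agent.SelfNine
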