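import Mathlib

/-!
# Abelian Sylow `3`-subgroups of order nine with centralizers inside the normalizer

Two elements of order three with product of order three lie in one Sylow subgroup, or all three are
conjugate.
-/

set_option autoImplicit false
set_option linter.style.haveILetI false

namespace Cfsg.Agent.SelfNine

open Subgroup

variable {G : Type*} [Group G] [Finite G]

/-- The hypothesis on a Sylow `3`-subgroup. -/
structure NineTI (P : Sylow 3 G) : Prop where
  card : Nat.card (P : Subgroup G) = 9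
  exp : ∀ a ∈ (P : Subgroup G), a ^ 3 = 1
  comm : ∀ a ∈ (P : Subgroup G), ∀ b ∈ (P : Subgroup G), a * b = b * a
  cent : ∀ a ∈ (P : Subgroup G), a ≠ 1 →
    centralizer ({a} : Set G) ≤ normalizer ((P : Subgroup G) : Set G)

variable {P : Sylow 3 G}

theorem mem_of_mem_normalizer {g : G} (hn : g ∈ normalizer ((P : Subgroup G) : Set G)) (h3 : g ^ 3 = 1) :
    g ∈ (P : Subgroup G) := by
  haveI : Fact (Nat.Prime 3) := ⟨Nat.prime_three⟩
  have hz : IsPGroup 3 (zpowers g) := by
    rcases eq_or_ne g 1 with rfl | hg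
    · rw [zpowers_one_eq_bot]; exact IsPGroup.of_bot
    · exact IsPGroup.of_card (n := 1) (by rw [Nat.card_zpowers, orderOf_eq_prime h3 hg, pow_one])
  have h := P.is_maximal' (P.2.to_sup_of_normal_left' hz (zpowers_le.2 hn)) le_sup_left
  rw [← h]
  exact mem_sup_right (mem_zpowers g)

theorem NineTI.mem_of_commute (h : NineTI P) {a b : G} (ha : a ∈ (P : Subgroup G)) (ha1 : a ≠ 1)
    (hb : b ^ 3 = 1) (hab : a * b = b * a) : b ∈ (P : Subgroup G) :=
  mem_of_mem_normalizer (h.cent a ha ha1 (mem_centralizer_singleton_iff.2 hab.symm)) hb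

theorem NineTI.comm_of_isPGroup (h : NineTI P) {Q : Subgroup G} (hQ : IsPGroup 3 Q) {a b : G}
    (ha : a ∈ Q) (hb : b ∈ Q) : a * b = b * a := by
  haveI : Fact (Nat.Prime 3) := ⟨Nat.prime_three⟩
  obtain ⟨R, hR⟩ := hQ.exists_le_sylow
  obtain ⟨c, hc⟩ := MulAction.exists_smul_eq G R P
  have hm : ∀ g : G, g ∈ Q → c * g * c⁻¹ ∈ (P : Subgroup G) := fun g hg => by
    rw [← hc, Sylow.coe_subgroup_smul]
    exact smul_mem_pointwise_smul g (MulAut.conj c) _ (hR hg)
  have := h.comm _ (hm a ha) _ (hm b hb)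
  rw [show c * a * c⁻¹ * (c * b * c⁻¹) = c * (a * b) * c⁻¹ by group,
    show c * b * c⁻¹ * (c * a * c⁻¹) = c * (b * a) * c⁻¹ by group] at this
  exact mul_left_cancel (mul_right_cancel this)

theorem NineTI.mem_normalizer_of_conj (h : NineTI P) {a c : G} (ha : a ∈ (P : Subgroup G)) (ha1 : a ≠ 1)
    (hb : c * a * c⁻¹ ∈ (P : Subgroup G)) : c ∈ normalizer ((P : Subgroup G) : Set G) := by
  have hb1 : c * a * c⁻¹ ≠ 1 := fun e => ha1 (conj_eq_one_iff.1 e)
  have hle : ∀ s ∈ (P : Subgroup G), c * s * c⁻¹ ∈ (P : Subgroup G) := fun s hs =>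
    h.mem_of_commute hb hb1 (by rw [conj_pow, h.exp s hs, mul_one, mul_inv_cancel]) (by
      rw [show c * a * c⁻¹ * (c * s * c⁻¹) = c * (a * s) * c⁻¹ by group,
        show c * s * c⁻¹ * (c * a * c⁻¹) = c * (s * a) * c⁻¹ by group, h.comm a ha s hs])
  refine mem_normalizer_iff.2 fun s => ⟨hle s, fun hs => ?_⟩
  let f : ↥(P : Subgroup G) → ↥(P : Subgroup G) := fun s => ⟨c * (s : G) * c⁻¹, hle (s : G) s.2⟩
  have hf : Function.Injective f := fun x y e =>
    Subtype.ext (mul_left_cancel (mul_right_cancel (congrArg Subtype.val e)))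
  obtain ⟨t, ht⟩ := (Finite.injective_iff_surjective.1 hf) ⟨_, hs⟩
  have := mul_left_cancel (mul_right_cancel (congrArg Subtype.val ht))
  rw [← this]; exact t.2

/-- An element of order three in the coset of an element of order three modulo a commutative
invariant subgroup without elements of order three is a conjugate of it. -/
theorem isConj_coset {M : Subgroup G} (hcomm : ∀ g ∈ M, ∀ h ∈ M, g * h = h * g)
    (h3 : ∀ m ∈ M, m ^ 3 = 1 → m = 1) {x : G} (hx : x * x * x = 1) (hxM : ∀ m ∈ M, x * m * x⁻¹ ∈ M)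
    {a : G} (ha : a ∈ M) (hax : a * x * (a * x) * (a * x) = 1) : IsConj x (a * x) := by
  classical
  letI : CommGroup M :=
    { (inferInstance : Group M) with mul_comm := fun g h => Subtype.ext (hcomm g g.2 h h.2) }
  let X : M →* M :=
    { toFun := fun m => ⟨x * m * x⁻¹, hxM m m.2⟩
      map_one' := Subtype.ext (by simp)
      map_mul' := fun m n => Subtype.ext (by simp only [Subgroup.coe_mul]; group) }
  have hinj : Function.Injective (powMonoidHom 3 : M →* M) := by
    rw [injective_iff_map_eq_one]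
    intro m hm
    exact Subtype.ext (h3 m m.2 (congrArg Subtype.val hm))
  obtain ⟨b, hb⟩ := (Finite.injective_iff_surjective.1 hinj) ⟨a, ha⟩
  rw [powMonoidHom_apply] at hb
  have hsum : (⟨a, ha⟩ : M) * X ⟨a, ha⟩ * X (X ⟨a, ha⟩) = 1 := Subtype.ext (by
    change a * (x * a * x⁻¹) * (x * (x * a * x⁻¹) * x⁻¹) = 1
    calc a * (x * a * x⁻¹) * (x * (x * a * x⁻¹) * x⁻¹) = a * x * (a * x) * (a * x) * (x * x * x)⁻¹ := by group
      _ = 1 := by rw [hax, hx, inv_one, mul_one])
  have hbsum : b * X b * X (X b) = 1 := hinj (by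
    simp only [powMonoidHom_apply, mul_pow, ← map_pow, hb, hsum, one_pow])
  set n : M := b * b * X b with hn
  have hkey : n * (X n)⁻¹ = ⟨a, ha⟩ := by
    have hXX : X (X b) = (b * X b)⁻¹ := eq_inv_of_mul_eq_one_right hbsum
    rw [hn, map_mul, map_mul, hXX, ← hb, mul_inv_eq_iff_eq_mul, ← mul_assoc, eq_mul_inv_iff_mul_eq,
      pow_succ, pow_two]
    ac_rfl
  refine isConj_iff.2 ⟨n, ?_⟩
  have hk : (n : G) * (x * (n : G) * x⁻¹)⁻¹ = a := congrArg Subtype.val hkey
  calc (n : G) * x * (n : G)⁻¹ = (n : G) * (x * (n : G) * x⁻¹)⁻¹ * x := by group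
    _ = a * x := by rw [hk]

/-- Two elements of order three with product of order three. -/
theorem NineTI.triangle (h : NineTI P) {x y : G} (hxP : x ∈ (P : Subgroup G)) (hx1 : x ≠ 1)
    (hy : y ^ 3 = 1) (hxy : (x * y) ^ 3 = 1) :
    y ∈ (P : Subgroup G) ∨ (IsConj x y ∧ IsConj x (x * y)⁻¹) := by
  classical
  haveI : Fact (Nat.Prime 3) := ⟨Nat.prime_three⟩
  have hx' : x * x * x = 1 := by rw [← pow_two, ← pow_succ]; exact h.exp x hxP
  have hy' : y * y * y = 1 := by rw [← hy, pow_succ, pow_two]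
  have hxy' : x * y * (x * y) * (x * y) = 1 := by rw [← hxy, pow_succ, pow_two]
  set u := x * y⁻¹ with hu
  set v := y⁻¹ * x with hv
  have hinvx : x⁻¹ = x * x := inv_eq_of_mul_eq_one_right (by rw [← mul_assoc]; exact hx')
  have hinvy : y⁻¹ = y * y := inv_eq_of_mul_eq_one_right (by rw [← mul_assoc]; exact hy')
  have huv : u * v = x * y * x := by
    calc u * v = x * (y⁻¹ * y⁻¹) * x := by simp only [hu, hv]; group
      _ = x * (y * y * (y * y)) * x := by rw [hinvy]
      _ = x * (y * y * y) * y * x := by group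
      _ = x * y * x := by rw [hy', mul_one]
  have hvu : v * u = x * y * x := by
    calc v * u = y⁻¹ * (x * x) * y⁻¹ := by simp only [hu, hv]; group
      _ = y⁻¹ * x⁻¹ * y⁻¹ := by rw [hinvx]
      _ = (x * y * (x * y) * (x * y)) * (y⁻¹ * x⁻¹ * y⁻¹) := by rw [hxy', one_mul]
      _ = x * y * x := by group
  have hcuv : u * v = v * u := huv.trans hvu.symm
  set M := Subgroup.closure ({u, v} : Set G) with hM
  have huM : u ∈ M := Subgroup.subset_closure (Set.mem_insert _ _)
  have hvM : v ∈ M := Subgroup.subset_closure (Set.mem_insert_of_mem _ rfl)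
  have hMcomm : ∀ g ∈ M, ∀ k ∈ M, g * k = k * g := by
    have hle : M ≤ Subgroup.centralizer (M : Set G) := by
      rw [hM, Subgroup.centralizer_closure, Subgroup.closure_le]
      rintro g (rfl | rfl) k (rfl | rfl)
      · rfl
      · exact hcuv.symm
      · exact hcuv
      · rfl
    intro g hg k hk
    exact (hle hg k hk).symm
  have hxu : x * u * x⁻¹ = (u * v)⁻¹ := by
    rw [huv]
    calc x * u * x⁻¹ = (x * x) * y⁻¹ * x⁻¹ := by simp only [hu]; group
      _ = (x * y * x)⁻¹ := by rw [← hinvx]; group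
  have hxv : x * v * x⁻¹ = u := by simp only [hu, hv]; group
  have hxM : ∀ m ∈ M, x * m * x⁻¹ ∈ M := by
    intro m hm
    rw [hM] at hm
    induction hm using Subgroup.closure_induction with
    | mem g hg =>
      rcases hg with rfl | rfl
      · rw [hxu]; exact M.inv_mem (M.mul_mem huM hvM)
      · rw [hxv]; exact huM
    | one => simp
    | mul g k _ _ hg hk => rw [show x * (g * k) * x⁻¹ = (x * g * x⁻¹) * (x * k * x⁻¹) by group]; exact M.mul_mem hg hk
    | inv g _ hg => rw [show x * g⁻¹ * x⁻¹ = (x * g * x⁻¹)⁻¹ by group]; exact M.inv_mem hg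
  have hyx : y = u⁻¹ * x := by simp only [hu]; group
  by_cases h3 : ∀ m ∈ M, m ^ 3 = 1 → m = 1
  · right
    refine ⟨?_, ?_⟩
    · rw [hyx]
      exact isConj_coset hMcomm h3 hx' hxM (M.inv_mem huM) (by rw [← hyx]; exact hy')
    · have e : (x * y)⁻¹ = x * (x * u * x⁻¹) * x⁻¹ * x := by
        calc (x * y)⁻¹ = y⁻¹ * x⁻¹ := mul_inv_rev x y
          _ = x⁻¹ * u * x⁻¹ := by simp only [hu]; group
          _ = x * x * u * x⁻¹ := by rw [← hinvx]
          _ = x * (x * u * x⁻¹) * x⁻¹ * x := by group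
      rw [e]
      refine isConj_coset hMcomm h3 hx' hxM (hxM _ (hxM _ huM)) ?_
      rw [← e, ← pow_two, ← pow_succ, inv_pow, hxy, inv_one]
  · left
    push Not at h3
    obtain ⟨m, hm, hm3, hm1⟩ := h3
    let T : Subgroup G :=
      { carrier := {g | g ∈ M ∧ g ^ 3 = 1}
        one_mem' := ⟨M.one_mem, one_pow 3⟩
        mul_mem' := fun {a b} ha hb => ⟨M.mul_mem ha.1 hb.1, by
          rw [Commute.mul_pow (hMcomm a ha.1 b hb.1), ha.2, hb.2, one_mul]⟩
        inv_mem' := fun {a} ha => ⟨M.inv_mem ha.1, by rw [inv_pow, ha.2, inv_one]⟩ }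
    have hT : IsPGroup 3 T := fun g => ⟨1, Subtype.ext (by rw [pow_one]; exact g.2.2)⟩
    have hxT : ∀ g ∈ T, x * g * x⁻¹ ∈ T := fun g hg =>
      ⟨hxM g hg.1, by rw [conj_pow, hg.2, mul_one, mul_inv_cancel]⟩
    have hzN : Subgroup.zpowers x ≤ Subgroup.normalizer (T : Set G) := by
      rw [Subgroup.zpowers_le, Subgroup.mem_normalizer_iff]
      intro g
      refine ⟨hxT g, fun hg => ?_⟩
      have h2 := hxT _ (hxT _ hg)
      have he : x * (x * (x * g * x⁻¹) * x⁻¹) * x⁻¹ = g := by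
        calc x * (x * (x * g * x⁻¹) * x⁻¹) * x⁻¹ = (x * x * x) * g * (x * x * x)⁻¹ := by group
          _ = g := by rw [hx']; group
      rwa [he] at h2
    have hzp : IsPGroup 3 (Subgroup.zpowers x) :=
      IsPGroup.of_card (n := 1) (by rw [Nat.card_zpowers, orderOf_eq_prime (h.exp x hxP) hx1, pow_one])
    have hc := h.comm_of_isPGroup (hT.to_sup_of_normal_left' hzp hzN)
      (Subgroup.mem_sup_right (Subgroup.mem_zpowers x)) (Subgroup.mem_sup_left (show m ∈ T from ⟨hm, hm3⟩))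
    have hmP : m ∈ (P : Subgroup G) := h.mem_of_commute hxP hx1 hm3 hc
    have huN : u ∈ normalizer ((P : Subgroup G) : Set G) :=
      h.cent m hmP hm1 (mem_centralizer_singleton_iff.2 (hMcomm u huM m hm))
    refine mem_of_mem_normalizer ?_ hy
    rw [hyx]
    exact mul_mem (inv_mem huN) (le_normalizer hxP)

/-- The factorisations of an element of `P` lie in `P`, outside the case of one class. -/
theorem NineTI.mem_of_product (h : NineTI P) {x y z g : G} (hz : z ∈ (P : Subgroup G)) (hz1 : z ≠ 1)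
    (hx : x ^ 3 = 1) (hy : y ^ 3 = 1) (hne : ¬ (IsConj z⁻¹ x ∧ IsConj z⁻¹ y))
    (hxg : IsConj x g) (hyg : IsConj y (g⁻¹ * z)) : g ∈ (P : Subgroup G) := by
  obtain ⟨c, hc⟩ := isConj_iff.1 hxg
  obtain ⟨d, hd⟩ := isConj_iff.1 hyg
  have hg3 : g ^ 3 = 1 := by rw [← hc, conj_pow, hx, mul_one, mul_inv_cancel]
  have hq : (z⁻¹ * g) ^ 3 = 1 := by
    rw [show z⁻¹ * g = (g⁻¹ * z)⁻¹ by group, ← hd, inv_pow, conj_pow, hy, mul_one, mul_inv_cancel, inv_one]
  rcases h.triangle (inv_mem hz) (inv_ne_one.2 hz1) hg3 hq with hP | ⟨h1, h2⟩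
  · exact hP
  · rw [show (z⁻¹ * g)⁻¹ = g⁻¹ * z by group] at h2
    exact absurd ⟨h1.trans hxg.symm, h2.trans hyg.symm⟩ hne

end Cfsg.Agent.SelfNine
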