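import Cfsg.Agent.Lib.PrimeBlock.Eigen

/-!
# Values of characters at real elements of order three and six
-/

set_option autoImplicit false
set_option linter.style.haveILetI false

namespace Cfsg.Agent.SelfNine

open Cfsg.Agent.Characters Cfsg.Agent.PrimeBlock

variable {G : Type*} [Group G] [Finite G] {χ : G → ℂ}

/-- The multiplicity of an eigenvalue. -/
theorem mult (h : Cfsg.IsCharacter G χ) {p : ℕ} (hp : p ≠ 0) {x : G} (hx : x ^ p = 1) {μ : ℂ}
    (hμ : μ ^ p = 1) : ∃ m : ℕ, ∑ i ∈ Finset.range p, χ (x ^ i) * μ⁻¹ ^ i = (p : ℂ) * m := by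
  classical
  obtain ⟨n, z, w, hn, hz, hsum⟩ := exists_eigen h hx (Commute.one_right x) (by simp)
  refine ⟨(Finset.univ.filter fun l => z l = μ).card, ?_⟩
  simp only [(hsum _).1, Finset.sum_mul]
  rw [Finset.sum_comm, Finset.card_filter, Nat.cast_sum, Finset.mul_sum]
  refine Finset.sum_congr rfl fun l _ => ?_
  have := sum_pow_div hp (hz l) hμ
  simp only [div_eq_mul_inv, mul_pow] at this
  rw [this]
  split_ifs <;> simp

/-- A primitive cube root of unity. -/
noncomputable def omega3 : ℂ := Complex.exp (2 * Real.pi * Complex.I / 3)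

theorem omega3_prim : IsPrimitiveRoot omega3 3 := by
  have := Complex.isPrimitiveRoot_exp 3 (by norm_num)
  simpa [omega3] using this

theorem omega3_facts : omega3 ^ 3 = 1 ∧ omega3⁻¹ = omega3 ^ 2 ∧ omega3 ^ 2 + omega3 + 1 = 0 := by
  have h := omega3_prim
  refine ⟨h.pow_eq_one, inv_eq_of_mul_eq_one_right (by rw [← pow_succ', h.pow_eq_one]), ?_⟩
  have := h.geom_sum_eq_zero (by norm_num)
  simp only [Finset.sum_range_succ, Finset.sum_range_zero, pow_zero, pow_one, zero_add] at this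
  linear_combination this

/-- A real element of order three. -/
theorem three_value (h : Cfsg.IsCharacter G χ) {x : G} (hx : x ^ 3 = 1) (hr : χ (x ^ 2) = χ x) :
    ∃ (d : ℕ) (a : ℤ), χ 1 = (d : ℂ) ∧ χ x = (a : ℂ) ∧ (3 : ℤ) ∣ (d : ℤ) - a := by
  obtain ⟨d, hd⟩ := char_one_nat h
  obtain ⟨hw, hwi, hs⟩ := omega3_facts
  obtain ⟨m, hm⟩ := mult h (by norm_num) hx hw
  simp only [Finset.sum_range_succ, Finset.sum_range_zero, pow_zero, pow_one, zero_add, mul_one,
    hr, hd, hwi] at hm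
  refine ⟨d, (d : ℤ) - 3 * m, hd, ?_, ⟨m, by ring⟩⟩
  push_cast at hm ⊢
  have h4 : (omega3 ^ 2) ^ 2 = omega3 := by linear_combination omega3 * hw
  rw [h4] at hm
  linear_combination χ x * hs - hm

/-- A real element of order six. -/
theorem six_value (h : Cfsg.IsCharacter G χ) {g : G} (hg : g ^ 6 = 1) (hr : χ (g ^ 5) = χ g)
    (hr2 : χ (g ^ 4) = χ (g ^ 2)) {a : ℤ} (ha : χ (g ^ 2) = (a : ℂ)) :
    ∃ b : ℤ, χ g = (b : ℂ) ∧ (2 : ℤ) ∣ b - a := by
  obtain ⟨hw, hwi, hs⟩ := omega3_facts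
  obtain ⟨m, hm⟩ := mult h (by norm_num) hg (one_pow 6)
  obtain ⟨k, hk⟩ := mult h (by norm_num) hg (μ := omega3) (by
    rw [show (6 : ℕ) = 3 * 2 from rfl, pow_mul, hw, one_pow])
  simp only [Finset.sum_range_succ, Finset.sum_range_zero, pow_zero, pow_one, zero_add, inv_one,
    one_pow, mul_one, hr, hr2, ha, hwi] at hm hk
  refine ⟨2 * ((m : ℤ) - k) - a, ?_, ⟨(m : ℤ) - k - a, by ring⟩⟩
  push_cast at hm hk ⊢
  have h2 : (omega3 ^ 2) ^ 2 = omega3 := by linear_combination omega3 * hw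
  have h3 : (omega3 ^ 2) ^ 3 = 1 := by rw [← pow_mul, show 2 * 3 = 3 * 2 from rfl, pow_mul, hw, one_pow]
  have h4 : (omega3 ^ 2) ^ 4 = omega3 ^ 2 := by rw [pow_succ, h3, one_mul]
  have h5 : (omega3 ^ 2) ^ 5 = omega3 := by rw [show 5 = 3 + 2 from rfl, pow_add, h3, one_mul, h2]
  rw [h2, h3, h4, h5] at hk
  linear_combination (hm - hk) / 3 + ((χ g + (a : ℂ)) / 3) * hs

end Cfsg.Agent.SelfNine
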