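import Cfsg.Agent.Lib.SelfNine.Triangle

/-!
# Coordinates for automizer a Klein four-group
-/

set_option autoImplicit false
set_option linter.style.haveILetI false
set_option linter.unusedSectionVars false

namespace Cfsg.Agent.SelfNine

open Subgroup

variable {G : Type*} [Group G] [Finite G]

/-- Coordinates in the normalizer: `r` fixes `e₁` and inverts `e₂`, `s` the other way round. -/
structure KleinData (P : Sylow 3 G) (e1 e2 r s : G) : Prop where
  ti : NineTI P
  m1 : e1 ∈ (P : Subgroup G)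
  m2 : e2 ∈ (P : Subgroup G)
  gen : ∀ a ∈ (P : Subgroup G), ∃ i j : ℕ, a = e1 ^ i * e2 ^ j
  r2 : r * r = 1
  s2 : s * s = 1
  rs : r * s = s * r
  r1 : r * e1 * r = e1
  r1' : r * e2 * r = e2⁻¹
  s1 : s * e1 * s = e1⁻¹
  s1' : s * e2 * s = e2
  nor : ∀ g ∈ normalizer ((P : Subgroup G) : Set G),
    ∃ k, (k = 1 ∨ k = r ∨ k = s ∨ k = r * s) ∧ ∃ p ∈ (P : Subgroup G), g = k * p

variable {P : Sylow 3 G} {e1 e2 r s : G}

theorem KleinData.symm (D : KleinData P e1 e2 r s) : KleinData P e2 e1 s r := by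
  refine ⟨D.ti, D.m2, D.m1, fun a ha => ?_, D.s2, D.r2, D.rs.symm, D.s1', D.s1, D.r1', D.r1, fun g hg => ?_⟩
  · obtain ⟨i, j, rfl⟩ := D.gen a ha
    exact ⟨j, i, D.ti.comm _ (pow_mem D.m1 i) _ (pow_mem D.m2 j)⟩
  · obtain ⟨k, hk, hp⟩ := D.nor g hg
    refine ⟨k, ?_, hp⟩
    rw [← D.rs]
    tauto

/-- The element with given coordinates. -/
def coord (e1 e2 : G) (a : ZMod 3 × ZMod 3) : G := e1 ^ a.1.val * e2 ^ a.2.val

variable (D : KleinData P e1 e2 r s)
include D

theorem KleinData.coord_mem (a : ZMod 3 × ZMod 3) : coord e1 e2 a ∈ (P : Subgroup G) :=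
  mul_mem (pow_mem D.m1 _) (pow_mem D.m2 _)

theorem KleinData.pow_mod {a : G} (ha : a ∈ (P : Subgroup G)) (i : ℕ) : a ^ i = a ^ ((i : ZMod 3).val) := by
  rw [ZMod.val_natCast]; exact pow_eq_pow_mod i (D.ti.exp a ha)

theorem KleinData.coord_add (a b : ZMod 3 × ZMod 3) :
    coord e1 e2 (a + b) = coord e1 e2 a * coord e1 e2 b := by
  have h1 : e1 ^ (a.1 + b.1).val = e1 ^ a.1.val * e1 ^ b.1.val := by
    rw [← pow_add, D.pow_mod D.m1 (a.1.val + b.1.val)]; simp
  have h2 : e2 ^ (a.2 + b.2).val = e2 ^ a.2.val * e2 ^ b.2.val := by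
    rw [← pow_add, D.pow_mod D.m2 (a.2.val + b.2.val)]; simp
  have hc := D.ti.comm _ (pow_mem D.m1 b.1.val) _ (pow_mem D.m2 a.2.val)
  simp only [coord, Prod.fst_add, Prod.snd_add, h1, h2]
  rw [mul_assoc (e1 ^ a.1.val), ← mul_assoc (e1 ^ b.1.val), hc]
  group

theorem KleinData.coord_zero : coord e1 e2 0 = 1 := by simp [coord]

theorem KleinData.coord_neg (a : ZMod 3 × ZMod 3) : coord e1 e2 (-a) = (coord e1 e2 a)⁻¹ := by
  refine eq_inv_of_mul_eq_one_left ?_
  rw [← D.coord_add, neg_add_cancel, D.coord_zero]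

theorem KleinData.coord_surj {g : G} (hg : g ∈ (P : Subgroup G)) : ∃ a, coord e1 e2 a = g := by
  obtain ⟨i, j, rfl⟩ := D.gen g hg
  exact ⟨((i : ZMod 3), (j : ZMod 3)), by simp only [coord]; rw [← D.pow_mod D.m1, ← D.pow_mod D.m2]⟩

theorem KleinData.coord_inj {a b : ZMod 3 × ZMod 3} (h : coord e1 e2 a = coord e1 e2 b) : a = b := by
  have hs : Function.Surjective fun a : ZMod 3 × ZMod 3 => (⟨coord e1 e2 a, D.coord_mem a⟩ : (P : Subgroup G)) :=
    fun g => by
      obtain ⟨a, ha⟩ := D.coord_surj g.2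
      exact ⟨a, Subtype.ext ha⟩
  exact ((Nat.bijective_iff_surjective_and_card _).2 ⟨hs, by simp [D.ti.card]⟩).1 (Subtype.ext h)

theorem KleinData.e1_eq : coord e1 e2 (1, 0) = e1 := by simp [coord, show (1 : ZMod 3).val = 1 from rfl]
theorem KleinData.e2_eq : coord e1 e2 (0, 1) = e2 := by simp [coord, show (1 : ZMod 3).val = 1 from rfl]
theorem KleinData.d_eq : coord e1 e2 (1, 1) = e1 * e2 := by simp [coord, show (1 : ZMod 3).val = 1 from rfl]

theorem KleinData.coord_ne_one {a : ZMod 3 × ZMod 3} (ha : a ≠ 0) : coord e1 e2 a ≠ 1 :=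
  fun h => ha (D.coord_inj (h.trans D.coord_zero.symm))

theorem KleinData.conj_r (a : ZMod 3 × ZMod 3) : r * coord e1 e2 a * r = coord e1 e2 (a.1, -a.2) := by
  have hr : r⁻¹ = r := inv_eq_of_mul_eq_one_left D.r2
  have h : r * coord e1 e2 a * r = (r * e1 * r⁻¹) ^ a.1.val * (r * e2 * r⁻¹) ^ a.2.val := by
    rw [conj_pow, conj_pow]; simp only [coord]; rw [hr]
    calc r * (e1 ^ a.1.val * e2 ^ a.2.val) * r = r * e1 ^ a.1.val * 1 * e2 ^ a.2.val * r := by group
      _ = _ := by rw [← D.r2]; group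
  rw [h, hr, D.r1, D.r1', inv_pow]
  obtain ⟨i, j⟩ := a
  rw [show ((i, -j) : ZMod 3 × ZMod 3) = (i, 0) + -(0, j) by simp, D.coord_add, D.coord_neg]
  simp [coord]

theorem KleinData.conj_s (a : ZMod 3 × ZMod 3) : s * coord e1 e2 a * s = coord e1 e2 (-a.1, a.2) := by
  have h := D.symm.conj_r (a.2, a.1)
  have hsw : ∀ i j : ZMod 3, coord e2 e1 (i, j) = coord e1 e2 (j, i) := fun i j =>
    D.ti.comm _ (pow_mem D.m2 _) _ (pow_mem D.m1 _)
  simpa [hsw] using h

/-- Conjugacy inside `P`. -/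
theorem KleinData.orbit {a b : ZMod 3 × ZMod 3} (ha : a ≠ 0) (h : IsConj (coord e1 e2 a) (coord e1 e2 b)) :
    b = a ∨ b = (a.1, -a.2) ∨ b = (-a.1, a.2) ∨ b = -a := by
  obtain ⟨c, hc⟩ := isConj_iff.1 h
  obtain ⟨k, hk, p, hp, rfl⟩ := D.nor c (D.ti.mem_normalizer_of_conj (D.coord_mem a) (D.coord_ne_one ha)
    (by rw [hc]; exact D.coord_mem b))
  have hc' : k * coord e1 e2 a * k⁻¹ = coord e1 e2 b := by
    rw [← hc, mul_assoc k p, D.ti.comm p hp _ (D.coord_mem a)]; group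
  rcases hk with rfl | rfl | rfl | rfl
  · left; exact D.coord_inj (by simpa using hc'.symm)
  · rw [inv_eq_of_mul_eq_one_left D.r2, D.conj_r] at hc'
    exact Or.inr (Or.inl (D.coord_inj hc').symm)
  · rw [inv_eq_of_mul_eq_one_left D.s2, D.conj_s] at hc'
    exact Or.inr (Or.inr (Or.inl (D.coord_inj hc').symm))
  · rw [mul_inv_rev, inv_eq_of_mul_eq_one_left D.r2, inv_eq_of_mul_eq_one_left D.s2,
      show r * s * coord e1 e2 a * (s * r) = r * (s * coord e1 e2 a * s) * r by group,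
      D.conj_s, D.conj_r] at hc'
    exact Or.inr (Or.inr (Or.inr (D.coord_inj hc').symm))

theorem KleinData.isConj_neg (a : ZMod 3 × ZMod 3) : IsConj (coord e1 e2 a) (coord e1 e2 (-a)) := by
  refine isConj_iff.2 ⟨r * s, ?_⟩
  rw [mul_inv_rev, inv_eq_of_mul_eq_one_left D.r2, inv_eq_of_mul_eq_one_left D.s2,
    show r * s * coord e1 e2 a * (s * r) = r * (s * coord e1 e2 a * s) * r by group, D.conj_s, D.conj_r]
  rfl

/-- The centralizers of `e₁` and of `e₁ e₂` consist of the evident elements. -/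
theorem KleinData.cent_form {a : ZMod 3 × ZMod 3} (ha : a ≠ 0) {g : G}
    (hg : g ∈ centralizer ({coord e1 e2 a} : Set G)) : ∃ k, ((k = 1 ∨ (k = r ∧ a.2 = 0)) ∨
      (k = s ∧ a.1 = 0)) ∧ ∃ p ∈ (P : Subgroup G), g = k * p := by
  obtain ⟨k, hk, p, hp, rfl⟩ := D.nor g (D.ti.cent _ (D.coord_mem a) (D.coord_ne_one ha) hg)
  refine ⟨k, ?_, p, hp, rfl⟩
  have hc : k * coord e1 e2 a = coord e1 e2 a * k := by
    have h1 := mem_centralizer_singleton_iff.1 hg
    rw [mul_assoc k p, D.ti.comm p hp _ (D.coord_mem a), ← mul_assoc, ← mul_assoc] at h1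
    exact mul_right_cancel h1
  have hneg : ∀ z : ZMod 3, -z = z → z = 0 := by decide
  rcases hk with rfl | rfl | rfl | rfl
  · simp
  · have := D.conj_r a
    rw [hc, mul_assoc, D.r2, mul_one] at this
    exact Or.inl (Or.inr ⟨rfl, hneg _ (congrArg Prod.snd (D.coord_inj this)).symm⟩)
  · have := D.conj_s a
    rw [hc, mul_assoc, D.s2, mul_one] at this
    exact Or.inr ⟨rfl, hneg _ (congrArg Prod.fst (D.coord_inj this)).symm⟩
  · have h2 : r * (s * coord e1 e2 a * s) * r = coord e1 e2 a := by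
      calc r * (s * coord e1 e2 a * s) * r = r * s * coord e1 e2 a * (s * r) := by group
        _ = coord e1 e2 a * (r * ((s * s) * r)) := by rw [hc]; group
        _ = coord e1 e2 a := by rw [D.s2, one_mul, D.r2, mul_one]
    rw [D.conj_s, D.conj_r] at h2
    exact absurd (Prod.ext (hneg _ (congrArg Prod.fst (D.coord_inj h2)))
      (hneg _ (congrArg Prod.snd (D.coord_inj h2)))) ha

theorem KleinData.ne_one_r : r ≠ 1 := fun h => by
  have h2 := D.conj_r (0, 1)
  rw [h, one_mul, mul_one] at h2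
  exact absurd (D.coord_inj h2) (by decide)

theorem KleinData.r_notMem : r ∉ (P : Subgroup G) := fun h => D.ne_one_r (by
  have h3 := D.ti.exp r h
  rw [pow_succ, pow_two, D.r2, one_mul] at h3
  exact h3)

theorem KleinData.card_cent_e1 : Nat.card (centralizer ({e1} : Set G)) = 18 := by
  classical
  have hr : r * e1 = e1 * r := by
    calc r * e1 = r * e1 * (r * r) := by rw [D.r2, mul_one]
      _ = (r * e1 * r) * r := by group
      _ = e1 * r := by rw [D.r1]
  let f : Bool × (P : Subgroup G) → centralizer ({e1} : Set G) := fun bp =>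
    ⟨(if bp.1 then r else 1) * bp.2, mul_mem
      (by rw [mem_centralizer_singleton_iff]; split_ifs <;> simp [hr])
      (mem_centralizer_singleton_iff.2 (D.ti.comm _ bp.2.2 _ D.m1))⟩
  have hf : Function.Bijective f := by
    constructor
    · rintro ⟨a, p⟩ ⟨b, q⟩ h
      have h' := congrArg Subtype.val h
      simp only [f] at h'
      cases a <;> cases b <;> simp only [Bool.false_eq_true, if_false, if_true, one_mul] at h'
      · exact Prod.ext rfl (Subtype.ext h')
      · exact absurd (eq_mul_inv_of_mul_eq h'.symm ▸ mul_mem p.2 (inv_mem q.2)) D.r_notMem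
      · exact absurd (eq_mul_inv_of_mul_eq h' ▸ mul_mem q.2 (inv_mem p.2)) D.r_notMem
      · exact Prod.ext rfl (Subtype.ext (mul_left_cancel h'))
    · intro g
      obtain ⟨k, hk, p, hp, e⟩ := D.cent_form (a := (1, 0)) (by decide) (by rw [D.e1_eq]; exact g.2)
      rcases hk with (rfl | ⟨rfl, -⟩) | ⟨-, h⟩
      · exact ⟨(false, ⟨p, hp⟩), Subtype.ext (by simp [f, e])⟩
      · exact ⟨(true, ⟨p, hp⟩), Subtype.ext (by simp [f, e])⟩
      · exact absurd h (by decide)
  rw [← Nat.card_eq_of_bijective f hf, Nat.card_prod, D.ti.card]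
  simp

theorem KleinData.card_cent_d : Nat.card (centralizer ({e1 * e2} : Set G)) = 9 := by
  have h : centralizer ({e1 * e2} : Set G) = (P : Subgroup G) := by
    refine le_antisymm (fun g hg => ?_) fun g hg =>
      mem_centralizer_singleton_iff.2 (D.ti.comm g hg _ (mul_mem D.m1 D.m2))
    obtain ⟨k, hk, p, hp, rfl⟩ := D.cent_form (a := (1, 1)) (by decide) (by rw [D.d_eq]; exact hg)
    rcases hk with (rfl | ⟨-, h⟩) | ⟨-, h⟩
    · rw [one_mul]; exact hp
    · exact absurd h (by decide)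
    · exact absurd h (by decide)
  rw [h, D.ti.card]

theorem KleinData.six_pow : (e1 * r) ^ 2 = e1⁻¹ ∧ (e1 * r) ^ 3 = r ∧ (e1 * r) ^ 4 = e1 ∧
    (e1 * r) ^ 6 = 1 ∧ orderOf (e1 * r) = 6 := by
  have hr : Commute e1 r := by
    symm
    calc r * e1 = r * e1 * (r * r) := by rw [D.r2, mul_one]
      _ = (r * e1 * r) * r := by group
      _ = e1 * r := by rw [D.r1]
  have hr2 : r ^ 2 = 1 := by rw [pow_two, D.r2]
  have h3 := D.ti.exp e1 D.m1
  have he : e1⁻¹ = e1 ^ 2 := inv_eq_of_mul_eq_one_right (by rw [← pow_succ', h3])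
  have k2 : (e1 * r) ^ 2 = e1⁻¹ := by rw [hr.mul_pow, hr2, mul_one, he]
  have k3 : (e1 * r) ^ 3 = r := by rw [hr.mul_pow, h3, one_mul, pow_succ, hr2, one_mul]
  have k6 : (e1 * r) ^ 6 = 1 := by rw [show 6 = 3 * 2 from rfl, pow_mul, k3, hr2]
  refine ⟨k2, k3, ?_, k6, ?_⟩
  · rw [show 4 = 3 + 1 from rfl, pow_succ, k3, ← mul_assoc, ← hr.eq, mul_assoc, D.r2, mul_one]
  · haveI : Fact (0 < 6) := ⟨by norm_num⟩
    refine (orderOf_eq_iff (by norm_num)).2 ⟨k6, fun m hm hm0 h => ?_⟩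
    have h1 := orderOf_dvd_of_pow_eq_one h
    have h2 := orderOf_dvd_of_pow_eq_one k6
    have hne : e1⁻¹ ≠ 1 := inv_ne_one.2 (D.e1_eq ▸ D.coord_ne_one (by decide))
    have hd2 : ¬ orderOf (e1 * r) ∣ 2 := fun e => hne (k2 ▸ orderOf_dvd_iff_pow_eq_one.1 e)
    have hd3 : ¬ orderOf (e1 * r) ∣ 3 := fun e => D.ne_one_r (k3 ▸ orderOf_dvd_iff_pow_eq_one.1 e)
    have hle := Nat.le_of_dvd hm0 h1
    generalize orderOf (e1 * r) = o at h2 hd2 hd3 hle
    have ho := Nat.le_of_dvd (by norm_num) h2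
    interval_cases o <;> omega

theorem KleinData.card_cent_six : Nat.card (centralizer ({e1 * r} : Set G)) = 6 := by
  obtain ⟨k2, k3, k4, k6, ho⟩ := D.six_pow
  have h : centralizer ({e1 * r} : Set G) = zpowers (e1 * r) := by
    refine le_antisymm (fun g hg => ?_) (zpowers_le.2 (mem_centralizer_singleton_iff.2 rfl))
    have hc : Commute g (e1 * r) := mem_centralizer_singleton_iff.1 hg
    have hg1 : g ∈ centralizer ({coord e1 e2 (1, 0)} : Set G) :=
      mem_centralizer_singleton_iff.2 (by rw [D.e1_eq, ← k4]; exact hc.pow_right 4)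
    obtain ⟨k, hk, p, hp, rfl⟩ := D.cent_form (by decide) hg1
    have hrz : r ∈ zpowers (e1 * r) := by
      have := pow_mem (mem_zpowers (e1 * r)) 3
      rwa [k3] at this
    have hez : e1 ∈ zpowers (e1 * r) := by
      have := pow_mem (mem_zpowers (e1 * r)) 4
      rwa [k4] at this
    have hkr : k ∈ zpowers (e1 * r) ∧ Commute k r := by
      rcases hk with (rfl | ⟨rfl, -⟩) | ⟨-, h⟩
      · exact ⟨one_mem _, Commute.one_left r⟩
      · exact ⟨hrz, Commute.refl _⟩
      · exact absurd h (by decide)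
    refine mul_mem hkr.1 ?_
    have hpr : Commute (k * p) r := by have := hc.pow_right 3; rwa [k3] at this
    have hpr' : Commute p r := by simpa using (hkr.2.inv_left).mul_left hpr
    obtain ⟨a, rfl⟩ := D.coord_surj hp
    have h2 := D.conj_r a
    rw [mul_assoc, hpr'.eq, ← mul_assoc, D.r2, one_mul] at h2
    have h3 := congrArg Prod.snd (D.coord_inj h2)
    simp only at h3
    rw [show a = (a.1, 0) from Prod.ext rfl ((by decide : ∀ z : ZMod 3, z = -z → z = 0) _ h3)]
    simp only [coord, ZMod.val_zero, pow_zero, mul_one]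
    exact pow_mem hez _
  rw [h, Nat.card_zpowers, ho]

end Cfsg.Agent.SelfNine
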