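import Cfsg.Agent.Lib.SelfNine.KleinData

/-!
# Coordinates from a Klein four-group of automorphisms
-/

set_option autoImplicit false
set_option linter.style.haveILetI false
set_option linter.unusedSectionVars false

namespace Cfsg.Agent.SelfNine

open Subgroup

variable {G : Type*} [Group G] [Finite G] {P : Sylow 3 G}

theorem exists_kleinData (h : NineTI P)
    (hC : centralizer ((P : Subgroup G) : Set G) = (P : Subgroup G))
    [hn : ((P : Subgroup G).subgroupOf (normalizer ((P : Subgroup G) : Set G))).Normal]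
    (hK : IsKleinFour (↥(normalizer ((P : Subgroup G) : Set G)) ⧸
      (P : Subgroup G).subgroupOf (normalizer ((P : Subgroup G) : Set G)))) :
    ∃ e1 e2 r s : G, KleinData P e1 e2 r s ∧
      Nat.card (normalizer ((P : Subgroup G) : Set G)) = 36 := by
  classical
  set N := normalizer ((P : Subgroup G) : Set G) with hN
  set Q := (P : Subgroup G).subgroupOf N with hQ
  haveI : Fact (Nat.Prime 2) := ⟨Nat.prime_two⟩
  have hQc : Nat.card Q = 9 := by
    rw [hQ, Nat.card_congr (subgroupOfEquivOfLe le_normalizer).toEquiv, h.card]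
  have hNc : Nat.card N = 36 := by
    rw [Q.card_eq_card_quotient_mul_card_subgroup, hK.card_four, hQc]
  have K : Sylow 2 N := default
  have hKc : Nat.card (K : Subgroup N) = 4 := by
    obtain ⟨m, hm⟩ := IsPGroup.iff_card.1 K.2
    have hi := K.not_dvd_index
    have hmul := (K : Subgroup N).index_mul_card
    rw [hNc, hm] at hmul
    rw [hm]
    have hle : 2 ^ m ≤ 36 := Nat.le_of_dvd (by norm_num) ⟨_, by rw [← hmul, mul_comm]⟩
    have hm6 : m < 6 := by
      by_contra h6
      have := Nat.pow_le_pow_right (show 1 ≤ 2 by norm_num) (le_of_not_gt h6)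
      omega
    interval_cases m <;> omega
  have hKQ : ∀ k ∈ (K : Subgroup N), k ∈ Q → k = 1 := fun k hk hq => by
    have h1 := orderOf_dvd_natCard (⟨k, hk⟩ : (K : Subgroup N))
    have h2 := orderOf_dvd_natCard (⟨k, hq⟩ : Q)
    rw [hKc, orderOf_mk] at h1
    rw [hQc, orderOf_mk] at h2
    exact orderOf_eq_one_iff.1 (Nat.dvd_one.1 (Nat.dvd_gcd h1 h2))
  have hexp : ∀ k ∈ (K : Subgroup N), k * k = 1 := fun k hk => by
    refine hKQ _ (mul_mem hk hk) ?_
    rw [← QuotientGroup.eq_one_iff, ← pow_two, QuotientGroup.mk_pow]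
    have := Monoid.pow_exponent_eq_one (k : N ⧸ Q)
    rwa [hK.exponent_two] at this
  have hKcomm : ∀ k ∈ (K : Subgroup N), ∀ l ∈ (K : Subgroup N), k * l = l * k := fun k hk l hl => by
    have e : ∀ m ∈ (K : Subgroup N), m⁻¹ = m := fun m hm => inv_eq_of_mul_eq_one_left (hexp m hm)
    calc k * l = (k * l)⁻¹ := (e _ (mul_mem hk hl)).symm
      _ = l * k := by rw [mul_inv_rev, e k hk, e l hl]
  have act : ∀ k : N, ∀ a ∈ (P : Subgroup G), (k : G) * a * (k : G)⁻¹ ∈ (P : Subgroup G) := fun k a ha =>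
    (mem_normalizer_iff.1 k.2 a).1 ha
  have inv' : ∀ k ∈ (K : Subgroup N), (k : G)⁻¹ = (k : G) := fun k hk =>
    inv_eq_of_mul_eq_one_left (congrArg Subtype.val (hexp k hk))
  have act' : ∀ k ∈ (K : Subgroup N), ∀ a ∈ (P : Subgroup G), (k : G) * a * (k : G) ∈ (P : Subgroup G) :=
    fun k hk a ha => by have := act k a ha; rwa [inv' k hk] at this
  have twice : ∀ k ∈ (K : Subgroup N), ∀ a : G, (k : G) * ((k : G) * a * (k : G)) * (k : G) = a := by
    intro k hk a
    have := congrArg Subtype.val (hexp k hk)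
    simp only [Subgroup.coe_mul, Subgroup.coe_one] at this
    calc (k : G) * ((k : G) * a * (k : G)) * (k : G) = ((k : G) * k) * a * ((k : G) * k) := by group
      _ = a := by rw [this, one_mul, mul_one]
  have hmulk : ∀ k ∈ (K : Subgroup N), ∀ a b : G,
      (k : G) * (a * b) * (k : G) = ((k : G) * a * k) * ((k : G) * b * k) := by
    intro k hk a b
    have := congrArg Subtype.val (hexp k hk)
    simp only [Subgroup.coe_mul, Subgroup.coe_one] at this
    calc (k : G) * (a * b) * (k : G) = (k : G) * a * ((k : G) * k) * (b * k) := by rw [this]; group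
      _ = _ := by group
  have faithful : ∀ k ∈ (K : Subgroup N), (∀ a ∈ (P : Subgroup G), (k : G) * a * (k : G) = a) → k = 1 := by
    intro k hk hfix
    refine hKQ k hk (mem_subgroupOf.2 ?_)
    rw [← hC, mem_centralizer_iff]
    intro a ha
    have e := hfix a ha
    calc a * (k : G) = (k : G) * a * (k : G) * (k : G) := by rw [e]
      _ = (k : G) * a * ((k : G) * (k : G)) := by group
      _ = (k : G) * a := by rw [show (k : G) * k = 1 from congrArg Subtype.val (hexp k hk), mul_one]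
  -- an element that does not invert everything
  obtain ⟨r, hr, hr1, a, ha, hainv⟩ : ∃ r ∈ (K : Subgroup N), r ≠ 1 ∧
      ∃ a ∈ (P : Subgroup G), (r : G) * a * (r : G) ≠ a⁻¹ := by
    by_contra hcon
    push Not at hcon
    haveI : Nontrivial (K : Subgroup N) := Finite.one_lt_card_iff_nontrivial.1 (by rw [hKc]; norm_num)
    obtain ⟨⟨k, hk⟩, hk1⟩ := exists_ne (1 : (K : Subgroup N))
    have hk1' : k ≠ 1 := fun e => hk1 (Subtype.ext e)
    have hle : ∀ l ∈ (K : Subgroup N), l = 1 ∨ l = k := by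
      intro l hl
      by_contra hl'
      push Not at hl'
      have := faithful (l * k) (mul_mem hl hk) fun a ha => by
        calc ((l * k : N) : G) * a * ((l * k : N) : G) = (l : G) * ((k : G) * a * k) * l := by
              rw [show ((l * k : N) : G) * a * ((l * k : N) : G) = (l : G) * k * a * ((k * l : N) : G) by
                rw [hKcomm k hk l hl, Subgroup.coe_mul]]
              rw [Subgroup.coe_mul]; group
          _ = (a⁻¹)⁻¹ := by rw [hcon k hk hk1' a ha, hcon l hl hl'.1 a⁻¹ (inv_mem ha)]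
          _ = a := inv_inv a
      exact hl'.2 ((mul_eq_one_iff_eq_inv.1 this).trans (inv_eq_of_mul_eq_one_left (hexp k hk)))
    have h4 : Nat.card (K : Subgroup N) ≤ 2 := by
      let f : Bool → (K : Subgroup N) := fun b => if b then ⟨k, hk⟩ else 1
      have hs : Function.Surjective f := fun ⟨l, hl⟩ => by
        rcases hle l hl with rfl | rfl
        · exact ⟨false, rfl⟩
        · exact ⟨true, rfl⟩
      simpa using Nat.card_le_card_of_surjective f hs
    omega
  obtain ⟨e1, he1⟩ : ∃ e, e = a * ((r : G) * a * (r : G)) := ⟨_, rfl⟩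
  have hm1 : e1 ∈ (P : Subgroup G) := he1 ▸ mul_mem ha (act' r hr a ha)
  have hr_e1 : (r : G) * e1 * (r : G) = e1 := by
    rw [he1, hmulk r hr, twice r hr]
    exact h.comm _ (act' r hr a ha) _ ha
  have he1ne : e1 ≠ 1 := fun e => hainv (eq_inv_of_mul_eq_one_right (he1.symm.trans e))
  obtain ⟨b, hb, hbne⟩ : ∃ b ∈ (P : Subgroup G), (r : G) * b * (r : G) ≠ b := by
    by_contra hcon
    push Not at hcon
    exact hr1 (faithful r hr hcon)
  obtain ⟨e2, he2⟩ : ∃ e, e = b⁻¹ * ((r : G) * b * (r : G)) := ⟨_, rfl⟩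
  have hm2 : e2 ∈ (P : Subgroup G) := he2 ▸ mul_mem (inv_mem hb) (act' r hr b hb)
  have hr_e2 : (r : G) * e2 * (r : G) = e2⁻¹ := by
    have hinvk : (r : G) * b⁻¹ * (r : G) = ((r : G) * b * (r : G))⁻¹ := by
      rw [mul_inv_rev, mul_inv_rev, inv' r hr, mul_assoc]
    rw [he2, hmulk r hr, twice r hr, hinvk]
    group
  have he2ne : e2 ≠ 1 := fun e => hbne (inv_mul_eq_one.1 (he2.symm.trans e)).symm
  have h1pow : ∀ i : ℕ, e1 ^ i = e1 ^ (i % 3) := fun i => pow_eq_pow_mod i (h.exp e1 hm1)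
  have hrpow : ∀ i : ℕ, (r : G) * e1 ^ i * (r : G) = e1 ^ i ∧ (r : G) * e2 ^ i * (r : G) = (e2 ^ i)⁻¹ := by
    intro i
    induction i with
    | zero => simpa using congrArg Subtype.val (hexp r hr)
    | succ i ih =>
      refine ⟨?_, ?_⟩
      · rw [pow_succ, hmulk r hr, ih.1, hr_e1]
      · rw [pow_succ, hmulk r hr, ih.2, hr_e2, mul_inv_rev]
        exact h.comm _ (inv_mem (pow_mem hm2 i)) _ (inv_mem hm2)
  have cube : ∀ g ∈ (P : Subgroup G), g * g = 1 → g = 1 := fun g hg e => by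
    have := h.exp g hg
    rwa [pow_succ, pow_two, e, one_mul] at this
  -- coordinates
  have hsurj : ∀ g ∈ (P : Subgroup G), ∃ i j : ℕ, g = e1 ^ i * e2 ^ j := by
    let F : Fin 3 × Fin 3 → ↥(P : Subgroup G) := fun p =>
      ⟨e1 ^ (p.1 : ℕ) * e2 ^ (p.2 : ℕ), mul_mem (pow_mem hm1 _) (pow_mem hm2 _)⟩
    have ho1 : orderOf e1 = 3 := orderOf_eq_prime (hp := ⟨Nat.prime_three⟩) (h.exp e1 hm1) he1ne
    have ho2 : orderOf e2 = 3 := orderOf_eq_prime (hp := ⟨Nat.prime_three⟩) (h.exp e2 hm2) he2ne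
    have hF : Function.Injective F := by
      rintro ⟨i, j⟩ ⟨i', j'⟩ e
      have e' : e1 ^ (i : ℕ) * e2 ^ (j : ℕ) = e1 ^ (i' : ℕ) * e2 ^ (j' : ℕ) := congrArg Subtype.val e
      have er := congrArg (fun g => (r : G) * g * (r : G)) e'
      simp only [hmulk r hr, (hrpow _).1, (hrpow _).2] at er
      have hj : e2 ^ (j : ℕ) = e2 ^ (j' : ℕ) := by
        have hsq : ((e2 ^ (j : ℕ))⁻¹ * e2 ^ (j' : ℕ)) * ((e2 ^ (j : ℕ))⁻¹ * e2 ^ (j' : ℕ)) = 1 := by
          have x1 : (e1 ^ (i : ℕ))⁻¹ * e1 ^ (i' : ℕ) = e2 ^ (j : ℕ) * (e2 ^ (j' : ℕ))⁻¹ := by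
            rw [inv_mul_eq_iff_eq_mul, ← mul_assoc, e']; group
          have x2 : (e1 ^ (i : ℕ))⁻¹ * e1 ^ (i' : ℕ) = (e2 ^ (j : ℕ))⁻¹ * e2 ^ (j' : ℕ) := by
            rw [inv_mul_eq_iff_eq_mul, ← mul_assoc, er]; group
          calc ((e2 ^ (j : ℕ))⁻¹ * e2 ^ (j' : ℕ)) * ((e2 ^ (j : ℕ))⁻¹ * e2 ^ (j' : ℕ))
              = (e2 ^ (j : ℕ) * (e2 ^ (j' : ℕ))⁻¹) * ((e2 ^ (j : ℕ))⁻¹ * e2 ^ (j' : ℕ)) := by rw [← x2, x1]
            _ = 1 := by
              rw [h.comm _ (pow_mem hm2 _) _ (inv_mem (pow_mem hm2 _))]; group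
        exact inv_mul_eq_one.1 (cube _ (mul_mem (inv_mem (pow_mem hm2 _)) (pow_mem hm2 _)) hsq)
      have hi : e1 ^ (i : ℕ) = e1 ^ (i' : ℕ) := by rw [hj] at e'; exact mul_right_cancel e'
      rw [pow_inj_mod, ho1, Nat.mod_eq_of_lt i.2, Nat.mod_eq_of_lt i'.2] at hi
      rw [pow_inj_mod, ho2, Nat.mod_eq_of_lt j.2, Nat.mod_eq_of_lt j'.2] at hj
      exact Prod.ext (Fin.ext hi) (Fin.ext hj)
    have hFb := (Nat.bijective_iff_injective_and_card F).2 ⟨hF, by simp [h.card]⟩
    intro g hg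
    obtain ⟨p, hp⟩ := hFb.2 ⟨g, hg⟩
    exact ⟨p.1, p.2, (congrArg Subtype.val hp).symm⟩
  -- the second involution
  have line : ∀ k ∈ (K : Subgroup N), ((k : G) * e1 * k = e1 ∨ (k : G) * e1 * k = e1⁻¹) ∧
      ((k : G) * e2 * k = e2 ∨ (k : G) * e2 * k = e2⁻¹) := by
    intro k hk
    have hkr : (k : G) * r = r * k := congrArg Subtype.val (hKcomm k hk r hr)
    have swap : ∀ g : G, (r : G) * ((k : G) * g * k) * r = k * ((r : G) * g * r) * k := fun g => by
      calc (r : G) * ((k : G) * g * k) * r = ((r : G) * k) * g * ((k : G) * r) := by group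
        _ = ((k : G) * r) * g * ((r : G) * k) := by rw [hkr]
        _ = _ := by group
    have three : ∀ e ∈ (P : Subgroup G), ∀ i : ℕ, e ^ i = 1 ∨ e ^ i = e ∨ e ^ i = e⁻¹ := fun e he i => by
      rw [pow_eq_pow_mod i (h.exp e he)]
      rcases (show i % 3 = 0 ∨ i % 3 = 1 ∨ i % 3 = 2 by omega) with w | w | w <;> rw [w]
      · exact Or.inl (pow_zero e)
      · exact Or.inr (Or.inl (pow_one e))
      · exact Or.inr (Or.inr (eq_inv_of_mul_eq_one_left (by rw [← pow_succ, h.exp e he])))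
    constructor
    · obtain ⟨i, j, e⟩ := hsurj _ (act' k hk e1 hm1)
      have hj : e2 ^ j = 1 := by
        have := swap e1
        rw [e, hr_e1, e, hmulk r hr, (hrpow i).1, (hrpow j).2] at this
        refine cube _ (pow_mem hm2 j) ?_
        have h2 := mul_left_cancel this
        nth_rewrite 1 [← h2]
        group
      rw [hj, mul_one] at e
      rcases three e1 hm1 i with w | w | w
      · rw [w] at e
        exact absurd (by have := twice k hk e1; rw [e, mul_one] at this; rw [← this]; exact congrArg Subtype.val (hexp k hk)) he1ne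
      · exact Or.inl (e.trans w)
      · exact Or.inr (e.trans w)
    · obtain ⟨i, j, e⟩ := hsurj _ (act' k hk e2 hm2)
      have hi : e1 ^ i = 1 := by
        have := swap e2
        have hkinv : (k : G) * e2⁻¹ * k = ((k : G) * e2 * k)⁻¹ := by
          rw [mul_inv_rev, mul_inv_rev, inv' k hk, mul_assoc]
        rw [hr_e2, hkinv, e, hmulk r hr, (hrpow i).1, (hrpow j).2, mul_inv_rev,
          h.comm _ (inv_mem (pow_mem hm2 j)) _ (inv_mem (pow_mem hm1 i))] at this
        refine cube _ (pow_mem hm1 i) ?_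
        have h2 := mul_right_cancel this
        nth_rewrite 1 [h2]
        group
      rw [hi, one_mul] at e
      rcases three e2 hm2 j with w | w | w
      · rw [w] at e
        exact absurd (by have := twice k hk e2; rw [e, mul_one] at this; rw [← this]; exact congrArg Subtype.val (hexp k hk)) he2ne
      · exact Or.inl (e.trans w)
      · exact Or.inr (e.trans w)
  have eqone : ∀ k ∈ (K : Subgroup N), (k : G) * e1 * k = e1 → (k : G) * e2 * k = e2 → k = 1 := by
    intro k hk c1 c2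
    refine faithful k hk fun g hg => ?_
    obtain ⟨i, j, rfl⟩ := hsurj g hg
    have hp : ∀ (e : G), (k : G) * e * k = e → ∀ n : ℕ, (k : G) * e ^ n * k = e ^ n := fun e he n => by
      induction n with
      | zero => simpa using congrArg Subtype.val (hexp k hk)
      | succ n ih => rw [pow_succ, hmulk k hk, ih, he]
    rw [hmulk k hk, hp e1 c1, hp e2 c2]
  obtain ⟨l, hl, hl1, hlr⟩ : ∃ l ∈ (K : Subgroup N), l ≠ 1 ∧ l ≠ r := by
    by_contra hcon
    push Not at hcon
    let f : Bool → (K : Subgroup N) := fun b => if b then ⟨r, hr⟩ else 1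
    have hs : Function.Surjective f := fun ⟨l, hl⟩ => by
      rcases eq_or_ne l 1 with rfl | hne
      · exact ⟨false, rfl⟩
      · exact ⟨true, Subtype.ext (hcon l hl hne).symm⟩
    have h2 := Nat.card_le_card_of_surjective f hs
    rw [hKc] at h2
    simp at h2
  have hcomb : ∀ g : G, ((l * r : N) : G) * g * ((l * r : N) : G) = (l : G) * ((r : G) * g * r) * l := fun g => by
    conv_lhs => arg 2; rw [hKcomm l hl r hr]
    simp only [Subgroup.coe_mul]; group
  have hlr' : l * r ≠ 1 := fun e => hlr ((mul_eq_one_iff_eq_inv.1 e).trans (inv_eq_of_mul_eq_one_left (hexp r hr)))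
  have hlinv : ∀ e : G, (l : G) * e⁻¹ * l = ((l : G) * e * l)⁻¹ := fun e => by
    rw [mul_inv_rev, mul_inv_rev, inv' l hl, mul_assoc]
  obtain ⟨s, hs, hs1, hs2, hsr, hsne⟩ : ∃ s ∈ (K : Subgroup N), (s : G) * e1 * s = e1⁻¹ ∧
      (s : G) * e2 * s = e2 ∧ s ≠ r ∧ s ≠ 1 := by
    obtain ⟨c1, c2⟩ := line l hl
    rcases c1 with c1 | c1 <;> rcases c2 with c2 | c2
    · exact absurd (eqone l hl c1 c2) hl1
    · refine absurd (eqone _ (mul_mem hl hr) ?_ ?_) hlr'
      · rw [hcomb, hr_e1, c1]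
      · rw [hcomb, hr_e2, hlinv, c2, inv_inv]
    · exact ⟨l, hl, c1, c2, hlr, hl1⟩
    · refine ⟨l * r, mul_mem hl hr, ?_, ?_, fun e => hl1 (mul_eq_right.1 e), hlr'⟩
      · rw [hcomb, hr_e1, c1]
      · rw [hcomb, hr_e2, hlinv, c2, inv_inv]
  have hKall : ∀ k ∈ (K : Subgroup N), k = 1 ∨ k = r ∨ k = s ∨ k = r * s := by
    let g : Fin 4 → (K : Subgroup N) := ![1, ⟨r, hr⟩, ⟨s, hs⟩, ⟨r * s, mul_mem hr hs⟩]
    have hrs1 : r * s ≠ 1 := fun e => hsr ((eq_inv_of_mul_eq_one_right e).trans (inv_eq_of_mul_eq_one_left (hexp r hr)))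
    have hg : Function.Injective g := by
      intro i j e
      have e' := congrArg Subtype.val e
      fin_cases i <;> fin_cases j <;>
        first
        | rfl
        | (simp [g, hr1, hr1.symm, hsr, hsr.symm, hsne, hsne.symm, hrs1, hrs1.symm] at e')
    have hgb := (Nat.bijective_iff_injective_and_card g).2 ⟨hg, by simp [hKc]⟩
    intro k hk
    obtain ⟨i, hi⟩ := hgb.2 ⟨k, hk⟩
    have e' := (congrArg Subtype.val hi).symm
    fin_cases i
    · exact Or.inl e'
    · exact Or.inr (Or.inl e')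
    · exact Or.inr (Or.inr (Or.inl e'))
    · exact Or.inr (Or.inr (Or.inr e'))
  refine ⟨e1, e2, r, s, ⟨h, hm1, hm2, hsurj, congrArg Subtype.val (hexp r hr),
    congrArg Subtype.val (hexp s hs), congrArg Subtype.val (hKcomm r hr s hs), hr_e1, hr_e2, hs1, hs2,
    fun g hg => ?_⟩, hNc⟩
  let M : ↥(K : Subgroup N) × ↥Q → N := fun p => (p.1 : N) * p.2
  have hM : Function.Injective M := by
    rintro ⟨k, p⟩ ⟨k', p'⟩ e
    have e' : (k : N) * p = (k' : N) * p' := e
    have hd : (k' : N)⁻¹ * k = 1 := by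
      refine hKQ _ (mul_mem (inv_mem k'.2) k.2) ?_
      have : (k' : N)⁻¹ * k = (p' : N) * (p : N)⁻¹ := by rw [eq_mul_inv_iff_mul_eq, mul_assoc, e']; group
      rw [this]; exact mul_mem p'.2 (inv_mem p.2)
    have hkk : k' = k := Subtype.ext (inv_mul_eq_one.1 hd)
    subst hkk
    exact Prod.ext rfl (Subtype.ext (mul_left_cancel e'))
  have hMb := (Nat.bijective_iff_injective_and_card M).2 ⟨hM, by rw [Nat.card_prod, hKc, hQc, hNc]⟩
  obtain ⟨⟨k, p⟩, hkp⟩ := hMb.2 ⟨g, hg⟩
  refine ⟨((k : N) : G), ?_, ((p : N) : G), p.2, (congrArg Subtype.val hkp).symm⟩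
  rcases hKall k k.2 with e | e | e | e <;> simp [e]

end Cfsg.Agent.SelfNine
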