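import Cfsg.Agent.Lib.SelfNine.KleinData

/-!
# Coordinates for automizer dihedral of order eight
-/

set_option autoImplicit false
set_option linter.style.haveILetI false
set_option linter.unusedSectionVars false

namespace Cfsg.Agent.SelfNine

open Subgroup

variable {G : Type*} [Group G] [Finite G]

/-- Coordinates in the normalizer: `r` fixes `e₁` and inverts `e₂`, `c` exchanges them. -/
structure OctData (P : Sylow 3 G) (e1 e2 r c : G) : Prop where
  ti : NineTI P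
  m1 : e1 ∈ (P : Subgroup G)
  m2 : e2 ∈ (P : Subgroup G)
  gen : ∀ a ∈ (P : Subgroup G), ∃ i j : ℕ, a = e1 ^ i * e2 ^ j
  r2 : r * r = 1
  c2 : c * c = 1
  rc4 : (r * c) ^ 4 = 1
  r1 : r * e1 * r = e1
  r1' : r * e2 * r = e2⁻¹
  c1 : c * e1 * c = e2
  nor : ∀ g ∈ normalizer ((P : Subgroup G) : Set G),
    ∃ i j : ℕ, ∃ p ∈ (P : Subgroup G), g = (r * c) ^ i * r ^ j * p

variable {P : Sylow 3 G} {e1 e2 r c : G}

theorem OctData.c1' (D : OctData P e1 e2 r c) : c * e2 * c = e1 := by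
  rw [← D.c1, show c * (c * e1 * c) * c = (c * c) * e1 * (c * c) by group, D.c2, one_mul, mul_one]

theorem OctData.pow_two_r (D : OctData P e1 e2 r c) (j : ℕ) : r ^ j = r ^ (j % 2) :=
  pow_eq_pow_mod j (by rw [pow_two, D.r2])

theorem OctData.symm (D : OctData P e1 e2 r c) : OctData P (e1 * e2) (e1 * e2⁻¹) c r := by
  have hc := D.ti.comm _ D.m1 _ D.m2
  have hrinv : r⁻¹ = r := inv_eq_of_mul_eq_one_right D.r2
  have hcinv : c⁻¹ = c := inv_eq_of_mul_eq_one_right D.c2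
  have hinv : (r * c)⁻¹ = c * r := by rw [mul_inv_rev, hrinv, hcinv]
  have hcr4 : (c * r) ^ 4 = 1 := by rw [← hinv, inv_pow, D.rc4, inv_one]
  refine ⟨D.ti, mul_mem D.m1 D.m2, mul_mem D.m1 (inv_mem D.m2), fun a ha => ?_, D.c2, D.r2, hcr4, ?_, ?_,
    ?_, fun g hg => ?_⟩
  · obtain ⟨i, j, rfl⟩ := D.gen a ha
    refine ⟨2 * i + 2 * j, 2 * i + j, ?_⟩
    have k : Commute e1 e2 := hc
    rw [k.mul_pow, (k.inv_right).mul_pow, inv_pow]
    calc e1 ^ i * e2 ^ j = e1 ^ i * (e2 ^ (2 * i + 2 * j) * (e2 ^ (2 * i + j))⁻¹) := by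
          rw [show 2 * i + 2 * j = j + (2 * i + j) by ring, pow_add, mul_inv_cancel_right]
      _ = e1 ^ (2 * i + 2 * j + (2 * i + j)) * (e2 ^ (2 * i + 2 * j) * (e2 ^ (2 * i + j))⁻¹) := by
          rw [pow_eq_pow_mod (2 * i + 2 * j + (2 * i + j)) (D.ti.exp e1 D.m1),
            show (2 * i + 2 * j + (2 * i + j)) % 3 = i % 3 by omega, ← pow_eq_pow_mod i (D.ti.exp e1 D.m1)]
      _ = _ := by
          rw [pow_add, mul_assoc, ← mul_assoc (e1 ^ (2 * i + j)), (k.pow_pow _ _).eq]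
          group
  · calc c * (e1 * e2) * c = (c * e1 * c) * (c * e2 * c) := by
          rw [show (c * e1 * c) * (c * e2 * c) = c * e1 * (c * c) * e2 * c by group, D.c2]; group
      _ = e1 * e2 := by rw [D.c1, D.c1', hc]
  · calc c * (e1 * e2⁻¹) * c = (c * e1 * c) * (c * e2 * c)⁻¹ := by
          rw [mul_inv_rev, mul_inv_rev, hcinv]
          rw [show (c * e1 * c) * (c * (e2⁻¹ * c)) = c * e1 * (c * c) * e2⁻¹ * c by group, D.c2]; group
      _ = (e1 * e2⁻¹)⁻¹ := by rw [D.c1, D.c1']; group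
  · calc r * (e1 * e2) * r = (r * e1 * r) * (r * e2 * r) := by
          rw [show (r * e1 * r) * (r * e2 * r) = r * e1 * (r * r) * e2 * r by group, D.r2]; group
      _ = e1 * e2⁻¹ := by rw [D.r1, D.r1']
  · obtain ⟨i, j, p, hp, rfl⟩ := D.nor g hg
    have h3 : r * c = (c * r) ^ 3 := by
      rw [← inv_inv (r * c), hinv, inv_eq_iff_mul_eq_one, ← pow_succ']
      exact hcr4
    have hr : r = (c * r) ^ 3 * c := by rw [← h3, mul_assoc, D.c2, mul_one]
    rw [h3, D.pow_two_r j, ← pow_mul]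
    rcases Nat.mod_two_eq_zero_or_one j with e | e <;> rw [e]
    · exact ⟨3 * i, 0, p, hp, by simp⟩
    · refine ⟨3 * i + 3, 1, p, hp, ?_⟩
      rw [pow_one, pow_one, pow_add]
      conv_lhs => arg 1; arg 2; rw [hr]
      group

variable (D : OctData P e1 e2 r c)
include D

theorem OctData.coord_mem (a : ZMod 3 × ZMod 3) : coord e1 e2 a ∈ (P : Subgroup G) :=
  mul_mem (pow_mem D.m1 _) (pow_mem D.m2 _)

theorem OctData.pow_mod {a : G} (ha : a ∈ (P : Subgroup G)) (i : ℕ) : a ^ i = a ^ ((i : ZMod 3).val) := by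
  rw [ZMod.val_natCast]; exact pow_eq_pow_mod i (D.ti.exp a ha)

theorem OctData.coord_add (a b : ZMod 3 × ZMod 3) :
    coord e1 e2 (a + b) = coord e1 e2 a * coord e1 e2 b := by
  have h1 : e1 ^ (a.1 + b.1).val = e1 ^ a.1.val * e1 ^ b.1.val := by
    rw [← pow_add, D.pow_mod D.m1 (a.1.val + b.1.val)]; simp
  have h2 : e2 ^ (a.2 + b.2).val = e2 ^ a.2.val * e2 ^ b.2.val := by
    rw [← pow_add, D.pow_mod D.m2 (a.2.val + b.2.val)]; simp
  have hc := D.ti.comm _ (pow_mem D.m1 b.1.val) _ (pow_mem D.m2 a.2.val)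
  simp only [coord, Prod.fst_add, Prod.snd_add, h1, h2]
  rw [mul_assoc (e1 ^ a.1.val), ← mul_assoc (e1 ^ b.1.val), hc]
  group

theorem OctData.coord_zero : coord e1 e2 0 = 1 := by simp [coord]

theorem OctData.coord_neg (a : ZMod 3 × ZMod 3) : coord e1 e2 (-a) = (coord e1 e2 a)⁻¹ := by
  refine eq_inv_of_mul_eq_one_left ?_
  rw [← D.coord_add, neg_add_cancel, D.coord_zero]

theorem OctData.coord_surj {g : G} (hg : g ∈ (P : Subgroup G)) : ∃ a, coord e1 e2 a = g := by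
  obtain ⟨i, j, rfl⟩ := D.gen g hg
  exact ⟨((i : ZMod 3), (j : ZMod 3)), by simp only [coord]; rw [← D.pow_mod D.m1, ← D.pow_mod D.m2]⟩

theorem OctData.coord_inj {a b : ZMod 3 × ZMod 3} (h : coord e1 e2 a = coord e1 e2 b) : a = b := by
  have hs : Function.Surjective fun a : ZMod 3 × ZMod 3 => (⟨coord e1 e2 a, D.coord_mem a⟩ : (P : Subgroup G)) :=
    fun g => by
      obtain ⟨a, ha⟩ := D.coord_surj g.2
      exact ⟨a, Subtype.ext ha⟩
  exact ((Nat.bijective_iff_surjective_and_card _).2 ⟨hs, by simp [D.ti.card]⟩).1 (Subtype.ext h)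

theorem OctData.e1_eq : coord e1 e2 (1, 0) = e1 := by simp [coord, show (1 : ZMod 3).val = 1 from rfl]
theorem OctData.e2_eq : coord e1 e2 (0, 1) = e2 := by simp [coord, show (1 : ZMod 3).val = 1 from rfl]
theorem OctData.d_eq : coord e1 e2 (1, 1) = e1 * e2 := by simp [coord, show (1 : ZMod 3).val = 1 from rfl]

theorem OctData.coord_ne_one {a : ZMod 3 × ZMod 3} (ha : a ≠ 0) : coord e1 e2 a ≠ 1 :=
  fun h => ha (D.coord_inj (h.trans D.coord_zero.symm))

omit D in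
theorem inv_conj_coord {t : G} (ht : t * t = 1) (a : ZMod 3 × ZMod 3) :
    t * coord e1 e2 a * t = (t * e1 * t) ^ a.1.val * (t * e2 * t) ^ a.2.val := by
  have hi : t⁻¹ = t := inv_eq_of_mul_eq_one_left ht
  have h : ∀ e : G, ∀ n : ℕ, (t * e * t) ^ n = t * e ^ n * t := fun e n => by
    conv_lhs => rw [← hi]; arg 1; arg 1; arg 1; rw [hi]
    rw [conj_pow, hi]
  rw [h, h]
  simp only [coord]
  calc t * (e1 ^ a.1.val * e2 ^ a.2.val) * t = t * e1 ^ a.1.val * 1 * (e2 ^ a.2.val * t) := by group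
    _ = _ := by rw [← ht]; group

theorem OctData.conj_r (a : ZMod 3 × ZMod 3) : r * coord e1 e2 a * r = coord e1 e2 (a.1, -a.2) := by
  rw [inv_conj_coord D.r2, D.r1, D.r1', inv_pow]
  obtain ⟨i, j⟩ := a
  rw [show ((i, -j) : ZMod 3 × ZMod 3) = (i, 0) + -(0, j) by simp, D.coord_add, D.coord_neg]
  simp [coord]

theorem OctData.conj_c (a : ZMod 3 × ZMod 3) : c * coord e1 e2 a * c = coord e1 e2 (a.2, a.1) := by
  rw [inv_conj_coord D.c2, D.c1, D.c1']
  exact D.ti.comm _ (pow_mem D.m2 _) _ (pow_mem D.m1 _)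

/-- The map on coordinates given by `r * c`. -/
def rotate (a : ZMod 3 × ZMod 3) : ZMod 3 × ZMod 3 := (a.2, -a.1)

/-- The map on coordinates given by `(r * c) ^ i * r ^ j`. -/
def octMap (i j : ℕ) (a : ZMod 3 × ZMod 3) : ZMod 3 × ZMod 3 :=
  rotate^[i % 4] (if j % 2 = 0 then a else (a.1, -a.2))

theorem OctData.conj_word (i j : ℕ) (a : ZMod 3 × ZMod 3) :
    (r * c) ^ i * r ^ j * coord e1 e2 a * ((r * c) ^ i * r ^ j)⁻¹ = coord e1 e2 (octMap i j a) := by
  have hrc : ∀ a, r * c * coord e1 e2 a * (r * c)⁻¹ = coord e1 e2 (rotate a) := fun a => by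
    rw [mul_inv_rev, inv_eq_of_mul_eq_one_left D.r2, inv_eq_of_mul_eq_one_left D.c2,
      show r * c * coord e1 e2 a * (c * r) = r * (c * coord e1 e2 a * c) * r by group, D.conj_c, D.conj_r]
    rfl
  have hpow : ∀ n : ℕ, ∀ b, (r * c) ^ n * coord e1 e2 b * ((r * c) ^ n)⁻¹ =
      coord e1 e2 (rotate^[n] b) := by
    intro n
    induction n with
    | zero => intro b; simp
    | succ n ih =>
      intro b
      rw [pow_succ', mul_inv_rev, show r * c * (r * c) ^ n * coord e1 e2 b * (((r * c) ^ n)⁻¹ * (r * c)⁻¹) =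
        r * c * ((r * c) ^ n * coord e1 e2 b * ((r * c) ^ n)⁻¹) * (r * c)⁻¹ by group, ih, hrc,
        Function.iterate_succ_apply' rotate]
  rw [pow_eq_pow_mod i D.rc4, D.pow_two_r j, mul_inv_rev,
    show (r * c) ^ (i % 4) * r ^ (j % 2) * coord e1 e2 a * ((r ^ (j % 2))⁻¹ * ((r * c) ^ (i % 4))⁻¹) =
      (r * c) ^ (i % 4) * (r ^ (j % 2) * coord e1 e2 a * (r ^ (j % 2))⁻¹) * ((r * c) ^ (i % 4))⁻¹ by group]
  rcases Nat.mod_two_eq_zero_or_one j with e | e
  · simp only [octMap, e, pow_zero, one_mul, inv_one, mul_one, if_true]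
    exact hpow _ _
  · simp only [octMap, e, pow_one, inv_eq_of_mul_eq_one_left D.r2, D.conj_r]
    exact hpow _ _

/-- An element of the normalizer fixing a given nonzero element. -/
theorem OctData.cent_form {a : ZMod 3 × ZMod 3} (ha : a ≠ 0) {g : G}
    (hg : g ∈ centralizer ({coord e1 e2 a} : Set G)) : ∃ i j : ℕ, octMap i j a = a ∧
      ∃ p ∈ (P : Subgroup G), g = (r * c) ^ i * r ^ j * p := by
  obtain ⟨i, j, p, hp, rfl⟩ := D.nor g (D.ti.cent _ (D.coord_mem a) (D.coord_ne_one ha) hg)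
  refine ⟨i, j, D.coord_inj ?_, p, hp, rfl⟩
  rw [← D.conj_word i j a]
  have h1 := mem_centralizer_singleton_iff.1 hg
  rw [mul_assoc _ p, D.ti.comm p hp _ (D.coord_mem a), ← mul_assoc, ← mul_assoc] at h1
  rw [mul_right_cancel h1, mul_assoc, mul_inv_cancel, mul_one]

/-- On a coordinate axis. -/
def OnAxis (a : ZMod 3 × ZMod 3) : Prop := a.1 = 0 ∨ a.2 = 0

theorem OctData.orbit {a b : ZMod 3 × ZMod 3} (ha : a ≠ 0) (h : IsConj (coord e1 e2 a) (coord e1 e2 b)) :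
    b ≠ 0 ∧ (OnAxis a ↔ OnAxis b) := by
  obtain ⟨g, hg⟩ := isConj_iff.1 h
  obtain ⟨i, j, p, hp, rfl⟩ := D.nor g (D.ti.mem_normalizer_of_conj (D.coord_mem a) (D.coord_ne_one ha)
    (by rw [hg]; exact D.coord_mem b))
  have hg' : (r * c) ^ i * r ^ j * coord e1 e2 a * ((r * c) ^ i * r ^ j)⁻¹ = coord e1 e2 b := by
    rw [← hg, mul_assoc _ p, D.ti.comm p hp _ (D.coord_mem a)]; group
  rw [D.conj_word] at hg'
  rw [← D.coord_inj hg']
  have key : ∀ i : Fin 4, ∀ j : Fin 2, ∀ a : ZMod 3 × ZMod 3, a ≠ 0 →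
      octMap i j a ≠ 0 ∧ ((a.1 = 0 ∨ a.2 = 0) ↔ ((octMap i j a).1 = 0 ∨ (octMap i j a).2 = 0)) := by
    decide
  have := key ⟨i % 4, Nat.mod_lt _ (by norm_num)⟩ ⟨j % 2, Nat.mod_lt _ (by norm_num)⟩ a ha
  simp only [octMap, Nat.mod_mod] at this
  exact this

theorem OctData.isConj_coord {a b : ZMod 3 × ZMod 3} (ha : a ≠ 0) (hb : b ≠ 0)
    (h : OnAxis a ↔ OnAxis b) : IsConj (coord e1 e2 a) (coord e1 e2 b) := by
  have key : ∀ a b : ZMod 3 × ZMod 3, a ≠ 0 → b ≠ 0 → ((a.1 = 0 ∨ a.2 = 0) ↔ (b.1 = 0 ∨ b.2 = 0)) →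
      ∃ i : Fin 4, ∃ j : Fin 2, octMap i j a = b := by
    decide
  obtain ⟨i, j, rfl⟩ := key a b ha hb h
  exact isConj_iff.2 ⟨_, D.conj_word i j a⟩

theorem OctData.isConj_neg {a : ZMod 3 × ZMod 3} (ha : a ≠ 0) :
    IsConj (coord e1 e2 a) (coord e1 e2 (-a)) :=
  D.isConj_coord ha (neg_ne_zero.2 ha) (by simp [OnAxis])

theorem OctData.ne_one_r : r ≠ 1 := fun h => by
  have h2 := D.conj_r (0, 1)
  rw [h, one_mul, mul_one] at h2
  exact absurd (D.coord_inj h2) (by decide)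

theorem OctData.r_notMem : r ∉ (P : Subgroup G) := fun h => D.ne_one_r (by
  have h3 := D.ti.exp r h
  rw [pow_succ, pow_two, D.r2, one_mul] at h3
  exact h3)

theorem OctData.re1 : r * e1 = e1 * r := by
  calc r * e1 = (r * e1 * r) * r := by rw [mul_assoc _ r r, D.r2, mul_one]
    _ = e1 * r := by rw [D.r1]

theorem OctData.cent_e1_form {g : G} (hg : g ∈ centralizer ({e1} : Set G)) :
    ∃ p ∈ (P : Subgroup G), g = p ∨ g = r * p := by
  obtain ⟨i, j, hfix, p, hp, rfl⟩ := D.cent_form (a := (1, 0)) (by decide) (by rw [D.e1_eq]; exact hg)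
  refine ⟨p, hp, ?_⟩
  have key : ∀ i : Fin 4, ∀ j : Fin 2, octMap i j (1, 0) = (1, 0) → (i : ℕ) = 0 := by decide
  have hi := key ⟨i % 4, Nat.mod_lt _ (by norm_num)⟩ ⟨j % 2, Nat.mod_lt _ (by norm_num)⟩
    (by simp only [octMap, Nat.mod_mod] at hfix ⊢; exact hfix)
  simp only at hi
  rw [pow_eq_pow_mod i D.rc4, hi, pow_zero, one_mul, D.pow_two_r j]
  rcases Nat.mod_two_eq_zero_or_one j with e | e <;> rw [e]
  · left; rw [pow_zero, one_mul]
  · right; rw [pow_one]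

theorem OctData.card_cent_e1 : Nat.card (centralizer ({e1} : Set G)) = 18 := by
  classical
  let f : Bool × (P : Subgroup G) → centralizer ({e1} : Set G) := fun bp =>
    ⟨(if bp.1 then r else 1) * bp.2, mul_mem
      (by rw [mem_centralizer_singleton_iff]; split_ifs <;> simp [D.re1])
      (mem_centralizer_singleton_iff.2 (D.ti.comm _ bp.2.2 _ D.m1))⟩
  have hf : Function.Bijective f := by
    constructor
    · rintro ⟨a, p⟩ ⟨b, q⟩ h
      have h' := congrArg Subtype.val h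
      simp only [f] at h'
      cases a <;> cases b <;> simp only [Bool.false_eq_true, if_false, if_true, one_mul] at h'
      · exact Prod.ext rfl (Subtype.ext h')
      · exact absurd (eq_mul_inv_of_mul_eq h'.symm ▸ mul_mem p.2 (inv_mem q.2)) D.r_notMem
      · exact absurd (eq_mul_inv_of_mul_eq h' ▸ mul_mem q.2 (inv_mem p.2)) D.r_notMem
      · exact Prod.ext rfl (Subtype.ext (mul_left_cancel h'))
    · intro g
      obtain ⟨p, hp, e | e⟩ := D.cent_e1_form g.2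
      · exact ⟨(false, ⟨p, hp⟩), Subtype.ext (by simp [f, e])⟩
      · exact ⟨(true, ⟨p, hp⟩), Subtype.ext (by simp [f, e])⟩
  rw [← Nat.card_eq_of_bijective f hf, Nat.card_prod, D.ti.card]
  simp

theorem OctData.six_pow : (e1 * r) ^ 2 = e1⁻¹ ∧ (e1 * r) ^ 3 = r ∧ (e1 * r) ^ 4 = e1 ∧
    (e1 * r) ^ 6 = 1 ∧ orderOf (e1 * r) = 6 := by
  have hr : Commute e1 r := D.re1.symm
  have hr2 : r ^ 2 = 1 := by rw [pow_two, D.r2]
  have h3 := D.ti.exp e1 D.m1
  have he : e1⁻¹ = e1 ^ 2 := inv_eq_of_mul_eq_one_right (by rw [← pow_succ', h3])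
  have k2 : (e1 * r) ^ 2 = e1⁻¹ := by rw [hr.mul_pow, hr2, mul_one, he]
  have k3 : (e1 * r) ^ 3 = r := by rw [hr.mul_pow, h3, one_mul, pow_succ, hr2, one_mul]
  have k6 : (e1 * r) ^ 6 = 1 := by rw [show 6 = 3 * 2 from rfl, pow_mul, k3, hr2]
  refine ⟨k2, k3, ?_, k6, ?_⟩
  · rw [show 4 = 3 + 1 from rfl, pow_succ, k3, ← mul_assoc, ← hr.eq, mul_assoc, D.r2, mul_one]
  · haveI : Fact (0 < 6) := ⟨by norm_num⟩
    refine (orderOf_eq_iff (by norm_num)).2 ⟨k6, fun m hm hm0 h => ?_⟩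
    have h1 := orderOf_dvd_of_pow_eq_one h
    have h2 := orderOf_dvd_of_pow_eq_one k6
    have hne : e1⁻¹ ≠ 1 := inv_ne_one.2 (D.e1_eq ▸ D.coord_ne_one (by decide))
    have hd2 : ¬ orderOf (e1 * r) ∣ 2 := fun e => hne (k2 ▸ orderOf_dvd_iff_pow_eq_one.1 e)
    have hd3 : ¬ orderOf (e1 * r) ∣ 3 := fun e => D.ne_one_r (k3 ▸ orderOf_dvd_iff_pow_eq_one.1 e)
    have hle := Nat.le_of_dvd hm0 h1
    generalize orderOf (e1 * r) = o at h2 hd2 hd3 hle
    have ho := Nat.le_of_dvd (by norm_num) h2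
    interval_cases o <;> omega

theorem OctData.card_cent_six : Nat.card (centralizer ({e1 * r} : Set G)) = 6 := by
  obtain ⟨k2, k3, k4, k6, ho⟩ := D.six_pow
  have h : centralizer ({e1 * r} : Set G) = zpowers (e1 * r) := by
    refine le_antisymm (fun g hg => ?_) (zpowers_le.2 (mem_centralizer_singleton_iff.2 rfl))
    have hc : Commute g (e1 * r) := mem_centralizer_singleton_iff.1 hg
    have hg1 : g ∈ centralizer ({e1} : Set G) :=
      mem_centralizer_singleton_iff.2 (by rw [← k4]; exact hc.pow_right 4)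
    obtain ⟨p, hp, hgp⟩ := D.cent_e1_form hg1
    have hrz : r ∈ zpowers (e1 * r) := by
      have := pow_mem (mem_zpowers (e1 * r)) 3
      rwa [k3] at this
    have hez : e1 ∈ zpowers (e1 * r) := by
      have := pow_mem (mem_zpowers (e1 * r)) 4
      rwa [k4] at this
    have hpr : Commute g r := by have := hc.pow_right 3; rwa [k3] at this
    suffices hz : p ∈ zpowers (e1 * r) by
      rcases hgp with rfl | rfl
      · exact hz
      · exact mul_mem hrz hz
    have hpr' : Commute p r := by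
      rcases hgp with rfl | rfl
      · exact hpr
      · simpa using ((Commute.refl r).inv_left).mul_left hpr
    obtain ⟨a, rfl⟩ := D.coord_surj hp
    have h2 := D.conj_r a
    rw [mul_assoc, hpr'.eq, ← mul_assoc, D.r2, one_mul] at h2
    have h3 := congrArg Prod.snd (D.coord_inj h2)
    simp only at h3
    rw [show a = (a.1, 0) from Prod.ext rfl ((by decide : ∀ z : ZMod 3, z = -z → z = 0) _ h3)]
    simp only [coord, ZMod.val_zero, pow_zero, mul_one]
    exact pow_mem hez _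
  rw [h, Nat.card_zpowers, ho]

end Cfsg.Agent.SelfNine
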