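import Mathlib

/-!
# Integer vectors with a prescribed Gram matrix

An exhaustive search over the multisets of vectors with five coordinates, from a given list of
candidates, whose outer products add up to a given matrix.
-/

set_option autoImplicit false

namespace Cfsg.Agent.SelfNine

/-- A vector with five coordinates. -/
structure V5 where
  x : ℤ
  y : ℤ
  z : ℤ
  w : ℤ
  u : ℤ
deriving DecidableEq

/-- A symmetric matrix of size five. -/
structure M5 where
  xx : ℤ
  yy : ℤ
  zz : ℤ
  ww : ℤ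
  uu : ℤ
  xy : ℤ
  xz : ℤ
  xw : ℤ
  xu : ℤ
  yz : ℤ
  yw : ℤ
  yu : ℤ
  zw : ℤ
  zu : ℤ
  wu : ℤ
deriving DecidableEq

def M5.zero : M5 := ⟨0, 0, 0, 0, 0, 0, 0, 0, 0, 0, 0, 0, 0, 0, 0⟩

def M5.subSq (M : M5) (v : V5) : M5 :=
  ⟨M.xx - v.x * v.x, M.yy - v.y * v.y, M.zz - v.z * v.z, M.ww - v.w * v.w, M.uu - v.u * v.u,
    M.xy - v.x * v.y, M.xz - v.x * v.z, M.xw - v.x * v.w, M.xu - v.x * v.u, M.yz - v.y * v.z,
    M.yw - v.y * v.w, M.yu - v.y * v.u, M.zw - v.z * v.w, M.zu - v.z * v.u, M.wu - v.w * v.u⟩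

def M5.addSq (M : M5) (v : V5) : M5 :=
  ⟨M.xx + v.x * v.x, M.yy + v.y * v.y, M.zz + v.z * v.z, M.ww + v.w * v.w, M.uu + v.u * v.u,
    M.xy + v.x * v.y, M.xz + v.x * v.z, M.xw + v.x * v.w, M.xu + v.x * v.u, M.yz + v.y * v.z,
    M.yw + v.y * v.w, M.yu + v.y * v.u, M.zw + v.z * v.w, M.zu + v.z * v.u, M.wu + v.w * v.u⟩

/-- The sum of the outer squares. -/
def total : List V5 → M5
  | [] => M5.zero
  | v :: l => (total l).addSq v

/-- The inequalities satisfied by every such sum. -/
def M5.Ok (M : M5) : Bool :=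
  decide (0 ≤ M.xx ∧ 0 ≤ M.yy ∧ 0 ≤ M.zz ∧ 0 ≤ M.ww ∧ 0 ≤ M.uu ∧
    M.xy * M.xy ≤ M.xx * M.yy ∧ M.xz * M.xz ≤ M.xx * M.zz ∧ M.xw * M.xw ≤ M.xx * M.ww ∧
    M.xu * M.xu ≤ M.xx * M.uu ∧ M.yz * M.yz ≤ M.yy * M.zz ∧ M.yw * M.yw ≤ M.yy * M.ww ∧
    M.yu * M.yu ≤ M.yy * M.uu ∧ M.zw * M.zw ≤ M.zz * M.ww ∧ M.zu * M.zu ≤ M.zz * M.uu ∧
    M.wu * M.wu ≤ M.ww * M.uu)

theorem adj_le {a b c v w : ℤ} (ha : 0 ≤ a) (hb : 0 ≤ b) (h : c * c ≤ a * b) :
    (c + v * w) * (c + v * w) ≤ (a + v * v) * (b + w * w) := by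
  rcases eq_or_lt_of_le ha with rfl | ha'
  · have hc : c = 0 := by nlinarith
    subst hc; nlinarith [mul_nonneg (mul_self_nonneg v) hb]
  · nlinarith [mul_self_nonneg (a * w - c * v), mul_nonneg (mul_self_nonneg v) (sub_nonneg.2 h)]

theorem ok_total : ∀ l : List V5, (total l).Ok = true
  | [] => by decide
  | v :: l => by
    have h := ok_total l
    simp only [M5.Ok, decide_eq_true_eq] at h ⊢
    obtain ⟨h1, h2, h3, h4, h5, h6, h7, h8, h9, h10, h11, h12, h13, h14, h15⟩ := h
    simp only [total, M5.addSq]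
    exact ⟨add_nonneg h1 (mul_self_nonneg _), add_nonneg h2 (mul_self_nonneg _),
      add_nonneg h3 (mul_self_nonneg _), add_nonneg h4 (mul_self_nonneg _), add_nonneg h5 (mul_self_nonneg _),
      adj_le h1 h2 h6, adj_le h1 h3 h7, adj_le h1 h4 h8, adj_le h1 h5 h9, adj_le h2 h3 h10,
      adj_le h2 h4 h11, adj_le h2 h5 h12, adj_le h3 h4 h13, adj_le h3 h5 h14, adj_le h4 h5 h15⟩

theorem subSq_addSq (M : M5) (v : V5) : (M.addSq v).subSq v = M := by
  simp [M5.addSq, M5.subSq]

theorem addSq_comm (M : M5) (v w : V5) : (M.addSq v).addSq w = (M.addSq w).addSq v := by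
  simp [M5.addSq, add_right_comm]

theorem total_perm {l l' : List V5} (h : l.Perm l') : total l = total l' := by
  induction h with
  | nil => rfl
  | cons v _ ih => simp only [total, ih]
  | swap v w l => simp only [total]; exact addSq_comm _ _ _
  | trans _ _ ih1 ih2 => exact ih1.trans ih2

/-- The search: `fin` must hold of every way to reach zero. -/
def search (fin : List V5 → Bool) : ℕ → List V5 → M5 → List V5 → Bool
  | 0, _, _, _ => false
  | _ + 1, [], M, acc => !decide (M = M5.zero) || fin acc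
  | n + 1, v :: rest, M, acc =>
    (if (M.subSq v).Ok then search fin n (v :: rest) (M.subSq v) (v :: acc) else true) &&
      search fin n rest M acc

theorem search_sound (fin : List V5 → Bool) : ∀ (n : ℕ) (cs : List V5) (M : M5) (acc rows : List V5),
    (∀ r ∈ rows, r ∈ cs) → total rows = M → search fin n cs M acc = true →
      ∃ l, l.Perm (rows ++ acc) ∧ fin l = true := by
  intro n
  induction n with
  | zero => intro cs M acc rows _ _ h; simp [search] at h
  | succ n ih =>
    intro cs M acc rows hmem htot h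
    cases cs with
    | nil =>
      cases rows with
      | nil =>
        simp only [search, ← htot, total, decide_true, Bool.not_true, Bool.false_or] at h
        exact ⟨acc, List.Perm.refl _, h⟩
      | cons r _ => exact absurd (hmem r List.mem_cons_self) (by simp)
    | cons v rest =>
      simp only [search, Bool.and_eq_true] at h
      by_cases hv : v ∈ rows
      · have hp := List.perm_cons_erase hv
        have ht : total (rows.erase v) = M.subSq v := by
          rw [← htot, total_perm hp, total, subSq_addSq]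
        have hok : (M.subSq v).Ok = true := ht ▸ ok_total _
        rw [if_pos hok] at h
        obtain ⟨l, hl, hfin⟩ := ih _ _ _ _ (fun r hr => hmem r (List.mem_of_mem_erase hr)) ht h.1
        exact ⟨l, hl.trans (List.perm_middle.trans (hp.symm.append_right acc)), hfin⟩
      · refine ih rest M acc rows (fun r hr => ?_) htot h.2
        rcases List.mem_cons.1 (hmem r hr) with rfl | h'
        · exact absurd hr hv
        · exact h'

end Cfsg.Agent.SelfNine
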