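import Cfsg.Agent.Lib.SelfNine.Values
import Cfsg.Agent.Lib.SelfNine.Search
import Cfsg.Agent.Lib.SelfNine.OctData
import Cfsg.Agent.Recognition.SelfCentNine
import Cfsg.Agent.S0985

/-!
# The values of the characters for automizer dihedral of order eight
-/

set_option autoImplicit false
set_option linter.style.haveILetI false
set_option linter.unusedSectionVars false

namespace Cfsg.Agent.SelfNine

open Subgroup Cfsg.Agent.Characters
open scoped ComplexConjugate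

variable {G : Type*} [Group G] [Finite G] {P : Sylow 3 G} {e1 e2 r c : G}

/-- The number of Sylow subgroups is one modulo nine. -/
theorem NineTI.card_sylow_mod (h : NineTI P) : Nat.card (Sylow 3 G) % 9 = 1 := by
  classical
  haveI : Fact (Nat.Prime 3) := ⟨Nat.prime_three⟩
  by_contra hne
  obtain ⟨Q, R, hQR, hidx⟩ := S0985.result (G := G) 3 2 (fun hm => hne (by
    rw [Nat.ModEq] at hm; simpa using hm))
  obtain ⟨g, hg⟩ := MulAction.exists_smul_eq G Q P
  have hcard : Nat.card (Q : Subgroup G) = 9 := by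
    rw [← h.card]
    exact Nat.card_congr (Q.equiv P).toEquiv
  set I := (R : Subgroup G).subgroupOf (Q : Subgroup G) with hI
  have hIc := I.index_mul_card
  rw [hcard] at hIc
  have hpos : 1 < Nat.card I := by
    norm_num at hidx
    by_contra hle
    have := Nat.mul_le_mul hidx (not_lt.1 hle)
    omega
  haveI : Nontrivial I := Finite.one_lt_card_iff_nontrivial.1 hpos
  obtain ⟨⟨⟨a, haQ⟩, haR⟩, hne1⟩ := exists_ne (1 : I)
  have ha1 : a ≠ 1 := fun e => hne1 (Subtype.ext (Subtype.ext e))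
  rw [mem_subgroupOf] at haR
  have hP : ∀ x ∈ (Q : Subgroup G), g * x * g⁻¹ ∈ (P : Subgroup G) := fun x hx => by
    rw [← hg, Sylow.coe_subgroup_smul]
    exact smul_mem_pointwise_smul x (MulAut.conj g) _ hx
  apply hQR
  refine Sylow.ext (eq_of_le_of_card_ge ?_ ?_).symm
  · intro x hx
    have hc := h.comm_of_isPGroup R.2 hx haR
    have hx3 : x ^ 3 = 1 := by
      obtain ⟨k, hk⟩ := MulAction.exists_smul_eq G R P
      have hm : k * x * k⁻¹ ∈ (P : Subgroup G) := by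
        rw [← hk, Sylow.coe_subgroup_smul]
        exact smul_mem_pointwise_smul x (MulAut.conj k) _ hx
      exact conj_eq_one_iff.1 (by rw [← conj_pow]; exact h.exp _ hm)
    have hmem := h.mem_of_commute (hP a haQ) (fun e => ha1 (conj_eq_one_iff.1 e)) (b := g * x * g⁻¹)
      (by rw [conj_pow, hx3, mul_one, mul_inv_cancel])
      (by rw [show g * a * g⁻¹ * (g * x * g⁻¹) = g * (a * x) * g⁻¹ by group,
        show g * x * g⁻¹ * (g * a * g⁻¹) = g * (x * a) * g⁻¹ by group, hc])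
    rw [← hg, Sylow.coe_subgroup_smul] at hmem
    exact (smul_mem_pointwise_smul_iff (a := MulAut.conj g)).1 hmem
  · exact (Nat.card_congr (Q.equiv R).toEquiv).le

/-- The classes of the four columns. -/
structure RowsOct (χ : G → ℂ) (e1 e2 r c : G) (f : ℕ) (v : V5) : Prop where
  one : χ 1 = (f : ℂ)
  x : χ e1 = (v.x : ℂ)
  y : χ (e1 * e2) = (v.y : ℂ)
  z : v.z = 0
  w : χ (e1 * r) = (v.w : ℂ)
  u : χ (e1 * e2 * c) = (v.u : ℂ)

variable (D : OctData P e1 e2 r c)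
include D

theorem OctData.isConj_inv_e1 : IsConj e1 e1⁻¹ := by
  rw [← D.e1_eq, ← D.coord_neg]; exact D.isConj_neg (by decide)

theorem OctData.three_val {χ : Cfsg.IrrCharacter G} {a : ZMod 3 × ZMod 3} (ha : a ≠ 0) :
    ∃ (f : ℕ) (x : ℤ), (χ : G → ℂ) 1 = (f : ℂ) ∧ (χ : G → ℂ) (coord e1 e2 a) = (x : ℂ) ∧
      (3 : ℤ) ∣ (f : ℤ) - x := by
  refine three_value (irr_isCharacter χ) (D.ti.exp _ (D.coord_mem a)) ?_
  rw [pow_two, ← D.coord_add]
  have h : a + a = -a := by clear ha; revert a; decide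
  rw [h]
  exact (BlocksChars.ClassAlg.classFun_eq_of_isConj (irr_isClassFunction χ) (D.isConj_neg ha)).symm

theorem OctData.six_val {χ : Cfsg.IrrCharacter G} {x : ℤ} (hx : (χ : G → ℂ) e1 = (x : ℂ)) :
    ∃ w : ℤ, (χ : G → ℂ) (e1 * r) = (w : ℂ) ∧ (2 : ℤ) ∣ w - x := by
  obtain ⟨k2, k3, k4, k6, -⟩ := D.six_pow
  have hc := BlocksChars.ClassAlg.classFun_eq_of_isConj (irr_isClassFunction χ) D.isConj_inv_e1
  refine six_value (irr_isCharacter χ) k6 ?_ ?_ (by rw [k2, ← hc, hx])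
  · refine (BlocksChars.ClassAlg.classFun_eq_of_isConj (irr_isClassFunction χ)
      (isConj_iff.2 ⟨(r * c) ^ 2, ?_⟩)).symm
    have h5 : (e1 * r) ^ 5 = e1⁻¹ * r := by
      rw [show 5 = 2 + 3 from rfl, pow_add, k2, k3]
    have hz : (r * c) ^ 2 * r * ((r * c) ^ 2)⁻¹ = r := by
      have hri : r⁻¹ = r := inv_eq_of_mul_eq_one_right D.r2
      have hci : c⁻¹ = c := inv_eq_of_mul_eq_one_right D.c2
      rw [mul_inv_eq_iff_eq_mul]
      have h4 := D.rc4
      rw [show (r * c) ^ 4 = ((r * c) * (r * c)) * ((r * c) * (r * c)) by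
        rw [show (4 : ℕ) = 2 + 2 from rfl, pow_add, pow_two], ← eq_inv_iff_mul_eq_one] at h4
      have h6 : r * c * (r * c) = c * r * (c * r) := by rw [h4, mul_inv_rev, mul_inv_rev, hri, hci]
      rw [pow_two]
      calc r * c * (r * c) * r = c * r * (c * r) * r := by rw [h6]
        _ = c * r * c := by rw [mul_assoc _ (c * r) r, mul_assoc c r r, D.r2, mul_one]
        _ = r * (r * c * (r * c)) := by
          rw [show r * (r * c * (r * c)) = r * r * (c * r * c) by group, D.r2, one_mul]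
    have he : (r * c) ^ 2 * e1 * ((r * c) ^ 2)⁻¹ = e1⁻¹ := by
      have h2 := D.conj_word 2 0 (1, 0)
      rw [pow_zero, mul_one, D.e1_eq] at h2
      rw [h2, show octMap 2 0 (1, 0) = -((1 : ZMod 3), (0 : ZMod 3)) by decide, D.coord_neg, D.e1_eq]
    rw [h5, show (r * c) ^ 2 * (e1 * r) * ((r * c) ^ 2)⁻¹ =
      (r * c) ^ 2 * e1 * ((r * c) ^ 2)⁻¹ * ((r * c) ^ 2 * r * ((r * c) ^ 2)⁻¹) by group, hz, he]
  · rw [k2, k4]; exact hc

/-- The sum over `P` is divisible by nine. -/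
theorem OctData.dvd_nine {χ : Cfsg.IrrCharacter G} {f : ℕ} {x y : ℤ} (hf : (χ : G → ℂ) 1 = (f : ℂ))
    (hx : (χ : G → ℂ) e1 = (x : ℂ)) (hy : (χ : G → ℂ) (e1 * e2) = (y : ℂ)) :
    (9 : ℤ) ∣ (f : ℤ) + 4 * x + 4 * y := by
  classical
  haveI := Fintype.ofFinite ↥(P : Subgroup G)
  obtain ⟨k, hk⟩ := classInner_char_nat (G := ↥(P : Subgroup G))
    (isCharacter_restrict (P : Subgroup G) (irr_isCharacter χ)) (isCharacter_one (G := ↥(P : Subgroup G)))
  rw [classInner_def, D.ti.card] at hk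
  simp only [map_one, mul_one] at hk
  have hb : Function.Bijective
      fun a : ZMod 3 × ZMod 3 => (⟨coord e1 e2 a, D.coord_mem a⟩ : ↥(P : Subgroup G)) :=
    ⟨fun a b e => D.coord_inj (congrArg Subtype.val e), fun g => by
      obtain ⟨a, ha⟩ := D.coord_surj g.2
      exact ⟨a, Subtype.ext ha⟩⟩
  have hX : ∀ a : ZMod 3 × ZMod 3, a ≠ 0 → (a.1 = 0 ∨ a.2 = 0) →
      (χ : G → ℂ) (coord e1 e2 a) = (x : ℂ) := fun a ha hax => by
    have h1 := D.isConj_coord (a := (1, 0)) (b := a) (by decide) ha (by simp [OnAxis, hax])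
    rw [← BlocksChars.ClassAlg.classFun_eq_of_isConj (irr_isClassFunction χ) h1, D.e1_eq, hx]
  have hY : ∀ a : ZMod 3 × ZMod 3, a ≠ 0 → ¬ (a.1 = 0 ∨ a.2 = 0) →
      (χ : G → ℂ) (coord e1 e2 a) = (y : ℂ) := fun a ha hax => by
    have h1 := D.isConj_coord (a := (1, 1)) (b := a) (by decide) ha (by simp [OnAxis, hax])
    rw [← BlocksChars.ClassAlg.classFun_eq_of_isConj (irr_isClassFunction χ) h1, D.d_eq, hy]
  rw [← hb.sum_comp fun g : ↥(P : Subgroup G) => (χ : G → ℂ) (g : G)] at hk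
  simp only [Fintype.sum_prod_type] at hk
  rw [show (Finset.univ : Finset (ZMod 3)) = {0, 1, 2} from by decide] at hk
  simp only [Finset.sum_insert (show (0 : ZMod 3) ∉ ({1, 2} : Finset (ZMod 3)) by decide),
    Finset.sum_insert (show (1 : ZMod 3) ∉ ({2} : Finset (ZMod 3)) by decide), Finset.sum_singleton,
    hX (0, 1) (by decide) (by decide), hX (0, 2) (by decide) (by decide), hX (1, 0) (by decide) (by decide),
    hX (2, 0) (by decide) (by decide), hY (1, 1) (by decide) (by decide), hY (1, 2) (by decide) (by decide),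
    hY (2, 1) (by decide) (by decide), hY (2, 2) (by decide) (by decide)] at hk
  rw [show (((0 : ZMod 3), (0 : ZMod 3)) : ZMod 3 × ZMod 3) = 0 from rfl, D.coord_zero, hf] at hk
  refine ⟨(k : ℤ), ?_⟩
  have : ((((f : ℤ) + 4 * x + 4 * y : ℤ)) : ℂ) = ((9 * (k : ℤ) : ℤ) : ℂ) := by
    push_cast at hk ⊢
    linear_combination (9 : ℂ) * hk
  exact_mod_cast this

theorem OctData.exists_row (χ : Cfsg.IrrCharacter G) : ∃ (f : ℕ) (v : V5),
    RowsOct (χ : G → ℂ) e1 e2 r c f v ∧ (v.x - v.y) % 3 = 0 ∧ (v.w - v.x) % 2 = 0 ∧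
      (v.u - v.y) % 2 = 0 ∧ ((f : ℤ) + 4 * v.x + 4 * v.y) % 9 = 0 := by
  obtain ⟨f, x, hf, hx, dx⟩ := D.three_val (χ := χ) (a := (1, 0)) (by decide)
  obtain ⟨f', y, hf', hy, dy⟩ := D.three_val (χ := χ) (a := (1, 1)) (by decide)
  obtain rfl : f' = f := by exact_mod_cast hf'.symm.trans hf
  rw [D.e1_eq] at hx
  rw [D.d_eq] at hy
  obtain ⟨w, hw, dw⟩ := D.six_val hx
  obtain ⟨u, hu, du⟩ := D.symm.six_val hy
  exact ⟨f', ⟨x, y, 0, w, u⟩, ⟨hf, hx, hy, rfl, hw, hu⟩, by simp only; omega, by simp only; omega,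
    by simp only; omega, Int.emod_eq_zero_of_dvd (D.dvd_nine hf hx hy)⟩

theorem OctData.not_conj_axis : ¬ IsConj e1 (e1 * e2) := fun h => by
  rw [← D.e1_eq] at h
  nth_rewrite 2 [D.e1_eq] at h
  rw [← D.d_eq] at h
  have := (D.orbit (by decide) h).2
  simp [OnAxis] at this

theorem OctData.not_conj_six {g : G} (hg : g ^ 3 = 1) : ¬ IsConj g (e1 * r) := fun h => by
  obtain ⟨t, ht⟩ := isConj_iff.1 h
  have h6 := D.six_pow.2.2.2.2
  have h3 : (e1 * r) ^ 3 = 1 := by rw [← ht, conj_pow, hg, mul_one, mul_inv_cancel]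
  have := orderOf_dvd_of_pow_eq_one h3
  rw [h6] at this
  norm_num at this

/-- The only factorisations of `e₁ e₂` as a product of two conjugates of `e₁`. -/
theorem OctData.count_two : Nat.card {g : G // IsConj e1 g ∧ IsConj e1 (g⁻¹ * (e1 * e2))} = 2 := by
  classical
  suffices h : Nat.card {g : G // IsConj (coord e1 e2 (1, 0)) g ∧
      IsConj (coord e1 e2 (1, 0)) (g⁻¹ * coord e1 e2 (1, 1))} = 2 by
    rwa [D.e1_eq, D.d_eq] at h
  let f : {i : ZMod 3 × ZMod 3 // i = (1, 0) ∨ i = (0, 1)} → {g : G // IsConj (coord e1 e2 (1, 0)) g ∧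
      IsConj (coord e1 e2 (1, 0)) (g⁻¹ * coord e1 e2 (1, 1))} := fun i =>
    ⟨coord e1 e2 i.1, D.isConj_coord (by decide) (by rcases i.2 with e | e <;> rw [e] <;> decide)
        (by rcases i.2 with e | e <;> rw [e] <;> simp [OnAxis]), by
      rw [← D.coord_neg, ← D.coord_add]
      refine D.isConj_coord (by decide) ?_ ?_ <;> rcases i.2 with e | e <;> rw [e] <;>
        first | decide | simp [OnAxis]⟩
  rw [← Nat.card_eq_of_bijective f ⟨fun a b e => Subtype.ext (D.coord_inj (congrArg Subtype.val e)), ?_⟩]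
  · rw [Nat.card_eq_fintype_card]; rfl
  · rintro ⟨g, h1, h2⟩
    have hg := D.ti.mem_of_product (D.coord_mem (1, 1)) (D.coord_ne_one (by decide))
      (D.ti.exp _ (D.coord_mem (1, 0))) (D.ti.exp _ (D.coord_mem (1, 0)))
      (fun h => by
        rw [← D.coord_neg] at h
        have := (D.orbit (by decide) h.1).2
        simp [OnAxis] at this) h1 h2
    obtain ⟨i, rfl⟩ := D.coord_surj hg
    rw [← D.coord_neg, ← D.coord_add] at h2
    obtain ⟨o1, o1'⟩ := D.orbit (by decide) h1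
    obtain ⟨o2, o2'⟩ := D.orbit (by decide) h2
    have key : ∀ i : ZMod 3 × ZMod 3, i ≠ 0 → -i + (1, 1) ≠ 0 → (i.1 = 0 ∨ i.2 = 0) →
        ((-i + (1, 1)).1 = 0 ∨ (-i + (1, 1)).2 = 0) → i = (1, 0) ∨ i = (0, 1) := by decide
    exact ⟨⟨i, key i o1 o2 (o1'.1 (Or.inr rfl)) (o2'.1 (Or.inr rfl))⟩, rfl⟩

/-- The equation between the class multiplication constant and the order. -/
theorem OctData.sum_cube [Fintype (Cfsg.IrrCharacter G)] (f : Cfsg.IrrCharacter G → ℕ)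
    (x y : Cfsg.IrrCharacter G → ℤ) (hf : ∀ χ : Cfsg.IrrCharacter G, (χ : G → ℂ) 1 = (f χ : ℂ))
    (hx : ∀ χ : Cfsg.IrrCharacter G, (χ : G → ℂ) e1 = (x χ : ℂ))
    (hy : ∀ χ : Cfsg.IrrCharacter G, (χ : G → ℂ) (e1 * e2) = (y χ : ℂ)) :
    (Nat.card G : ℚ) * ∑ χ, (x χ : ℚ) * x χ * y χ / (f χ : ℚ) = 648 := by
  haveI := Fintype.ofFinite G
  have hn : (Nat.card G : ℂ) ≠ 0 := natCard_ne_zero
  have hs := BlocksChars.ClassAlg.classSize_mul_card_centralizer e1
  rw [D.card_cent_e1] at hs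
  have s1 : (BlocksChars.ClassAlg.classSize e1 : ℂ) * 18 = (Nat.card G : ℂ) := by exact_mod_cast hs
  have h2 := Recognition.SelfCentNine.card_mul_eq e1 e1 (e1 * e2)
  rw [D.count_two] at h2
  simp only [hf, hx, hy, map_intCast, Nat.cast_ofNat] at h2
  have hm : ((((Nat.card G : ℚ) * ∑ χ, (x χ : ℚ) * x χ * y χ / (f χ : ℚ) : ℚ)) : ℂ) = ((648 : ℚ) : ℂ) := by
    push_cast
    generalize (∑ χ, (x χ : ℂ) * (x χ : ℂ) * (y χ : ℂ) / (f χ : ℂ)) = T at h2 ⊢
    refine mul_left_cancel₀ hn ?_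
    linear_combination (-(T * ((BlocksChars.ClassAlg.classSize e1 : ℂ) * 18 + (Nat.card G : ℂ)))) * s1 -
      324 * h2
  exact_mod_cast hm

/-- The other equation. -/
theorem OctData.sum_cube' [Fintype (Cfsg.IrrCharacter G)] (f : Cfsg.IrrCharacter G → ℕ)
    (x y : Cfsg.IrrCharacter G → ℤ) (hf : ∀ χ : Cfsg.IrrCharacter G, (χ : G → ℂ) 1 = (f χ : ℂ))
    (hx : ∀ χ : Cfsg.IrrCharacter G, (χ : G → ℂ) e1 = (x χ : ℂ))
    (hy : ∀ χ : Cfsg.IrrCharacter G, (χ : G → ℂ) (e1 * e2) = (y χ : ℂ)) :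
    (Nat.card G : ℚ) * ∑ χ, (x χ : ℚ) * y χ * y χ / (f χ : ℚ) = 648 := by
  rw [← D.symm.sum_cube f y x hf hy fun χ => ?_]
  · congr 1
    exact Finset.sum_congr rfl fun χ _ => by ring
  · have hz : e1 * e2 * (e1 * e2⁻¹) = e1⁻¹ := by
      rw [show e1 * e2 * (e1 * e2⁻¹) = e1 * (e2 * e1) * e2⁻¹ by group, ← D.ti.comm _ D.m1 _ D.m2,
        show e1 * (e1 * e2) * e2⁻¹ = e1 * e1 by group]
      exact eq_inv_of_mul_eq_one_left (by rw [← pow_two, ← pow_succ]; exact D.ti.exp _ D.m1)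
    rw [hz, ← BlocksChars.ClassAlg.classFun_eq_of_isConj (irr_isClassFunction χ) D.isConj_inv_e1, hx]

end Cfsg.Agent.SelfNine
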