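import Cfsg.Agent.Lib.SelfNine.Search

/-!
# The possible rows for automizer dihedral of order eight
-/

set_option autoImplicit false

namespace Cfsg.Agent.SelfNine

/-- The candidates, up to sign; the middle coordinate is unused. -/
def octCands : List V5 :=
  [⟨2, -1, 0, -2, 1⟩, ⟨-2, -2, 0, 2, 0⟩, ⟨0, 0, 0, -2, 0⟩, ⟨1, -2, 0, -1, 2⟩,
   ⟨-1, -1, 0, -1, -1⟩, ⟨-1, -1, 0, -1, 1⟩, ⟨-1, -1, 0, 1, -1⟩, ⟨-1, -1, 0, 1, 1⟩,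
   ⟨3, -3, 0, -1, -1⟩, ⟨3, -3, 0, -1, 1⟩, ⟨3, -3, 0, 1, -1⟩, ⟨3, -3, 0, 1, 1⟩,
   ⟨-3, 0, 0, -1, 0⟩, ⟨-3, 0, 0, 1, 0⟩, ⟨1, -2, 0, -1, 0⟩, ⟨1, -2, 0, 1, 0⟩,
   ⟨-2, -2, 0, 0, 2⟩, ⟨0, 0, 0, 0, -2⟩, ⟨-2, 1, 0, 0, -1⟩, ⟨-2, 1, 0, 0, 1⟩,
   ⟨0, -3, 0, 0, -1⟩, ⟨0, -3, 0, 0, 1⟩, ⟨-2, -2, 0, 0, 0⟩]

/-- The Gram matrix of the four columns, without the trivial character. -/
def octGram : M5 := ⟨17, 17, 0, 5, 5, -1, 0, -1, -1, 0, -1, -1, 0, 0, -1⟩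

/-- A possible family of rows. -/
def octRows0 : List V5 :=
  [⟨-2, -2, 0, 0, 0⟩, ⟨0, -3, 0, 0, 1⟩, ⟨-2, 1, 0, 0, 1⟩, ⟨-2, 1, 0, 0, 1⟩,
   ⟨-2, 1, 0, 0, -1⟩, ⟨-1, -1, 0, 1, -1⟩, ⟨0, 0, 0, -2, 0⟩]

/-- A possible family of rows. -/
def octRows1 : List V5 :=
  [⟨0, -3, 0, 0, 1⟩, ⟨-2, 1, 0, 0, 1⟩, ⟨1, -2, 0, 1, 0⟩, ⟨-3, 0, 0, 1, 0⟩,
   ⟨-1, -1, 0, 1, -1⟩, ⟨-1, -1, 0, -1, 1⟩, ⟨-1, -1, 0, -1, -1⟩]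

/-- A possible family of rows. -/
def octRows2 : List V5 :=
  [⟨0, -3, 0, 0, -1⟩, ⟨-2, 1, 0, 0, -1⟩, ⟨1, -2, 0, 1, 0⟩, ⟨-3, 0, 0, 1, 0⟩,
   ⟨-1, -1, 0, 1, 1⟩, ⟨-1, -1, 0, -1, 1⟩, ⟨-1, -1, 0, -1, 1⟩]

/-- A possible family of rows. -/
def octRows3 : List V5 :=
  [⟨-2, -2, 0, 0, 0⟩, ⟨-2, 1, 0, 0, 1⟩, ⟨-2, 1, 0, 0, -1⟩, ⟨1, -2, 0, 1, 0⟩,
   ⟨1, -2, 0, -1, 0⟩, ⟨-1, -1, 0, 1, 1⟩, ⟨-1, -1, 0, 1, -1⟩, ⟨-1, -1, 0, -1, 1⟩]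

/-- A possible family of rows. -/
def octRows4 : List V5 :=
  [⟨-2, -2, 0, 0, 0⟩, ⟨0, 0, 0, 0, -2⟩, ⟨1, -2, 0, 1, 0⟩, ⟨1, -2, 0, 1, 0⟩,
   ⟨1, -2, 0, -1, 0⟩, ⟨-3, 0, 0, 1, 0⟩, ⟨-1, -1, 0, -1, 1⟩]

/-- A possible family of rows. -/
def octRows5 : List V5 :=
  [⟨0, -3, 0, 0, 1⟩, ⟨-2, 1, 0, 0, 1⟩, ⟨1, -2, 0, -1, 0⟩, ⟨-3, 0, 0, -1, 0⟩,
   ⟨-1, -1, 0, 1, 1⟩, ⟨-1, -1, 0, 1, -1⟩, ⟨-1, -1, 0, 1, -1⟩]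

/-- The six families. -/
def octRows : List (List V5) := [octRows0, octRows1, octRows2, octRows3, octRows4, octRows5]

def octFin (l : List V5) : Bool := decide (l ∈ octRows)

def octCover (v : V5) : Bool :=
  !((v.x - v.y) % 3 == 0 && (v.w - v.x) % 2 == 0 && (v.u - v.y) % 2 == 0 && (octGram.subSq v).Ok) ||
    decide (v = ⟨0, 0, 0, 0, 0⟩ ∨ v ∈ octCands ∨ (⟨-v.x, -v.y, -v.z, -v.w, -v.u⟩ : V5) ∈ octCands)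

theorem octCands_cover : ∀ i j : Fin 9, ∀ a b : Fin 5, octCover
    ⟨(i : ℕ) - 4, (j : ℕ) - 4, 0, (a : ℕ) - 2, (b : ℕ) - 2⟩ = true := by
  decide +kernel

theorem octSearch_eq : search octFin 40 octCands octGram [] = true := by
  decide +kernel

/-- The rows form one of the six families. -/
theorem oct_rows {rows : List V5} (h : ∀ r ∈ rows, r ∈ octCands) (ht : total rows = octGram) :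
    ∃ l ∈ octRows, l.Perm rows := by
  obtain ⟨l, hl, hfin⟩ := search_sound octFin 40 octCands octGram [] rows h ht octSearch_eq
  rw [List.append_nil] at hl
  exact ⟨l, of_decide_eq_true hfin, hl⟩

end Cfsg.Agent.SelfNine
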